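import Groth.Agent.SymX.VeryAmpleTensor

/-!
# When sections embed a scheme into a projective bundle
-/

set_option linter.style.haveILetI false
set_option linter.unusedSectionVars false
set_option backward.isDefEq.respectTransparency false
set_option backward.isDefEq.respectTransparency.types false

noncomputable section

universe u

open CategoryTheory CategoryTheory.Limits AlgebraicGeometry TopologicalSpace Opposite HomogeneousLocalization

namespace Groth.Agent.SymX

open Groth.Agent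

section subring

variable {X : Scheme.{u}} (T : X.Opens)

/-- The morphism to the spectrum of a ring of functions. -/
def subSpec (R : Subring Γ(X, T)) : T.toScheme ⟶ Spec (CommRingCat.of R) :=
  T.toSpecΓ ≫ Spec.map (CommRingCat.ofHom R.subtype)

lemma isImmersion_subSpec_of_hom {A : CommRingCat.{u}} (ψ : A ⟶ Γ(X, T)) (R : Subring Γ(X, T))
    (h : ∀ a, ψ.hom a ∈ R) [IsImmersion (T.toSpecΓ ≫ Spec.map ψ)] : IsImmersion (subSpec T R) := by
  let ψ' : A ⟶ CommRingCat.of R := CommRingCat.ofHom (ψ.hom.codRestrict R h)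
  haveI : IsImmersion (subSpec T R ≫ Spec.map ψ') := by
    rw [subSpec, Category.assoc, ← Spec.map_comp]
    exact inferInstanceAs (IsImmersion (T.toSpecΓ ≫ Spec.map ψ))
  exact IsImmersion.of_comp _ (Spec.map ψ')

lemma isImmersion_subSpec_of_le {R R' : Subring Γ(X, T)} (h : R' ≤ R) [hR : IsImmersion (subSpec T R')] :
    IsImmersion (subSpec T R) := by
  haveI : IsImmersion (T.toSpecΓ ≫ Spec.map (CommRingCat.ofHom R'.subtype)) := hR
  exact isImmersion_subSpec_of_hom T (CommRingCat.ofHom R'.subtype) R fun a => h a.2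

lemma isImmersion_comp_of_subSpec {A : CommRingCat.{u}} (ψ : A ⟶ Γ(X, T)) (R : Subring Γ(X, T))
    (h : R ≤ ψ.hom.range) [IsImmersion (subSpec T R)] : IsImmersion (T.toSpecΓ ≫ Spec.map ψ) := by
  haveI : IsImmersion (subSpec T ψ.hom.range) := isImmersion_subSpec_of_le T h
  let ψ' : A ⟶ CommRingCat.of ψ.hom.range := CommRingCat.ofHom ψ.hom.rangeRestrict
  haveI : IsClosedImmersion (Spec.map ψ') :=
    IsClosedImmersion.spec_of_surjective ψ' ψ.hom.rangeRestrict_surjective
  have e : T.toSpecΓ ≫ Spec.map ψ = subSpec T ψ.hom.range ≫ Spec.map ψ' := by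
    rw [subSpec, Category.assoc, ← Spec.map_comp]
    rfl
  rw [e]
  infer_instance

end subring

variable {X Y : Scheme.{u}} {E : Y.Modules} (g : X ⟶ Y) {L : X.Modules}
  (θ : E ⟶ (Scheme.Modules.pushforward g).obj L)

/-- The scalars and the ratios of the sections with a fixed one, where it is a frame. -/
def ratioSet {U : Y.Opens} (e : Γ(E, U)) : Set Γ(X, AmpleX.locus (th g θ e)) :=
  {a | (∃ r : Γ(Y, U), a = AModX.resR (AmpleX.locus_le (th g θ e)) (g.app U r)) ∨
    ∃ m : Γ(E, U), AModX.res L (AmpleX.locus_le (th g θ e)) (th g θ m) =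
      a • AModX.res L (AmpleX.locus_le (th g θ e)) (th g θ e)}

/-- The ratios with a section embed the open where it is a frame. -/
def ImmAt {U : Y.Opens} (e : Γ(E, U)) : Prop :=
  IsImmersion (subSpec (AmpleX.locus (th g θ e)) (Subring.closure (ratioSet g θ e)))

/-- Around every point some section has ratios embedding the open where it is a frame. -/
def ImmPoints : Prop :=
  ∀ x : X, ∃ (U : Y.Opens) (_ : IsAffineOpen U) (e : Γ(E, U)),
    x ∈ AmpleX.locus (th g θ e) ∧ ImmAt g θ e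

variable {g θ}

lemma ImmPoints.gen (h : ImmPoints g θ) (x : X) :
    ∃ (U : Y.Opens) (_ : IsAffineOpen U) (e : Γ(E, U)), x ∈ AmpleX.locus (th g θ e) := by
  obtain ⟨U, hU, e, he, -⟩ := h x
  exact ⟨U, hU, e, he⟩

/-- Sections giving an immersion into a projective bundle have embedding ratios. -/
theorem immAt_of_immersion (A : Bundle E) {i : X ⟶ A.P} [IsImmersion i] (hi : i ≫ A.p = g)
    (hic : IsCompat' A.φ g θ i) {U : Y.Opens} (hU : IsAffineOpen U) (e : Γ(E, U)) : ImmAt g θ e := by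
  let T := AmpleX.locus (th g θ e)
  let D := dOpen A.p A.chart A.j U hU e
  let R := Subring.closure (ratioSet g θ e)
  have hTU : T ≤ g ⁻¹ᵁ U := AmpleX.locus_le _
  have hfr := AmpleX.isFrame_res_locus (th g θ e)
  have hiD : T ≤ T.ι ''ᵁ ((T.ι ≫ i) ⁻¹ᵁ D) :=
    (hic.isCompat T).le_dOpen A.C A.isRelTwist A.isTaut (by rw [Category.assoc, hi]) hU e hTU le_rfl hfr
  have hD : IsAffineOpen D := isAffineOpen_dOpen (p := A.p) (chart := A.chart) A.C U hU e
  let ρ : Γ(A.P, D) ⟶ Γ(X, T) := CommRingCat.ofHom (pf (T.ι ≫ i) D T hiD)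
  let ρd := ρ.hom.comp (dFun A.p A.chart A.j U hU e)
  have key : ∀ w, ρd w ∈ R := by
    have h0 : ∀ a, ρd (fromZeroRingHom (A.𝒮.deg U hU) _ ((A.𝒮.strZero U hU).hom a)) =
        AModX.resR hTU (g.app U a) := fun a => by
      show pf (T.ι ≫ i) D T hiD (dFun A.p A.chart A.j U hU e _) = _
      rw [← res_p_app A.C A.isRelProj]
      exact pf_base _ (by rw [Category.assoc, hi]) _ T hiD hTU a
    have h1 : ∀ m, AModX.res L hTU (th g θ m) = ρd (ratio A.C U hU e m) • AModX.res L hTU (th g θ e) := fun m =>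
      hic.isCompat T U U hU hU e m D (dOpen_le _ _ _) (dOpen_le _ _ _) _
        (taut_res A.C A.isRelTwist A.isTaut U hU e m) T hiD hTU hTU
    let τ : Γ(Y, U) →+* R := ((AModX.resR hTU).comp (g.app U).hom).codRestrict R fun a =>
      Subring.subset_closure (Or.inl ⟨a, rfl⟩)
    have huniq : ∀ a b : Γ(X, T), a • AModX.res L hTU (th g θ e) = b • AModX.res L hTU (th g θ e) → a = b :=
      fun a b h => hfr.coord_unique le_rfl (by rwa [AModX.res_self])
    let c : Γ(E, U) →+ R := AddMonoidHom.mk'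
      (fun m => ⟨ρd (ratio A.C U hU e m), Subring.subset_closure (Or.inr ⟨m, h1 m⟩)⟩) fun m m' => Subtype.ext
        (huniq _ _ (by
          show ρd (ratio A.C U hU e (m + m')) • _ = (ρd (ratio A.C U hU e m) + ρd (ratio A.C U hU e m')) • _
          rw [add_smul, ← h1, ← h1, ← h1, th_add, map_add]))
    have hc : ∀ a m, c (a • m) = τ a * c m := fun a m => Subtype.ext (huniq _ _ (by
      show ρd (ratio A.C U hU e (a • m)) • _ = (AModX.resR hTU (g.app U a) * ρd (ratio A.C U hU e m)) • _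
      rw [mul_smul, ← h1, ← h1, th_smul, AModX.res_smul]))
    have hce : c e = 1 := Subtype.ext (huniq _ _ (by
      show ρd (ratio A.C U hU e e) • _ = (1 : Γ(X, T)) • _
      rw [one_smul, ← h1]))
    obtain ⟨ρ₀, hρ0, hρ1⟩ := exists_away_hom A.C U hU e τ c hc hce
    have e2 : ρd = R.subtype.comp ρ₀ := away_hom_ext A.C U hU e _ _
      (fun a => (h0 a).trans (congrArg Subtype.val (hρ0 a)).symm)
      (fun m => (congrArg Subtype.val (hρ1 m)).symm)
    intro w
    rw [e2]
    exact (ρ₀ w).2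
  have eqi : T.toSpecΓ ≫ Spec.map ρ ≫ hD.fromSpec = T.ι ≫ i := by
    have hsD : T ≤ T.ι ''ᵁ ((T.toSpecΓ ≫ Spec.map ρ ≫ hD.fromSpec) ⁻¹ᵁ D) := fun x hx =>
      ⟨⟨x, hx⟩, hD.opensRange_fromSpec.le ⟨(T.toSpecΓ ≫ Spec.map ρ) ⟨x, hx⟩, rfl⟩, rfl⟩
    refine eq_of_pf_eq _ _ hD hsD hiD (RingHom.ext fun a => ?_)
    rw [pf_toSpecΓ_fromSpec]
    exact AModX.resR_self (ρ.hom a)
  haveI : IsImmersion ((T.toSpecΓ ≫ Spec.map ρ) ≫ hD.fromSpec) := by
    rw [Category.assoc, eqi]
    infer_instance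
  haveI : IsImmersion (T.toSpecΓ ≫ Spec.map ρ) := IsImmersion.of_comp _ hD.fromSpec
  refine isImmersion_subSpec_of_hom T ρ R fun a => ?_
  obtain ⟨w, rfl⟩ := (dFun_bijective (p := A.p) (chart := A.chart) A.C U hU e).2 a
  exact key w

/-- An immersion into a projective bundle has embedding ratios everywhere. -/
theorem immPoints_of_immersion (A : Bundle E) {i : X ⟶ A.P} [IsImmersion i] (hi : i ≫ A.p = g)
    (hic : IsCompat' A.φ g θ i) (hgen : ∀ x : X, ∃ (U : Y.Opens) (e : Γ(E, U)), x ∈ AmpleX.locus (th g θ e)) :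
    ImmPoints g θ := by
  intro x
  obtain ⟨U₁, e₁, he₁⟩ := hgen x
  obtain ⟨_, ⟨U, hU, rfl⟩, hxU, hle⟩ := Y.isBasis_affineOpens.exists_subset_of_mem_open
    (show g x ∈ U₁ from AmpleX.locus_le (th g θ e₁) he₁) U₁.2
  refine ⟨U, hU, AModX.res E hle e₁, ?_, immAt_of_immersion A hi hic hU _⟩
  rw [th_res, AmpleX.locus_res]
  exact ⟨he₁, hxU⟩

/-- Embedding ratios give an immersion into the projective bundle. -/
theorem isImmersion_of_immPoints (A : Bundle E) {r : X ⟶ A.P} (hr : r ≫ A.p = g)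
    (hrc : IsCompat' A.φ g θ r) (h : ImmPoints g θ) : IsImmersion r := by
  refine isImmersion_of_locally r fun x => ?_
  obtain ⟨U, hU, e, he, himm⟩ := h x
  let T := AmpleX.locus (th g θ e)
  let D := dOpen A.p A.chart A.j U hU e
  have hTU : T ≤ g ⁻¹ᵁ U := AmpleX.locus_le _
  have hfr := AmpleX.isFrame_res_locus (th g θ e)
  have hrD : T ≤ T.ι ''ᵁ ((T.ι ≫ r) ⁻¹ᵁ D) :=
    (hrc.isCompat T).le_dOpen A.C A.isRelTwist A.isTaut (by rw [Category.assoc, hr]) hU e hTU le_rfl hfr
  have hTD : T = r ⁻¹ᵁ D := le_antisymm (fun y hy => by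
      obtain ⟨z, hz, rfl⟩ := hrD hy
      exact hz)
    ((r.preimage_mono (le_locus_taut A.isRelTwist A.C.isGrSymAlg.2 U hU e _ (A.isTaut U hU e))).trans
      (hrc.le_locus A.C A.isRelTwist A.isTaut hr h.gen U hU e))
  refine ⟨D, (show x ∈ r ⁻¹ᵁ D from hTD ▸ he), ?_⟩
  rw [← hTD]
  have hD : IsAffineOpen D := isAffineOpen_dOpen (p := A.p) (chart := A.chart) A.C U hU e
  let ρ : Γ(A.P, D) ⟶ Γ(X, T) := CommRingCat.ofHom (pf (T.ι ≫ r) D T hrD)
  have eqr : (T.toSpecΓ ≫ Spec.map ρ) ≫ hD.fromSpec = T.ι ≫ r := by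
    rw [Category.assoc]
    have hsD : T ≤ T.ι ''ᵁ ((T.toSpecΓ ≫ Spec.map ρ ≫ hD.fromSpec) ⁻¹ᵁ D) := fun x hx =>
      ⟨⟨x, hx⟩, hD.opensRange_fromSpec.le ⟨(T.toSpecΓ ≫ Spec.map ρ) ⟨x, hx⟩, rfl⟩, rfl⟩
    refine eq_of_pf_eq _ _ hD hsD hrD (RingHom.ext fun a => ?_)
    rw [pf_toSpecΓ_fromSpec]
    exact AModX.resR_self (ρ.hom a)
  haveI : IsImmersion (subSpec T (Subring.closure (ratioSet g θ e))) := himm
  haveI : IsImmersion (T.toSpecΓ ≫ Spec.map ρ) := by
    refine isImmersion_comp_of_subSpec T ρ (Subring.closure (ratioSet g θ e)) (Subring.closure_le.2 ?_)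
    rintro a (⟨c, rfl⟩ | ⟨m, hm⟩)
    · exact ⟨_, pf_base _ (by rw [Category.assoc, hr]) (dOpen_le U hU e) T hrD hTU c⟩
    · refine ⟨dFun A.p A.chart A.j U hU e (ratio A.C U hU e m), hfr.coord_unique le_rfl ?_⟩
      rw [AModX.res_self]
      exact (hrc.isCompat T U U hU hU e m D (dOpen_le _ _ _) (dOpen_le _ _ _) _
        (taut_res A.C A.isRelTwist A.isTaut U hU e m) T hrD hTU hTU).symm.trans hm
  rw [← eqr]
  infer_instance

/-- Sections with embedding ratios make the module very ample. -/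
theorem exists_immersion_of_immPoints (hE : Coh.IsQCoh E) (h : ImmPoints g θ) (A : Bundle E) :
    ∃ r : X ⟶ A.P, IsImmersion r ∧ r ≫ A.p = g ∧
      Nonempty (L ≅ (Scheme.Modules.pullback r).obj A.O1) := by
  obtain ⟨r, ⟨hr, hrc⟩, -⟩ := existsUnique_isCompat' A.C A.isRelTwist A.isRelProj hE A.isTaut (θ := θ) h.gen
  obtain ⟨t⟩ := nonempty_iso_of_isCompat' A.C A.isRelTwist A.isRelProj A.isTaut hr hrc h.gen
  exact ⟨r, isImmersion_of_immPoints A hr hrc h, hr, ⟨t.symm⟩⟩

/-- Sections with embedding ratios make the module very ample. -/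
theorem isRelVeryAmple_of_immPoints (hE : Coh.IsQCoh E) (h : ImmPoints g θ) : RelProj.IsRelVeryAmple g L := by
  obtain ⟨A⟩ := nonempty_bundle hE
  obtain ⟨r, h1, h2, h3⟩ := exists_immersion_of_immPoints hE h A
  exact ⟨E, hE, A.𝒮, A.j, A.symAlg, A.P, A.p, A.chart, A.isRelProj, A.O1, A.lam, A.isRelTwist, r, h1, h2, h3⟩

/-- A very ample module has sections with embedding ratios. -/
theorem exists_immPoints_of_isRelVeryAmple (hva : RelProj.IsRelVeryAmple g L) :
    ∃ (E : Y.Modules) (_ : Coh.IsQCoh E) (θ : E ⟶ (Scheme.Modules.pushforward g).obj L), ImmPoints g θ := by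
  obtain ⟨E, hE, A, i, θ, hii, hi, hic, hgen⟩ := exists_theta_of_isRelVeryAmple hva
  exact ⟨E, hE, θ, immPoints_of_immersion A hi hic hgen⟩

section transfer

/-- Embedding ratios pass along open immersions of the source and the base. -/
theorem immAt_of_openImmersion {X' Y' : Scheme.{u}} {E' : Y'.Modules} {g' : X' ⟶ Y'} {L' : X'.Modules}
    {θ' : E' ⟶ (Scheme.Modules.pushforward g').obj L'} (jX : X' ⟶ X) [IsOpenImmersion jX] (jY : Y' ⟶ Y)
    [IsOpenImmersion jY] (w : jX ≫ g = g' ≫ jY) (ψ : (Scheme.Modules.pullback jX).obj L ≅ L')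
    (U' : Y'.Opens) (e' : Γ(E', U')) (e : Γ(E, jY ''ᵁ U'))
    (hle : AmpleX.locus (th g θ e) ≤ jX.opensRange)
    (heq : jX ⁻¹ᵁ AmpleX.locus (th g θ e) = AmpleX.locus (th g' θ' e'))
    (hU : jX ⁻¹ᵁ (g ⁻¹ᵁ (jY ''ᵁ U')) = g' ⁻¹ᵁ U')
    (he : AModX.res L' hU.ge (ψ.hom.app _ (InvX.pullElt jX (th g θ e))) = th g' θ' e')
    (hm : ∀ m' : Γ(E', U'), ∃ m : Γ(E, jY ''ᵁ U'),
      AModX.res L' hU.ge (ψ.hom.app _ (InvX.pullElt jX (th g θ m))) = th g' θ' m')
    (himm : ImmAt g' θ' e') : ImmAt g θ e := by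
  let T := AmpleX.locus (th g θ e)
  let T' := AmpleX.locus (th g' θ' e')
  let R := Subring.closure (ratioSet g θ e)
  let R' := Subring.closure (ratioSet g' θ' e')
  have hTU : T ≤ g ⁻¹ᵁ (jY ''ᵁ U') := AmpleX.locus_le _
  have hT'U : T' ≤ g' ⁻¹ᵁ U' := AmpleX.locus_le _
  have hfr := AmpleX.isFrame_res_locus (th g θ e)
  have hT : T' ≤ jX ⁻¹ᵁ T := heq.ge
  let a : Γ(X, T) ⟶ Γ(X', T') := jX.appLE T T' hT
  have ha : Function.Bijective a.hom := by
    have h1 : IsIso (jX.app T) := jX.isIso_app T hle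
    have h2 : IsIso a := by
      show IsIso (jX.app T ≫ X'.presheaf.map (homOfLE hT).op)
      have : homOfLE hT = eqToHom heq.symm := Subsingleton.elim _ _
      rw [this]
      infer_instance
    exact (ConcreteCategory.isIso_iff_bijective a).1 h2
  let s : T'.toScheme ⟶ T.toScheme := jX.resLE T T' hT
  haveI : IsIso s := by
    haveI : IsOpenImmersion (s ≫ T.ι) := by
      rw [Scheme.Hom.resLE_comp_ι]; infer_instance
    haveI : IsOpenImmersion s := IsOpenImmersion.of_comp s T.ι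
    refine (isIso_iff_isOpenImmersion_and_surjective s).2 ⟨inferInstance, ⟨fun y => ?_⟩⟩
    obtain ⟨z, hz⟩ := hle y.2
    refine ⟨⟨z, heq.le (show jX z ∈ T from hz ▸ y.2)⟩, Subtype.ext ?_⟩
    refine Eq.trans ?_ hz
    exact congrArg (fun χ : T'.toScheme ⟶ X => χ ⟨z, _⟩) (jX.resLE_comp_ι (U := T) (V := T') hT)
  -- the pullback of the sections
  have hpull : ∀ m : Γ(E, jY ''ᵁ U'), ∀ m' : Γ(E', U'),
      AModX.res L' hU.ge (ψ.hom.app _ (InvX.pullElt jX (th g θ m))) = th g' θ' m' →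
      ∀ k : Γ(X, T), AModX.res L hTU (th g θ m) = k • AModX.res L hTU (th g θ e) →
        AModX.res L' hT'U (th g' θ' m') = a.hom k • AModX.res L' hT'U (th g' θ' e') := by
    intro m m' hmm k hk
    have k1 := congrArg (fun z => AModX.res L' hT (ψ.hom.app _ (InvX.pullElt jX z))) hk
    simp only [InvX.pullElt_smul, ← InvX.res_pullElt, Scheme.Modules.Hom.app_smul, AModX.res_smul,
      AModX.app_res, AModX.res_res] at k1
    rw [← hmm, ← he, AModX.res_res, AModX.res_res]
    exact k1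
  let b : CommRingCat.of R' ⟶ Γ(X, T) :=
    CommRingCat.ofHom ((RingEquiv.ofBijective a.hom ha).symm.toRingHom.comp R'.subtype)
  have hab : ∀ y, a.hom (b.hom y) = y.1 := fun y => (RingEquiv.ofBijective a.hom ha).apply_symm_apply y.1
  haveI : IsImmersion (T.toSpecΓ ≫ Spec.map b) := by
    have e1 : s ≫ T.toSpecΓ ≫ Spec.map b = subSpec T' R' := by
      rw [← Scheme.Opens.toSpecΓ_SpecMap_appLE_assoc, ← Spec.map_comp]
      show T'.toSpecΓ ≫ Spec.map (b ≫ a) = T'.toSpecΓ ≫ Spec.map _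
      exact congrArg (fun q => T'.toSpecΓ ≫ Spec.map q) (CommRingCat.hom_ext (RingHom.ext hab))
    rw [← MorphismProperty.cancel_left_of_respectsIso @IsImmersion s, e1]
    exact himm
  refine isImmersion_subSpec_of_hom T b R fun y => ?_
  have : ∀ z ∈ R', ∀ k, a.hom k = z → k ∈ R := by
    intro z hz
    induction hz using Subring.closure_induction with
    | mem z hz =>
      intro k hk
      rcases hz with ⟨r', rfl⟩ | ⟨m', hm'⟩
      · refine Subring.subset_closure (Or.inl ?_)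
        have hA : (jY.appLE (jY ''ᵁ U') U' (jY.preimage_image_eq U').ge) =
            jY.app (jY ''ᵁ U') ≫ Y'.presheaf.map (eqToHom (jY.preimage_image_eq U').symm).op := rfl
        have hbij : Function.Bijective (jY.appLE (jY ''ᵁ U') U' (jY.preimage_image_eq U').ge).hom := by
          rw [hA]
          haveI := jY.isIso_app (jY ''ᵁ U') (jY.image_le_opensRange _)
          exact (ConcreteCategory.isIso_iff_bijective _).1 inferInstance
        obtain ⟨r, hr⟩ := hbij.2 r'
        refine ⟨r, ha.1 ?_⟩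
        rw [hk, ← hr]
        have e2 : jY.appLE (jY ''ᵁ U') U' (jY.preimage_image_eq U').ge ≫ g'.appLE U' T' hT'U =
            g.appLE (jY ''ᵁ U') T hTU ≫ jX.appLE T T' hT := by
          rw [Scheme.Hom.appLE_comp_appLE, Scheme.Hom.appLE_comp_appLE]
          simp only [w]
        exact congr($(e2).hom r)
      · refine Subring.subset_closure (Or.inr ?_)
        obtain ⟨m, hmm⟩ := hm m'
        obtain ⟨c, hc⟩ := hfr.exists_coord le_rfl (AModX.res L hTU (th g θ m))
        rw [AModX.res_self] at hc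
        have k1 := hpull m m' hmm c hc
        refine ⟨m, ?_⟩
        have : c = k := ha.1 (((AmpleX.isFrame_res_locus (th g' θ' e')).coord_unique le_rfl
          (r := a.hom c) (r' := z) (by rw [AModX.res_self]; exact k1.symm.trans hm')).trans hk.symm)
        rw [← this]
        exact hc
    | zero => intro k hk; rw [ha.1 (hk.trans (map_zero a.hom).symm)]; exact R.zero_mem
    | one => intro k hk; rw [ha.1 (hk.trans (map_one a.hom).symm)]; exact R.one_mem
    | add x y _ _ hx hy =>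
      intro k hk
      obtain ⟨kx, hkx⟩ := ha.2 x
      obtain ⟨ky, hky⟩ := ha.2 y
      rw [ha.1 (hk.trans (show x + y = a.hom (kx + ky) by rw [map_add, hkx, hky]))]
      exact R.add_mem (hx kx hkx) (hy ky hky)
    | neg x _ hx =>
      intro k hk
      obtain ⟨kx, hkx⟩ := ha.2 x
      rw [ha.1 (hk.trans (show -x = a.hom (-kx) by rw [map_neg, hkx]))]
      exact R.neg_mem (hx kx hkx)
    | mul x y _ _ hx hy =>
      intro k hk
      obtain ⟨kx, hkx⟩ := ha.2 x
      obtain ⟨ky, hky⟩ := ha.2 y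
      rw [ha.1 (hk.trans (show x * y = a.hom (kx * ky) by rw [map_mul, hkx, hky]))]
      exact R.mul_mem (hx kx hkx) (hy ky hky)
  exact this y.1 y.2 _ (hab y)

end transfer

end Groth.Agent.SymX
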