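import Groth.Agent.SymX.CompBase
import Groth.Agent.QCoh.ExtendFT
import Groth.Agent.QCoh.DevissageIdeal
import Groth.Agent.QCoh.FT

/-!
# Very ample modules embed into bundles of modules of finite type
-/

set_option linter.style.haveILetI false
set_option linter.unusedSectionVars false
set_option backward.isDefEq.respectTransparency false
set_option backward.isDefEq.respectTransparency.types false

noncomputable section

universe u

open CategoryTheory CategoryTheory.Limits AlgebraicGeometry TopologicalSpace Opposite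

namespace Groth.Agent.SymX

open Groth.Agent

attribute [local instance] Groth.Agent.QCoh.hasFiniteBiproducts

variable {X Y : Scheme.{u}}

theorem isFT_biproduct {β : Type u} [Fintype β] (T : β → Y.Modules) (hq : ∀ b, Coh.IsQCoh (T b))
    (h : ∀ b, CohB1.IsFT (T b)) : CohB1.IsFT (⨁ T) := by
  refine (QCoh.isFT_iff (QCoh.isQCoh_biproduct T hq)).2 fun U => ?_
  haveI := fun b => QCoh.finite_of_isFT (hq b) (h b) U.2
  let Φ : (∀ b, Γ(T b, U.1)) →ₗ[Γ(Y, U.1)] Γ(⨁ T, U.1) :=
    { toFun := fun m => ∑ k, (biproduct.ι T k).app U.1 (m k)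
      map_add' := fun m m' => by simp [Finset.sum_add_distrib]
      map_smul' := fun a m => by
        rw [RingHom.id_apply, Finset.smul_sum]
        exact Finset.sum_congr rfl fun k _ => Scheme.Modules.Hom.app_smul (biproduct.ι T k) a (m k) }
  exact Module.Finite.of_surjective Φ fun x =>
    ⟨fun k => (biproduct.π T k).app U.1 x, (QCoh.biproduct_app_decomp T U.1 x).symm⟩

/-- Embedding ratios only need the sections which occur. -/
theorem immAt_of_lift {g : X ⟶ Y} {L : X.Modules} {E E' : Y.Modules}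
    {θ : E ⟶ (Scheme.Modules.pushforward g).obj L} {θ' : E' ⟶ (Scheme.Modules.pushforward g).obj L}
    {U : Y.Opens} (e : Γ(E, U)) (e' : Γ(E', U)) (hee : th g θ' e' = th g θ e)
    (S : Set Γ(X, AmpleX.locus (th g θ e)))
    [hS : IsImmersion (subSpec (AmpleX.locus (th g θ e)) (Subring.closure
      (Set.range ((AModX.resR (AmpleX.locus_le (th g θ e))).comp (g.app U).hom) ∪ S)))]
    (hlift : ∀ c ∈ S, (∃ r : Γ(Y, U), c = AModX.resR (AmpleX.locus_le (th g θ e)) (g.app U r)) ∨
      ∃ m' : Γ(E', U), AModX.res L (AmpleX.locus_le (th g θ e)) (th g θ' m') =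
        c • AModX.res L (AmpleX.locus_le (th g θ e)) (th g θ e)) :
    ImmAt g θ' e' := by
  have key : ∀ s : Γ(L, g ⁻¹ᵁ U), s = th g θ e → IsImmersion (subSpec (AmpleX.locus s) (Subring.closure
      {a : Γ(X, AmpleX.locus s) | (∃ r : Γ(Y, U), a = AModX.resR (AmpleX.locus_le s) (g.app U r)) ∨
        ∃ m : Γ(E', U), AModX.res L (AmpleX.locus_le s) (th g θ' m) = a • AModX.res L (AmpleX.locus_le s) s})) := by
    rintro _ rfl
    refine isImmersion_subSpec_of_le _ (hR := hS) (Subring.closure_mono ?_)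
    intro c hc
    rcases hc with ⟨r, hr⟩ | hc
    · exact Or.inl ⟨r, hr.symm⟩
    · exact hlift c hc
  exact key _ hee

/-- On a qcqs or Noetherian base a very ample module for a morphism of finite type embeds by a module of finite type. -/
theorem exists_ft_immPoints [CompactSpace Y] (hY : ∀ V : Y.Opens, IsAffineOpen V → QCoh.ExtStep V)
    (g : X ⟶ Y) [QuasiCompact g] [LocallyOfFiniteType g] {L : X.Modules}
    (hL : PicF.IsInvertible L) (hva : RelProj.IsRelVeryAmple g L) :
    ∃ (E : Y.Modules) (_ : Coh.IsQCoh E) (_ : CohB1.IsFT E) (θ : E ⟶ (Scheme.Modules.pushforward g).obj L),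
      ImmPoints g θ := by
  classical
  haveI : CompactSpace X := QuasiCompact.compactSpace_of_compactSpace g
  obtain ⟨E, hE, θ, hθ⟩ := exists_immPoints_of_isRelVeryAmple hva
  choose U hU e hxe himm using hθ
  obtain ⟨pts, hpts⟩ := isCompact_univ.elim_finite_subcover (fun x => (AmpleX.locus (th g θ (e x)) : Set X))
    (fun x => (AmpleX.locus (th g θ (e x))).2) fun x _ => Set.mem_iUnion.2 ⟨x, hxe x⟩
  choose S hSsub hSfin hSimm using fun x => exists_finite_immAt hL (hU x) (e x) (himm x)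
  have hm : ∀ (x : X) (c : S x), ∃ m : Γ(E, U x),
      (∃ r : Γ(Y, U x), c.1 = AModX.resR (AmpleX.locus_le (th g θ (e x))) (g.app (U x) r)) ∨
        AModX.res L (AmpleX.locus_le (th g θ (e x))) (th g θ m) =
          c.1 • AModX.res L (AmpleX.locus_le (th g θ (e x))) (th g θ (e x)) := fun x c => by
    have h : (∃ r : Γ(Y, U x), c.1 = AModX.resR (AmpleX.locus_le (th g θ (e x))) (g.app (U x) r)) ∨
        ∃ m : Γ(E, U x), AModX.res L (AmpleX.locus_le (th g θ (e x))) (th g θ m) =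
          c.1 • AModX.res L (AmpleX.locus_le (th g θ (e x))) (th g θ (e x)) := hSsub x c.2
    rcases h with ⟨r, hr⟩ | ⟨m, hm⟩
    · exact ⟨0, Or.inl ⟨r, hr⟩⟩
    · exact ⟨m, Or.inr hm⟩
  choose m hm using hm
  have hN : ∀ x : X, ∃ N : QCoh.SubMod E, QCoh.FTOn N ⊤ ∧
      insert (e x) (Set.range (m x)) ⊆ (N.mem (U x) : Set Γ(E, U x)) := fun x => by
    haveI := (hSfin x).to_subtype
    exact QCoh.exists_ftOn_contains hE (hU x) (hY _ (hU x)) _ ((Set.finite_range (m x)).insert (e x))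
  choose N hNft hNmem using hN
  let T : ↥(pts) → Y.Modules := fun x => (N x.1).toModules
  let θ' : (⨁ T) ⟶ (Scheme.Modules.pushforward g).obj L := biproduct.desc fun x => (N x.1).ι ≫ θ
  refine ⟨⨁ T, QCoh.isQCoh_biproduct T fun x => QCoh.isQCoh_of_ftOn hE (hNft x.1),
    isFT_biproduct T (fun x => QCoh.isQCoh_of_ftOn hE (hNft x.1)) (fun x => QCoh.isFT_of_ftOn hE (hNft x.1)),
    θ', fun x => ?_⟩
  obtain ⟨y, hy, hxy⟩ := Set.mem_iUnion₂.1 (hpts (Set.mem_univ x))
  have hlift : ∀ s ∈ (N y).mem (U y), ∃ s' : Γ(⨁ T, U y), th g θ' s' = th g θ s := fun s hs => by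
    obtain ⟨z, hz⟩ := (N y).exists_app_eq hs
    refine ⟨(biproduct.ι T ⟨y, hy⟩).app (U y) z, ?_⟩
    have h1 : th g θ' ((biproduct.ι T ⟨y, hy⟩).app (U y) z) = th g θ ((N y).ι.app (U y) z) :=
      congrArg (fun χ : T ⟨y, hy⟩ ⟶ _ => χ.app (U y) z) (biproduct.ι_desc _ _)
    rw [h1, hz]
  obtain ⟨e', he'⟩ := hlift (e y) (hNmem y (Set.mem_insert _ _))
  refine ⟨U y, hU y, e', he' ▸ hxy, immAt_of_lift (e y) e' he' (S y) (hS := hSimm y) fun c hc => ?_⟩
  rcases hm y ⟨c, hc⟩ with hr | h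
  · exact Or.inl hr
  · obtain ⟨m', hm'⟩ := hlift _ (hNmem y (Set.mem_insert_of_mem _ ⟨⟨c, hc⟩, rfl⟩))
    exact Or.inr ⟨m', hm' ▸ h⟩

theorem extStep_of_base (hY : (CompactSpace Y ∧ Y.IsSeparated) ∨ TopologicalSpace.NoetherianSpace Y) :
    CompactSpace Y ∧ ∀ V : Y.Opens, IsAffineOpen V → QCoh.ExtStep V := by
  rcases hY with ⟨hc, hs⟩ | hn
  · exact ⟨hc, fun V hV => QCoh.extStep_qcqs hV.isCompact⟩
  · exact ⟨inferInstance, fun V _ => QCoh.extStep_noetherian
      (fun x => ⟨⊤, trivial, TopologicalSpace.NoetherianSpace.set _⟩) _⟩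

/-- The immersion into the bundle of a module of finite type. -/
theorem exists_ft_immersion (hY : (CompactSpace Y ∧ Y.IsSeparated) ∨ TopologicalSpace.NoetherianSpace Y)
    (g : X ⟶ Y) [QuasiCompact g] [LocallyOfFiniteType g] {L : X.Modules}
    (hL : PicF.IsInvertible L) (hva : RelProj.IsRelVeryAmple g L) :
    ∃ (E : Y.Modules) (A : Bundle E) (i : X ⟶ A.P), Coh.IsQCoh E ∧ CohB1.IsFT E ∧ IsImmersion i ∧
      i ≫ A.p = g ∧ Nonempty (L ≅ (Scheme.Modules.pullback i).obj A.O1) := by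
  obtain ⟨hc, hs⟩ := extStep_of_base hY
  obtain ⟨E, hE, hft, θ, hθ⟩ := exists_ft_immPoints hs g hL hva
  obtain ⟨A⟩ := nonempty_bundle hE
  obtain ⟨i, hi, hip, hiso⟩ := exists_immersion_of_immPoints hE hθ A
  exact ⟨E, A, i, hE, hft, hi, hip, hiso⟩

end Groth.Agent.SymX
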