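import Groth.Agent.SymX.Gen
import Groth.Agent.ProjX.TwistMul

/-!
# The projective bundle of a line bundle
-/

set_option linter.style.haveILetI false
set_option linter.unusedSectionVars false
set_option backward.isDefEq.respectTransparency false
set_option backward.isDefEq.respectTransparency.types false

noncomputable section

universe u

open CategoryTheory CategoryTheory.Limits AlgebraicGeometry TopologicalSpace Opposite HomogeneousLocalization
open scoped HomogeneousIdeal

namespace Groth.Agent.SymX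

open Groth.Agent

variable {X : Scheme.{u}} {E : X.Modules} {𝒮 : RelProj.QCGrAlg X} {j : E ⟶ 𝒮.toModule}

/-- The canonical map of a graded symmetric algebra is linear through the structure map. -/
lemma j_smul (U : X.Opens) (r : Γ(X, U)) (x : Γ(E, U)) :
    (show 𝒮.presheaf.obj (op U) from j.app U (r • x)) =
      (𝒮.str.app (op U)).hom r * (show 𝒮.presheaf.obj (op U) from j.app U x) :=
  Scheme.Modules.Hom.app_smul j r x

/-- Every degree one element comes from the module. -/
lemma exists_j_eq (C : Chartwise E 𝒮 j) (U : X.Opens) (hU : IsAffineOpen U) {x : 𝒮.presheaf.obj (op U)}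
    (hx : x ∈ 𝒮.deg U hU 1) : ∃ m : Γ(E, U), (j.app U m : 𝒮.presheaf.obj (op U)) = x := by
  have hx' : (C.φ ⟨U, hU⟩).hom x ∈ symDeg Γ(X, U) Γ(E, U) 1 := (C.deg_iff ⟨U, hU⟩ 1 x).1 hx
  rw [symDeg, pow_one] at hx'
  obtain ⟨m, hm⟩ := hx'
  exact ⟨m, (C.φ ⟨U, hU⟩).commRingCatIsoToRingEquiv.injective ((C.j_app ⟨U, hU⟩ m).trans hm)⟩

/-- The degree `n` part of the symmetric algebra of a free module of rank one. -/
lemma mem_symDeg_span {R M : Type u} [CommRing R] [AddCommGroup M] [Module R M] {e : M}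
    (he : ∀ x : M, ∃ r : R, r • e = x) {n : ℕ} {x : SymmetricAlgebra R M} (hx : x ∈ symDeg R M n) :
    ∃ r : R, x = algebraMap R _ r * SymmetricAlgebra.ι R M e ^ n := by
  induction hx using Submodule.pow_induction_on_left' with
  | algebraMap r => exact ⟨r, by rw [pow_zero, mul_one]⟩
  | add x y i hx hy ihx ihy =>
    obtain ⟨a, rfl⟩ := ihx
    obtain ⟨b, rfl⟩ := ihy
    exact ⟨a + b, by rw [map_add, add_mul]⟩
  | mem_mul m hm i x hx ih =>
    obtain ⟨m, rfl⟩ := hm
    obtain ⟨r, rfl⟩ := he m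
    obtain ⟨a, rfl⟩ := ih
    refine ⟨r * a, ?_⟩
    rw [map_smul, Algebra.smul_def, map_mul, pow_succ]
    ring

/-- The powers of the generator of a free module of rank one are independent. -/
lemma eq_zero_of_mul_pow {R M : Type u} [CommRing R] [AddCommGroup M] [Module R M] {e : M}
    (he : Function.Bijective fun r : R => r • e) {n : ℕ} {r : R}
    (h : algebraMap R (SymmetricAlgebra R M) r * SymmetricAlgebra.ι R M e ^ n = 0) : r = 0 := by
  let l : R ≃ₗ[R] M := LinearEquiv.ofBijective (LinearMap.toSpanSingleton R M e) he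
  have hl : l.symm e = 1 := by
    rw [LinearEquiv.symm_apply_eq]
    exact (one_smul R e).symm
  have := congrArg (SymmetricAlgebra.lift (l.symm : M →ₗ[R] R)) h
  rw [map_mul, map_pow, AlgHom.commutes, SymmetricAlgebra.lift_ι_apply, map_zero] at this
  rw [show (l.symm : M →ₗ[R] R) e = 1 from hl, one_pow, mul_one] at this
  exact this

/-- A frame gives a nowhere vanishing section of degree one. -/
theorem basicOpen_frame_eq_top (C : Chartwise E 𝒮 j) (U : X.Opens) (hU : IsAffineOpen U)
    {e : Γ(E, U)} (he : InvX.IsFrame e) :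
    Proj.basicOpen (𝒮.deg U hU) (show 𝒮.presheaf.obj (op U) from j.app U e) = ⊤ := by
  let t : 𝒮.presheaf.obj (op U) := j.app U e
  show Proj.basicOpen (𝒮.deg U hU) t = ⊤
  have hbij : Function.Bijective fun r : Γ(X, U) => r • e := by
    have := he U le_rfl
    simpa only [AModX.res_self] using this
  have h := ProjX.iSup_basicOpen_deg_one C.isGenDegOne U hU {t} fun x hx => by
    obtain ⟨m, rfl⟩ := exists_j_eq C U hU hx
    obtain ⟨r, rfl⟩ := hbij.2 m
    show (show 𝒮.presheaf.obj (op U) from j.app U (r • e)) ∈ _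
    rw [j_smul (j := j) U r e]
    exact Ideal.mul_mem_left _ _ (Ideal.subset_span rfl)
  exact top_unique (h ▸ iSup_le fun f => (congrArg _ (Set.mem_singleton_iff.1 f.2)).le)

theorem isIso_toSpecZero_strZero (C : Chartwise E 𝒮 j) (U : X.Opens) (hU : IsAffineOpen U)
    {e : Γ(E, U)} (he : InvX.IsFrame e) :
    IsIso (Proj.toSpecZero (𝒮.deg U hU) ≫ Spec.map (𝒮.strZero U hU)) := by
  let a : X.AffineZariskiSite := ⟨U, hU⟩
  let φ := (C.φ a).commRingCatIsoToRingEquiv
  let t : 𝒮.presheaf.obj (op U) := j.app U e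
  have hbij : Function.Bijective fun r : Γ(X, U) => r • e := by
    have := he U le_rfl
    simpa only [AModX.res_self] using this
  have hφt : φ t = SymmetricAlgebra.ι Γ(X, U) Γ(E, U) e := C.j_app a e
  have hφr : ∀ r, φ ((𝒮.str.app (op U)).hom r) = algebraMap Γ(X, U) (SymmetricAlgebra Γ(X, U) Γ(E, U)) r :=
    fun r => congr($(C.str a).hom r)
  have ht : t ∈ 𝒮.deg U hU 1 := (C.isGrSymAlg.2 U hU e)
  have htop : Proj.basicOpen (𝒮.deg U hU) t = ⊤ := basicOpen_frame_eq_top C U hU he
  haveI hiso : IsIso (Proj.awayι (𝒮.deg U hU) t ht one_pos) := by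
    refine isIso_of_isOpenImmersion_of_opensRange_eq_top _ ?_
    rw [Proj.opensRange_awayι]
    exact htop
  refine (MorphismProperty.cancel_left_of_respectsIso (.isomorphisms Scheme.{u})
    (Proj.awayι (𝒮.deg U hU) t ht one_pos) _).1 ?_
  show IsIso _
  rw [Proj.awayι_toSpecZero_assoc, ← Spec.map_comp]
  suffices IsIso (𝒮.strZero U hU ≫ CommRingCat.ofHom (fromZeroRingHom (𝒮.deg U hU) (Submonoid.powers t))) from
    inferInstance
  refine (ConcreteCategory.isIso_iff_bijective _).2 ⟨?_, fun z => ?_⟩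
  · refine (injective_iff_map_eq_zero (CommRingCat.Hom.hom _)).2 fun r hr => ?_
    have hv : (Localization.mk ((𝒮.str.app (op U)).hom r) (1 : Submonoid.powers t)) = 0 :=
      (congrArg HomogeneousLocalization.val hr).trans HomogeneousLocalization.val_zero
    rw [Localization.mk_eq_mk'_apply, IsLocalization.mk'_eq_zero_iff] at hv
    obtain ⟨⟨_, k, rfl⟩, hk⟩ := hv
    refine eq_zero_of_mul_pow hbij (n := k) ?_
    have h := congrArg φ hk
    rw [map_mul, map_pow, map_zero, hφt, hφr] at h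
    rw [mul_comm]
    exact h
  · obtain ⟨k, x, hx, rfl⟩ := Away.mk_surjective (𝒮.deg U hU) ht z
    rw [smul_eq_mul, mul_one] at hx
    obtain ⟨r, hr⟩ := mem_symDeg_span hbij.2 (e := e) ((C.deg_iff a k x).1 hx)
    have hx' : x = (𝒮.str.app (op U)).hom r * t ^ k := by
      apply φ.injective
      rw [map_mul, map_pow, hφt, hφr]
      exact hr
    subst hx'
    refine ⟨r, HomogeneousLocalization.val_injective _ ?_⟩
    rw [Away.val_mk]
    show Localization.mk ((𝒮.str.app (op U)).hom r) 1 = _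
    rw [Localization.mk_eq_mk_iff, Localization.r_iff_exists]
    exact ⟨1, by simp only [Submonoid.coe_one, one_mul]; ring⟩

theorem isIso_relProj {L : X.Modules} (hL : PicF.IsInvertible L) (hLq : Coh.IsQCoh L) {PL : Scheme.{u}}
    {𝒮 : RelProj.QCGrAlg X} {j : L ⟶ 𝒮.toModule} (hj : RelProj.IsGrSymAlg L 𝒮 j)
    (p : PL ⟶ X) (chart : ∀ (U : X.Opens) (hU : IsAffineOpen U), (((p ⁻¹ᵁ U : PL.Opens) : Scheme.{u}) ≅ Proj (𝒮.deg U hU)))
    (hP : RelProj.IsRelProj 𝒮 p chart) : IsIso p := by
  let C := (nonempty_chartwise hLq hj).some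
  have : ∀ x : X, ∃ (V : X.affineOpens) (_ : x ∈ V.1) (e : Γ(L, V.1)), InvX.IsFrame e := fun x => by
    obtain ⟨U, hx, e, he⟩ := InvX.exists_frame hL x
    obtain ⟨_, ⟨V, hV, rfl⟩, hxV, hVU⟩ := X.isBasis_affineOpens.exists_subset_of_mem_open hx U.2
    exact ⟨⟨V, hV⟩, hxV, _, he.res hVU⟩
  choose V hxV e he using this
  refine IsZariskiLocalAtTarget.of_iSup_eq_top (P := .isomorphisms Scheme.{u}) (fun x => (V x).1)
    (top_unique fun x _ => Opens.mem_iSup.2 ⟨x, hxV x⟩) fun x => ?_
  show IsIso _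
  haveI := isIso_toSpecZero_strZero C (V x).1 (V x).2 (he x)
  have key : p ∣_ (V x).1 = (chart (V x).1 (V x).2).hom ≫
      (Proj.toSpecZero (𝒮.deg (V x).1 (V x).2) ≫ Spec.map (𝒮.strZero (V x).1 (V x).2)) ≫ (V x).2.isoSpec.inv := by
    rw [← cancel_mono (V x).1.ι, morphismRestrict_ι, Category.assoc, Category.assoc, Category.assoc,
      IsAffineOpen.isoSpec_inv_ι, hP.chart_over]
  rw [key]
  infer_instance

end Groth.Agent.SymX
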