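import Groth.Agent.SymX.Sym
import Groth.Agent.ProjX.OfAffine
import Groth.Agent.QCoh.FT
import Groth.Agent.AModX.Res
import Groth.Prelude.Def_RelProj2

/-!
# The graded symmetric algebra of a quasi-coherent module
-/

set_option linter.style.haveILetI false
set_option linter.unusedSectionVars false
set_option backward.isDefEq.respectTransparency false
set_option backward.isDefEq.respectTransparency.types false

noncomputable section

universe u

open CategoryTheory CategoryTheory.Limits AlgebraicGeometry TopologicalSpace Opposite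

namespace Groth.Agent.SymX

open Groth.Agent

variable {S : Scheme.{u}}

/-- A homomorphism of modules from linear maps on the affine opens. -/
theorem exists_homModule (E M : S.Modules) (f : ∀ a : S.AffineZariskiSite, Γ(E, a.1) →ₗ[Γ(S, a.1)] Γ(M, a.1))
    (hf : ∀ {a b : S.AffineZariskiSite} (h : b ≤ a) (x : Γ(E, a.1)),
      f b (AModX.res E (Scheme.AffineZariskiSite.toOpens_mono h) x) =
        AModX.res M (Scheme.AffineZariskiSite.toOpens_mono h) (f a x)) :
    ∃ φ : E ⟶ M, ∀ (a : S.AffineZariskiSite) (x : Γ(E, a.1)), φ.app a.1 x = f a x := by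
  classical
  let G := Scheme.AffineZariskiSite.toOpensFunctor S
  let F' : TopCat.Sheaf AddCommGrpCat.{u} S.carrier := ⟨M.presheaf, M.isSheaf⟩
  let α : G.op ⋙ E.presheaf ⟶ G.op ⋙ F'.1 :=
    { app := fun a => AddCommGrpCat.ofHom (f a.unop).toAddMonoidHom
      naturality := fun a b i => by
        ext x
        exact hf (leOfHom i.unop) x }
  let e := Functor.IsCoverDense.restrictHomEquivHom (G := G) (K := Opens.grothendieckTopology S)
    (ℱ := E.presheaf) (ℱ' := F')
  let ψ : E.presheaf ⟶ M.presheaf := e α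
  have hψ : ∀ (a : S.AffineZariskiSite) (x : Γ(E, a.1)), ψ.app (op a.1) x = f a x := fun a x =>
    congr($(NatTrans.congr_app (e.symm_apply_apply α) (op a)) x)
  have hlin : ∀ (U : (Opens S.carrier)ᵒᵖ) (r : Γ(S, U.unop)) (x : Γ(E, U.unop)),
      ψ.app U (r • x) = r • (show Γ(M, U.unop) from ψ.app U x) := by
    rintro ⟨U⟩ r x
    have hnat : ∀ {V : S.Opens} (h : V ≤ U) (z : Γ(E, U)),
        AModX.res M h (ψ.app (op U) z) = ψ.app (op V) (AModX.res E h z) := fun h z =>
      (congr($(ψ.naturality (homOfLE h).op) z)).symm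
    refine AModX.eq_of_locally (M := M) _ _ fun q hq => ?_
    obtain ⟨_, ⟨V, hV, rfl⟩, hqV, hVU⟩ :=
      S.isBasis_affineOpens.exists_subset_of_mem_open (show q ∈ U from hq) U.2
    refine ⟨V, hVU, hqV, ?_⟩
    have h1 := hψ ⟨V, hV⟩
    rw [AModX.res_smul, hnat, hnat, AModX.res_smul]
    erw [h1, h1]
    exact map_smul _ _ _
  exact ⟨⟨PresheafOfModules.homMk ψ hlin⟩, hψ⟩

/-- A homomorphism of quasi-coherent algebras from ring maps on the affine opens. -/
theorem exists_homQCAlg (A B : RelSpec.QCAlg S)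
    (f : ∀ a : S.AffineZariskiSite, A.presheaf.obj (op a.1) ⟶ B.presheaf.obj (op a.1))
    (hf : ∀ {a b : S.AffineZariskiSite} (h : b ≤ a),
      A.presheaf.map (homOfLE (Scheme.AffineZariskiSite.toOpens_mono h)).op ≫ f b =
        f a ≫ B.presheaf.map (homOfLE (Scheme.AffineZariskiSite.toOpens_mono h)).op)
    (hstr : ∀ a : S.AffineZariskiSite, A.str.app (op a.1) ≫ f a = B.str.app (op a.1)) :
    ∃ φ : A ⟶ B, ∀ a : S.AffineZariskiSite, φ.hom.app (op a.1) = f a := by
  let G := Scheme.AffineZariskiSite.toOpensFunctor S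
  let F' : TopCat.Sheaf CommRingCat.{u} S.carrier := ⟨B.presheaf, B.isSheaf⟩
  let α : G.op ⋙ A.presheaf ⟶ G.op ⋙ F'.1 :=
    { app := fun a => f a.unop
      naturality := fun a b i => hf (leOfHom i.unop) }
  let e := Functor.IsCoverDense.restrictHomEquivHom (G := G) (K := Opens.grothendieckTopology S)
    (ℱ := A.presheaf) (ℱ' := F')
  have hψ : ∀ a : S.AffineZariskiSite, (e α).app (op a.1) = f a := fun a =>
    NatTrans.congr_app (e.symm_apply_apply α) (op a)
  refine ⟨⟨e α, ?_⟩, hψ⟩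
  refine (Functor.IsCoverDense.restrictHomEquivHom (G := G) (K := Opens.grothendieckTopology S)
    (ℱ := S.presheaf) (ℱ' := F')).symm.injective ?_
  ext a : 2
  show A.str.app (op a.unop.1) ≫ (e α).app (op a.unop.1) = B.str.app (op a.unop.1)
  rw [hψ]
  exact hstr a.unop

/-- Homomorphisms of quasi-coherent algebras agree if they agree on the affine opens. -/
theorem homQCAlg_ext {A B : RelSpec.QCAlg S} {φ ψ : A ⟶ B}
    (h : ∀ a : S.AffineZariskiSite, φ.hom.app (op a.1) = ψ.hom.app (op a.1)) : φ = ψ := by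
  refine RelSpec.QCAlg.hom_ext ((Functor.IsCoverDense.restrictHomEquivHom
    (G := Scheme.AffineZariskiSite.toOpensFunctor S) (K := Opens.grothendieckTopology S)
    (ℱ := A.presheaf) (ℱ' := (⟨B.presheaf, B.isSheaf⟩ : TopCat.Sheaf CommRingCat.{u} S.carrier))).symm.injective ?_)
  ext a : 2
  exact h a.unop

/-- Maps into the module of an algebra agree if they agree on the affine opens. -/
theorem homModule_ext {E M : S.Modules} {φ ψ : E ⟶ M}
    (h : ∀ (a : S.AffineZariskiSite) (x : Γ(E, a.1)), φ.app a.1 x = ψ.app a.1 x) : φ = ψ := by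
  refine Scheme.Modules.hom_ext _ _ fun U => ?_
  ext x
  refine AModX.eq_of_locally _ _ fun q hq => ?_
  obtain ⟨_, ⟨V, hV, rfl⟩, hqV, hVU⟩ := S.isBasis_affineOpens.exists_subset_of_mem_open hq U.2
  refine ⟨V, hVU, hqV, ?_⟩
  rw [← AModX.app_res, ← AModX.app_res]
  exact h ⟨V, hV⟩ _

variable (E : S.Modules)

/-- Restriction on an arrow of the affine site, as a semilinear map. -/
def resLin {a b : S.AffineZariskiSite} (h : b ≤ a) :
    Γ(E, a.1) →ₛₗ[(S.presheaf.map (homOfLE (Scheme.AffineZariskiSite.toOpens_mono h)).op).hom] Γ(E, b.1) where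
  toFun x := AModX.res E (Scheme.AffineZariskiSite.toOpens_mono h) x
  map_add' x y := map_add _ x y
  map_smul' r x := AModX.res_smul _ r x

/-- The symmetric algebras on the affine opens. -/
def symFunctor : S.AffineZariskiSiteᵒᵖ ⥤ CommRingCat.{u} where
  obj a := CommRingCat.of (SymmetricAlgebra Γ(S, a.unop.1) Γ(E, a.unop.1))
  map f := CommRingCat.ofHom (symMap (resLin E (leOfHom f.unop)))
  map_id a := by
    refine CommRingCat.hom_ext (ringHom_ext (fun r => ?_) fun m => ?_)
    · refine (symMap_algebraMap _ r).trans (congrArg (algebraMap _ _) ?_)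
      exact AModX.resR_self r
    · refine (symMap_ι _ m).trans (congrArg (SymmetricAlgebra.ι _ _) ?_)
      exact AModX.res_self m
  map_comp {a b c} f g := by
    refine CommRingCat.hom_ext (ringHom_ext (fun r => ?_) fun m => ?_)
    · refine (symMap_algebraMap _ r).trans ?_
      refine Eq.trans ?_ ((congrArg (symMap (resLin E (leOfHom g.unop))) (symMap_algebraMap _ r)).trans
        (symMap_algebraMap _ _)).symm
      exact congrArg (algebraMap _ _) (AModX.resR_resR _ _ r).symm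
    · refine (symMap_ι _ m).trans ?_
      refine Eq.trans ?_ ((congrArg (symMap (resLin E (leOfHom g.unop))) (symMap_ι _ m)).trans
        (symMap_ι _ _)).symm
      exact congrArg (SymmetricAlgebra.ι _ _) (AModX.res_res _ _ m).symm

/-- The structure maps. -/
def symStr : (Scheme.AffineZariskiSite.toOpensFunctor S).op ⋙ S.presheaf ⟶ symFunctor E where
  app a := CommRingCat.ofHom (algebraMap Γ(S, a.unop.1) (SymmetricAlgebra Γ(S, a.unop.1) Γ(E, a.unop.1)))
  naturality a b f := by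
    refine CommRingCat.hom_ext (RingHom.ext fun r => ?_)
    exact (symMap_algebraMap (resLin E (leOfHom f.unop)) r).symm

theorem coequifibered_symStr (hE : Coh.IsQCoh E) : (symStr E).Coequifibered := by
  refine Scheme.AffineZariskiSite.coequifibered_iff_forall_isLocalizationAway.mpr fun a r => ?_
  letI := QCoh.basicModule r E
  letI : Algebra Γ(S, a.1) Γ(S, S.basicOpen r) := (S.presheaf.map (homOfLE (S.basicOpen_le r)).op).hom.toAlgebra
  haveI : IsLocalization.Away r Γ(S, S.basicOpen r) := a.2.isLocalization_basicOpen r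
  haveI : IsScalarTower Γ(S, a.1) Γ(S, S.basicOpen r) Γ(E, S.basicOpen r) :=
    IsScalarTower.of_algebraMap_smul fun _ _ => rfl
  haveI := QCoh.isLocalizedModule_basicRes r hE a.2
  let g : Γ(E, a.1) →ₛₗ[algebraMap Γ(S, a.1) Γ(S, S.basicOpen r)] Γ(E, S.basicOpen r) :=
    { toFun := fun x => AModX.res E (S.basicOpen_le r) x
      map_add' := fun x y => map_add _ x y
      map_smul' := fun c x => AModX.res_smul _ c x }
  have key := isLocalization_symMap (R := Γ(S, a.1)) (M := Γ(E, a.1)) (R' := Γ(S, S.basicOpen r))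
    (M' := Γ(E, S.basicOpen r)) r (QCoh.basicRes r E) g fun _ => rfl
  have hg : (symFunctor E).map (homOfLE (Scheme.AffineZariskiSite.basicOpen_le a r)).op =
      CommRingCat.ofHom (symMap g) := by
    refine CommRingCat.hom_ext (ringHom_ext (fun c => ?_) fun m => ?_)
    · exact (symMap_algebraMap _ c).trans (symMap_algebraMap g c).symm
    · exact (symMap_ι _ m).trans (symMap_ι g m).symm
  show @IsLocalization.Away (SymmetricAlgebra Γ(S, a.1) Γ(E, a.1)) _
    (algebraMap Γ(S, a.1) (SymmetricAlgebra Γ(S, a.1) Γ(E, a.1)) r)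
    (SymmetricAlgebra Γ(S, S.basicOpen r) Γ(E, S.basicOpen r)) _
    ((symFunctor E).map (homOfLE (Scheme.AffineZariskiSite.basicOpen_le a r)).op).hom.toAlgebra
  rw [hg]
  exact key

variable {E}

/-- The data of a chartwise symmetric algebra. -/
structure Chartwise (E : S.Modules) (𝒮 : RelProj.QCGrAlg S) (j : E ⟶ 𝒮.toModule) where
  φ : ∀ a : S.AffineZariskiSite, 𝒮.presheaf.obj (op a.1) ≅ (symFunctor E).obj (op a)
  natural : ∀ (a b : S.AffineZariskiSite) (i : b ⟶ a), (φ a).hom ≫ (symFunctor E).map i.op =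
    𝒮.presheaf.map (homOfLE (Scheme.AffineZariskiSite.toOpens_mono i.le)).op ≫ (φ b).hom
  str : ∀ a : S.AffineZariskiSite, 𝒮.str.app (op a.1) ≫ (φ a).hom = (symStr E).app (op a)
  deg_iff : ∀ (a : S.AffineZariskiSite) (d : ℕ) (x : 𝒮.presheaf.obj (op a.1)),
    x ∈ 𝒮.deg a.1 a.2 d ↔ (φ a).hom x ∈ symDegAdd Γ(S, a.1) Γ(E, a.1) d
  j_app : ∀ (a : S.AffineZariskiSite) (x : Γ(E, a.1)),
    (φ a).hom (j.app a.1 x) = SymmetricAlgebra.ι Γ(S, a.1) Γ(E, a.1) x

theorem exists_chartwise (hE : Coh.IsQCoh E) :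
    ∃ (𝒮 : RelProj.QCGrAlg S) (j : E ⟶ 𝒮.toModule), Nonempty (Chartwise E 𝒮 j) := by
  haveI : ∀ a : S.AffineZariskiSite,
      GradedRing (A := (symFunctor E).obj (op a)) (symDegAdd Γ(S, a.1) Γ(E, a.1)) := fun a => symGradedRing _ _
  obtain ⟨𝒮, φ, hnat, hstr, hdeg⟩ := ProjX.exists_qcGrAlg (symFunctor E) (symStr E) (coequifibered_symStr E hE)
    (fun a => symDegAdd Γ(S, a.1) Γ(E, a.1)) (fun {_ _} i {_ _} hx => symMap_mem _ hx)
    (fun a r => algebraMap_mem _ _ r)
  have hnat' : ∀ {a b : S.AffineZariskiSite} (h : b ≤ a) (z : 𝒮.presheaf.obj (op a.1)),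
      (φ b).hom ((𝒮.presheaf.map (homOfLE (Scheme.AffineZariskiSite.toOpens_mono h)).op).hom z) =
        symMap (resLin E h) ((φ a).hom z) := fun {a b} h z => congr($(hnat a b (homOfLE h)).hom z).symm
  have hstr' : ∀ (a : S.AffineZariskiSite) (r : Γ(S, a.1)),
      (φ a).hom ((𝒮.str.app (op a.1)).hom r) = algebraMap _ (SymmetricAlgebra Γ(S, a.1) Γ(E, a.1)) r :=
    fun a r => congr($(hstr a).hom r)
  let f : ∀ a : S.AffineZariskiSite, Γ(E, a.1) →ₗ[Γ(S, a.1)] Γ(𝒮.toModule, a.1) := fun a =>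
    { toFun := fun x => (φ a).inv (SymmetricAlgebra.ι _ _ x)
      map_add' := fun x y => by
        rw [map_add]
        exact map_add (φ a).inv.hom _ _
      map_smul' := fun r x => by
        rw [map_smul, Algebra.smul_def]
        refine (map_mul (φ a).inv.hom _ _).trans ?_
        have h1 : (φ a).inv (algebraMap _ (SymmetricAlgebra Γ(S, a.1) Γ(E, a.1)) r) = (𝒮.str.app (op a.1)).hom r := by
          rw [← hstr' a r]
          exact Iso.hom_inv_id_apply (φ a) _
        exact congrArg (· * _) h1 }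
  obtain ⟨j, hj⟩ := exists_homModule E 𝒮.toModule f fun {a b} h x => by
    refine (φ b).commRingCatIsoToRingEquiv.injective ?_
    show (φ b).hom ((φ b).inv _) = (φ b).hom ((𝒮.presheaf.map _).hom ((φ a).inv _))
    rw [Iso.inv_hom_id_apply, hnat' h, Iso.inv_hom_id_apply]
    exact (symMap_ι (resLin E h) x).symm
  exact ⟨𝒮, j, ⟨⟨φ, hnat, hstr, hdeg, fun a x => by
    rw [hj]; exact Iso.inv_hom_id_apply (φ a) _⟩⟩⟩

variable {𝒮 : RelProj.QCGrAlg S} {j : E ⟶ 𝒮.toModule}

theorem Chartwise.isGrSymAlg (C : Chartwise E 𝒮 j) : RelProj.IsGrSymAlg E 𝒮 j := by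
  refine ⟨fun B φ => ?_, fun U hU x => (C.deg_iff ⟨U, hU⟩ 1 _).2 ((C.j_app ⟨U, hU⟩ x).symm ▸ ι_mem _ _ x)⟩
  have hlift : ∀ a : S.AffineZariskiSite, ∃ L : SymmetricAlgebra Γ(S, a.1) Γ(E, a.1) →+* B.presheaf.obj (op a.1),
      (∀ r, L (algebraMap _ _ r) = (B.str.app (op a.1)).hom r) ∧
      ∀ x, L (SymmetricAlgebra.ι _ _ x) = φ.app a.1 x := fun a => by
    letI : Algebra Γ(S, a.1) (B.presheaf.obj (op a.1)) := (B.str.app (op a.1)).hom.toAlgebra
    let l : Γ(E, a.1) →ₗ[Γ(S, a.1)] B.presheaf.obj (op a.1) :=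
      { toFun := fun x => φ.app a.1 x
        map_add' := fun x y => map_add _ x y
        map_smul' := fun r x => Scheme.Modules.Hom.app_smul φ r x }
    exact ⟨(SymmetricAlgebra.lift l).toRingHom, fun r => AlgHom.commutes _ r,
      fun x => SymmetricAlgebra.lift_ι_apply l x⟩
  choose L hL0 hL1 using hlift
  obtain ⟨ψ, hψ⟩ := exists_homQCAlg 𝒮.toQCAlg B (fun a => (C.φ a).hom ≫ CommRingCat.ofHom (L a))
    (fun {a b} h => by
      rw [← Category.assoc, ← C.natural a b (homOfLE h), Category.assoc, Category.assoc]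
      congr 1
      refine CommRingCat.hom_ext (ringHom_ext (fun r => ?_) fun x => ?_)
      · show L b (symMap (resLin E h) (algebraMap _ _ r)) = (B.presheaf.map _).hom (L a (algebraMap _ _ r))
        rw [symMap_algebraMap, hL0, hL0]
        exact congr($(B.str.naturality (homOfLE (Scheme.AffineZariskiSite.toOpens_mono h)).op).hom r)
      · show L b (symMap (resLin E h) (SymmetricAlgebra.ι _ _ x)) = (B.presheaf.map _).hom (L a (SymmetricAlgebra.ι _ _ x))
        rw [symMap_ι, hL1, hL1]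
        exact AModX.app_res φ _ x)
    (fun a => by
      rw [← Category.assoc, C.str]
      exact CommRingCat.hom_ext (RingHom.ext fun r => hL0 a r))
  refine ⟨ψ, homModule_ext fun a x => ?_, fun ψ' hψ' => homQCAlg_ext fun a => ?_⟩
  · show (ψ.hom.app (op a.1)).hom (j.app a.1 x) = φ.app a.1 x
    rw [hψ a]
    show L a ((C.φ a).hom (j.app a.1 x)) = φ.app a.1 x
    rw [C.j_app, hL1]
  · rw [hψ, ← cancel_epi (C.φ a).inv, Iso.inv_hom_id_assoc]
    refine CommRingCat.hom_ext (ringHom_ext (R := Γ(S, a.1)) (M := Γ(E, a.1)) (fun r => ?_) fun x => ?_)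
    · show (ψ'.hom.app (op a.1)).hom ((C.φ a).inv (algebraMap Γ(S, a.1) (SymmetricAlgebra Γ(S, a.1) Γ(E, a.1)) r)) = L a _
      rw [hL0]
      have h1 : (C.φ a).inv (algebraMap _ (SymmetricAlgebra Γ(S, a.1) Γ(E, a.1)) r) = (𝒮.str.app (op a.1)).hom r := by
        rw [show algebraMap _ (SymmetricAlgebra Γ(S, a.1) Γ(E, a.1)) r = (C.φ a).hom ((𝒮.str.app (op a.1)).hom r) from
          congr($(C.str a).hom r).symm]
        exact Iso.hom_inv_id_apply (C.φ a) _
      rw [h1]
      exact congr($(NatTrans.congr_app ψ'.comm (op a.1)).hom r)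
    · show (ψ'.hom.app (op a.1)).hom ((C.φ a).inv (SymmetricAlgebra.ι Γ(S, a.1) Γ(E, a.1) x)) = L a _
      rw [hL1, ← C.j_app, Iso.hom_inv_id_apply]
      exact congrArg (fun χ : E ⟶ B.toModule => χ.app a.1 x) hψ'

theorem Chartwise.isGenDegOne (C : Chartwise E 𝒮 j) : 𝒮.IsGenDegOne := by
  intro U hU
  let a : S.AffineZariskiSite := ⟨U, hU⟩
  let e : 𝒮.presheaf.obj (op U) ≃+* SymmetricAlgebra Γ(S, U) Γ(E, U) := (C.φ a).commRingCatIsoToRingEquiv
  refine top_unique fun x _ => ?_
  have h : e x ∈ Subring.closure ((symDegAdd Γ(S, U) Γ(E, U) 0 : Set _) ∪ (symDegAdd Γ(S, U) Γ(E, U) 1 : Set _)) := by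
    rw [closure_eq_top]; trivial
  have h2 := (Subring.mem_map (f := e.symm.toRingHom)).2 ⟨_, h, e.symm_apply_apply x⟩
  rw [RingHom.map_closure] at h2
  refine Subring.closure_mono ?_ h2
  rintro _ ⟨y, hy, rfl⟩
  rcases hy with hy | hy
  · exact Or.inl ((C.deg_iff a 0 _).2 (show e (e.symm y) ∈ _ by rw [e.apply_symm_apply]; exact hy))
  · exact Or.inr ((C.deg_iff a 1 _).2 (show e (e.symm y) ∈ _ by rw [e.apply_symm_apply]; exact hy))

/-- A graded symmetric algebra exists. -/
theorem exists_isGrSymAlg (hE : Coh.IsQCoh E) :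
    ∃ (𝒮 : RelProj.QCGrAlg S) (j : E ⟶ 𝒮.toModule), RelProj.IsGrSymAlg E 𝒮 j ∧ 𝒮.IsGenDegOne := by
  obtain ⟨𝒮, j, ⟨C⟩⟩ := exists_chartwise hE
  exact ⟨𝒮, j, C.isGrSymAlg, C.isGenDegOne⟩

/-- Any graded symmetric algebra of a quasi-coherent module is chartwise the symmetric algebra. -/
theorem nonempty_chartwise (hE : Coh.IsQCoh E) (h : RelProj.IsGrSymAlg E 𝒮 j) : Nonempty (Chartwise E 𝒮 j) := by
  classical
  obtain ⟨𝒜, k, ⟨C⟩⟩ := exists_chartwise hE
  obtain ⟨u, hu, -⟩ := C.isGrSymAlg.1 𝒮.toQCAlg j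
  obtain ⟨v, hv, -⟩ := h.1 𝒜.toQCAlg k
  have hvu : v ≫ u = 𝟙 _ := (h.1 𝒮.toQCAlg j).unique
    (homModule_ext fun a x => by
      show (u.hom.app (op a.1)).hom ((v.hom.app (op a.1)).hom (j.app a.1 x)) = j.app a.1 x
      have e1 := congrArg (fun χ : E ⟶ 𝒜.toModule => χ.app a.1 x) hv
      have e2 := congrArg (fun χ : E ⟶ 𝒮.toModule => χ.app a.1 x) hu
      exact (congrArg (u.hom.app (op a.1)).hom e1).trans e2)
    (homModule_ext fun a x => rfl)
  have huv : u ≫ v = 𝟙 _ := (C.isGrSymAlg.1 𝒜.toQCAlg k).unique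
    (homModule_ext fun a x => by
      show (v.hom.app (op a.1)).hom ((u.hom.app (op a.1)).hom (k.app a.1 x)) = k.app a.1 x
      have e1 := congrArg (fun χ : E ⟶ 𝒮.toModule => χ.app a.1 x) hu
      have e2 := congrArg (fun χ : E ⟶ 𝒜.toModule => χ.app a.1 x) hv
      exact (congrArg (v.hom.app (op a.1)).hom e1).trans e2)
    (homModule_ext fun a x => rfl)
  have hu0 : ∀ (a : S.AffineZariskiSite) (z : 𝒜.presheaf.obj (op a.1)),
      (v.hom.app (op a.1)).hom ((u.hom.app (op a.1)).hom z) = z := fun a z =>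
    congr($(NatTrans.congr_app (congrArg RelSpec.QCAlg.Hom.hom huv) (op a.1)).hom z)
  have hv0 : ∀ (a : S.AffineZariskiSite) (z : 𝒮.presheaf.obj (op a.1)),
      (u.hom.app (op a.1)).hom ((v.hom.app (op a.1)).hom z) = z := fun a z =>
    congr($(NatTrans.congr_app (congrArg RelSpec.QCAlg.Hom.hom hvu) (op a.1)).hom z)
  -- `u` preserves degrees
  have humem : ∀ (a : S.AffineZariskiSite) (d : ℕ) (z : 𝒜.presheaf.obj (op a.1)),
      z ∈ 𝒜.deg a.1 a.2 d → (u.hom.app (op a.1)).hom z ∈ 𝒮.deg a.1 a.2 d := by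
    intro a d z hz
    replace hz : (C.φ a).hom z ∈ symDeg Γ(S, a.1) Γ(E, a.1) d := (C.deg_iff a d z).1 hz
    rw [show z = (C.φ a).inv ((C.φ a).hom z) from (Iso.hom_inv_id_apply (C.φ a) z).symm]
    revert hz
    generalize (C.φ a).hom z = w
    intro hw
    induction hw using Submodule.pow_induction_on_left' with
    | algebraMap r =>
      erw [show algebraMap _ (SymmetricAlgebra Γ(S, a.1) Γ(E, a.1)) r = (C.φ a).hom ((𝒜.str.app (op a.1)).hom r) from
          congr($(C.str a).hom r).symm]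
      rw [Iso.hom_inv_id_apply]
      rw [show (u.hom.app (op a.1)).hom ((𝒜.str.app (op a.1)).hom r) = (𝒮.str.app (op a.1)).hom r from
        congr($(NatTrans.congr_app u.comm (op a.1)).hom r)]
      exact 𝒮.str_mem a.1 a.2 r
    | add x y i hx hy ihx ihy =>
      rw [map_add, map_add]
      exact add_mem ihx ihy
    | mem_mul m hm i x hx ih =>
      obtain ⟨m, rfl⟩ := hm
      rw [map_mul, map_mul, ← C.j_app, Iso.hom_inv_id_apply,
        show (u.hom.app (op a.1)).hom (k.app a.1 m) = j.app a.1 m from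
          congrArg (fun χ : E ⟶ 𝒮.toModule => χ.app a.1 m) hu, Nat.succ_eq_add_one, add_comm i 1]
      exact SetLike.mul_mem_graded (h.2 a.1 a.2 m) ih
  have hvmem : ∀ (a : S.AffineZariskiSite) (d : ℕ) (z : 𝒮.presheaf.obj (op a.1)),
      z ∈ 𝒮.deg a.1 a.2 d → (v.hom.app (op a.1)).hom z ∈ 𝒜.deg a.1 a.2 d := by
    intro a d z hz
    let ρ : 𝒜.deg a.1 a.2 →+*ᵍ 𝒮.deg a.1 a.2 :=
      { (u.hom.app (op a.1)).hom with map_mem := fun hx => humem a _ _ hx }
    set w := (v.hom.app (op a.1)).hom z with hw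
    suffices w = (DirectSum.decompose (𝒜.deg a.1 a.2) w d : 𝒜.presheaf.obj (op a.1)) by
      rw [this]; exact SetLike.coe_mem _
    have hρ : ρ (DirectSum.decompose (𝒜.deg a.1 a.2) w d : 𝒜.presheaf.obj (op a.1)) = z := by
      rw [GradedRingHom.map_directSumDecompose, show ρ w = z from hv0 a z, DirectSum.decompose_of_mem_same _ hz]
    have := congrArg (v.hom.app (op a.1)).hom hρ
    exact (this.symm.trans (hu0 a _))
  refine ⟨{
    φ := fun a =>
      { hom := v.hom.app (op a.1) ≫ (C.φ a).hom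
        inv := (C.φ a).inv ≫ u.hom.app (op a.1)
        hom_inv_id := CommRingCat.hom_ext (RingHom.ext fun z => by
          show (u.hom.app (op a.1)).hom ((C.φ a).inv ((C.φ a).hom ((v.hom.app (op a.1)).hom z))) = z
          rw [Iso.hom_inv_id_apply, hv0])
        inv_hom_id := CommRingCat.hom_ext (RingHom.ext fun z => by
          show (C.φ a).hom ((v.hom.app (op a.1)).hom ((u.hom.app (op a.1)).hom ((C.φ a).inv z))) = z
          rw [hu0, Iso.inv_hom_id_apply]) }
    natural := fun a b i => by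
      show (v.hom.app (op a.1) ≫ (C.φ a).hom) ≫ _ = _ ≫ v.hom.app (op b.1) ≫ (C.φ b).hom
      rw [Category.assoc, C.natural a b i, ← Category.assoc, ← v.hom.naturality, Category.assoc]
    str := fun a => by
      show 𝒮.str.app (op a.1) ≫ v.hom.app (op a.1) ≫ (C.φ a).hom = _
      rw [← Category.assoc, show 𝒮.str.app (op a.1) ≫ v.hom.app (op a.1) = 𝒜.str.app (op a.1) from
        NatTrans.congr_app v.comm (op a.1), C.str]
    deg_iff := fun a d x => by
      refine ⟨fun hx => (C.deg_iff a d _).1 (hvmem a d x hx), fun hx => ?_⟩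
      rw [← hv0 a x]
      exact humem a d _ ((C.deg_iff a d _).2 hx)
    j_app := fun a x => by
      show (C.φ a).hom ((v.hom.app (op a.1)).hom (j.app a.1 x)) = _
      rw [show (v.hom.app (op a.1)).hom (j.app a.1 x) = k.app a.1 x from
        congrArg (fun χ : E ⟶ 𝒜.toModule => χ.app a.1 x) hv, C.j_app] }⟩

/-- A graded symmetric algebra of a quasi-coherent module is generated in degree one. -/
theorem isGenDegOne_of_isGrSymAlg (hE : Coh.IsQCoh E) (h : RelProj.IsGrSymAlg E 𝒮 j) : 𝒮.IsGenDegOne :=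
  (nonempty_chartwise hE h).some.isGenDegOne

end Groth.Agent.SymX
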