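import Groth.Agent.ProjX.Proper
import Groth.Agent.Proj16.RelMap
import Groth.Agent.RelTildeX.Props
import Groth.Agent.SymX.SymAlg

/-!
# The morphism of a relative `Proj` into the projective bundle of its degree one part
-/

set_option linter.style.haveILetI false
set_option linter.unusedSectionVars false
set_option backward.isDefEq.respectTransparency false
set_option backward.isDefEq.respectTransparency.types false

noncomputable section

universe u

open CategoryTheory CategoryTheory.Limits AlgebraicGeometry TopologicalSpace Opposite HomogeneousLocalization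
open scoped HomogeneousIdeal

namespace Groth.Agent.SymX

open Groth.Agent

variable {A σ B τ : Type u} [CommRing A] [SetLike σ A] [AddSubgroupClass σ A]
  [CommRing B] [SetLike τ B] [AddSubgroupClass τ B] {𝒜 : ℕ → σ} [GradedRing 𝒜] {ℬ : ℕ → τ} [GradedRing ℬ]

/-- A graded homomorphism surjective in positive degrees gives a closed immersion. -/
theorem isClosedImmersion_map_of_pos (q : 𝒜 →+*ᵍ ℬ) (hirr : ℬ₊ ≤ (𝒜₊).map q)
    (hpos : ∀ d, 0 < d → ∀ x ∈ ℬ d, ∃ a ∈ 𝒜 d, q a = x) : IsClosedImmersion (Proj.map q hirr) := by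
  refine Proj16.map_of_away (P := @IsClosedImmersion) q hirr fun d s hd hs => ?_
  refine IsClosedImmersion.spec_of_surjective _ fun z => ?_
  obtain ⟨k, b, hb, rfl⟩ := z.mk_surjective ℬ (q.2 hs)
  obtain ⟨a, ha, hab⟩ := hpos ((k + 1) • d) (by simp only [smul_eq_mul]; positivity) (q s * b) (by
    simpa [Nat.succ_mul, add_comm] using SetLike.mul_mem_graded (q.2 hs) hb)
  refine ⟨Away.mk _ hs (k + 1) a ha, ?_⟩
  rw [Proj16.awayMk_succ (𝒜 := ℬ) (q.2 hs) k b hb]
  show Away.map q s _ = _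
  rw [Away.map_mk]
  congr 1

/-- A graded homomorphism onto degree one is onto in positive degrees, if degree one generates. -/
theorem pos_surjective (q : 𝒜 →+*ᵍ ℬ) (hspan : (ℬ₊).toIdeal = Ideal.span (ℬ 1 : Set B))
    (h1 : ∀ x ∈ ℬ 1, ∃ a ∈ 𝒜 1, q a = x) : ∀ d, 0 < d → ∀ x ∈ ℬ d, ∃ a ∈ 𝒜 d, q a = x := by
  classical
  suffices h : ∀ d, ∀ x ∈ ℬ (d + 1), ∃ a ∈ 𝒜 (d + 1), q a = x by
    intro d hd x hx
    obtain ⟨d, rfl⟩ := Nat.exists_eq_add_of_le' hd
    exact h d x hx
  intro d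
  induction d with
  | zero => exact h1
  | succ d ih =>
    intro x hx
    have hxs : x ∈ Ideal.span (ℬ 1 : Set B) := hspan ▸ HomogeneousIdeal.mem_irrelevant_of_mem _ (Nat.succ_pos _) hx
    have key : ∀ c ∈ Ideal.span (ℬ 1 : Set B),
        ∃ a ∈ 𝒜 (d + 1 + 1), q a = (DirectSum.decompose ℬ c (d + 1 + 1) : B) := by
      intro c hc
      induction hc using Submodule.span_induction with
      | mem s hs =>
        refine ⟨0, zero_mem _, ?_⟩
        rw [DirectSum.decompose_of_mem_ne _ hs (by omega), map_zero]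
      | zero => exact ⟨0, zero_mem _, by simp⟩
      | add x y _ _ hx hy =>
        obtain ⟨a, ha, ea⟩ := hx
        obtain ⟨b, hb, eb⟩ := hy
        exact ⟨a + b, add_mem ha hb, by rw [map_add, ea, eb, DirectSum.decompose_add]; rfl⟩
      | smul r c hc _ =>
        rw [smul_eq_mul]
        -- `c` is a combination of degree one elements
        clear * - hc ih h1
        induction hc using Submodule.span_induction generalizing r with
        | mem s hs =>
          obtain ⟨a, ha, ea⟩ := h1 s hs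
          obtain ⟨b, hb, eb⟩ := ih (DirectSum.decompose ℬ r (d + 1) : B) (SetLike.coe_mem _)
          refine ⟨b * a, SetLike.mul_mem_graded hb ha, ?_⟩
          rw [map_mul, ea, eb, DirectSum.coe_decompose_mul_of_right_mem_of_le ℬ hs (by omega)]
          rfl
        | zero => exact ⟨0, zero_mem _, by simp⟩
        | add x y _ _ hx hy =>
          obtain ⟨a, ha, ea⟩ := hx r
          obtain ⟨b, hb, eb⟩ := hy r
          exact ⟨a + b, add_mem ha hb, by rw [map_add, ea, eb, mul_add, DirectSum.decompose_add]; rfl⟩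
        | smul r' c _ h =>
          obtain ⟨a, ha, ea⟩ := h (r * r')
          exact ⟨a, ha, by rw [ea, smul_eq_mul, mul_assoc]⟩
    obtain ⟨a, ha, ea⟩ := key x hxs
    exact ⟨a, ha, ea.trans (DirectSum.decompose_of_mem_same _ hx)⟩

variable {Y PT PS : Scheme.{u}} {𝒮 𝒯 : RelProj.QCGrAlg Y}

theorem isClosedImmersion_relProjMap_pos (hgen : 𝒮.IsGenDegOne)
    (ubar : 𝒯.toQCAlg ⟶ 𝒮.toQCAlg) (hubar : RelProj.IsGradedHom ubar)
    (h1 : ∀ (U : Y.Opens) (hU : IsAffineOpen U), ∀ x ∈ 𝒮.deg U hU 1,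
      ∃ a ∈ 𝒯.deg U hU 1, (ubar.hom.app (op U)).hom a = x)
    {hirr : ∀ (U : Y.Opens) (hU : IsAffineOpen U),
      (𝒮.deg U hU)₊ ≤ ((𝒯.deg U hU)₊).map (RelProj.gradedHomAt ubar hubar U hU)}
    {pT : PT ⟶ Y} {pS : PS ⟶ Y}
    {chartT : ∀ (U : Y.Opens) (hU : IsAffineOpen U), (((pT ⁻¹ᵁ U : PT.Opens) : Scheme.{u}) ≅ Proj (𝒯.deg U hU))}
    {chartS : ∀ (U : Y.Opens) (hU : IsAffineOpen U), (((pS ⁻¹ᵁ U : PS.Opens) : Scheme.{u}) ≅ Proj (𝒮.deg U hU))}
    (hPT : RelProj.IsRelProj 𝒯 pT chartT) (hPS : RelProj.IsRelProj 𝒮 pS chartS)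
    {h : PS ⟶ PT} (hh : RelProj.IsRelProjMap ubar hubar hirr chartT chartS h) : IsClosedImmersion h :=
  Proj16.relProjMap_of_affineOpens hPT hPS hh @IsClosedImmersion fun U hU =>
    isClosedImmersion_map_of_pos _ _
      (pos_surjective _ (RelTildeX.irrelevant_eq_span_deg_one hgen U hU) (h1 U hU))

end Groth.Agent.SymX
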