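import Groth.Agent.SymX.Taut
import Groth.Agent.SymX.IntoBundle
import Groth.Agent.ProjX.TwistPull
import Groth.Agent.QCoh.AlgGen

/-!
# Relative very ampleness from an immersion into a relative `Proj`
-/

set_option linter.style.haveILetI false
set_option linter.unusedSectionVars false
set_option backward.isDefEq.respectTransparency false
set_option backward.isDefEq.respectTransparency.types false

noncomputable section

universe u

open CategoryTheory CategoryTheory.Limits AlgebraicGeometry TopologicalSpace Opposite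
open scoped HomogeneousIdeal

namespace Groth.Agent.SymX

open Groth.Agent

variable {Y : Scheme.{u}} (𝒮 : RelProj.QCGrAlg Y)

/-- The projection of a graded algebra to its part of degree one. -/
theorem exists_degOne : ∃ π : 𝒮.toModule ⟶ 𝒮.toModule,
    ∀ (U : Y.Opens) (hU : IsAffineOpen U) (x : 𝒮.presheaf.obj (op U)),
      (show 𝒮.presheaf.obj (op U) from π.app U x) = (DirectSum.decompose (𝒮.deg U hU) x 1 : 𝒮.presheaf.obj (op U)) := by
  classical
  let f : ∀ a : Y.AffineZariskiSite, Γ(𝒮.toModule, a.1) →ₗ[Γ(Y, a.1)] Γ(𝒮.toModule, a.1) := fun a =>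
    { toFun := fun x => (DirectSum.decompose (𝒮.deg a.1 a.2) (show 𝒮.presheaf.obj (op a.1) from x) 1 :
        𝒮.presheaf.obj (op a.1))
      map_add' := fun x y => by
        show ((DirectSum.decompose (𝒮.deg a.1 a.2) ((show 𝒮.presheaf.obj (op a.1) from x) +
          (show 𝒮.presheaf.obj (op a.1) from y)) 1 : 𝒮.presheaf.obj (op a.1))) = _
        rw [DirectSum.decompose_add]
        rfl
      map_smul' := fun r x => by
        have h0 := 𝒮.str_mem a.1 a.2 r
        have := DirectSum.coe_decompose_mul_add_of_left_mem (𝒮.deg a.1 a.2)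
          (b := (show 𝒮.presheaf.obj (op a.1) from x)) (j := 1) h0
        rw [zero_add] at this
        exact this }
  obtain ⟨π, hπ⟩ := exists_homModule 𝒮.toModule 𝒮.toModule f fun {a b} h x => by
    refine Eq.trans ?_ (GradedRingHom.map_directSumDecompose (f := 𝒮.res a.2 b.2
      (Scheme.AffineZariskiSite.toOpens_mono h)) (x := (show 𝒮.presheaf.obj (op a.1) from x)) (i := 1)).symm
    rfl
  exact ⟨π, fun U hU x => hπ ⟨U, hU⟩ x⟩

/-- A homomorphism from a graded symmetric algebra sending generators to degree one is graded. -/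
theorem isGradedHom_of_chartwise {E : Y.Modules} {𝒯 : RelProj.QCGrAlg Y} {k : E ⟶ 𝒯.toModule}
    (C : Chartwise E 𝒯 k) {v : 𝒯.toQCAlg ⟶ 𝒮.toQCAlg}
    (hv : ∀ (U : Y.Opens) (hU : IsAffineOpen U) (x : Γ(E, U)),
      (v.hom.app (op U)).hom (k.app U x) ∈ 𝒮.deg U hU 1) : RelProj.IsGradedHom v := by
  intro U hU d z hz
  let a : Y.AffineZariskiSite := ⟨U, hU⟩
  show (v.hom.app (op a.1)).hom z ∈ 𝒮.deg a.1 a.2 d
  replace hz : (C.φ a).hom z ∈ symDeg Γ(Y, a.1) Γ(E, a.1) d := (C.deg_iff a d z).1 hz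
  rw [show z = (C.φ a).inv ((C.φ a).hom z) from (Iso.hom_inv_id_apply (C.φ a) z).symm]
  revert hz
  generalize (C.φ a).hom z = w
  intro hw
  induction hw using Submodule.pow_induction_on_left' with
  | algebraMap r =>
    erw [show algebraMap _ (SymmetricAlgebra Γ(Y, a.1) Γ(E, a.1)) r = (C.φ a).hom ((𝒯.str.app (op a.1)).hom r) from
        congr($(C.str a).hom r).symm]
    rw [Iso.hom_inv_id_apply]
    rw [show (v.hom.app (op a.1)).hom ((𝒯.str.app (op a.1)).hom r) = (𝒮.str.app (op a.1)).hom r from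
      congr($(NatTrans.congr_app v.comm (op a.1)).hom r)]
    exact 𝒮.str_mem a.1 a.2 r
  | add x y i hx hy ihx ihy =>
    rw [map_add, map_add]
    exact add_mem ihx ihy
  | mem_mul m hm i x hx ih =>
    obtain ⟨m, rfl⟩ := hm
    rw [map_mul, map_mul, ← C.j_app, Iso.hom_inv_id_apply, Nat.succ_eq_add_one, add_comm i 1]
    exact SetLike.mul_mem_graded (hv a.1 a.2 m) ih

variable {𝒮} {P : Scheme.{u}} {p : P ⟶ Y}
  {chart : ∀ (U : Y.Opens) (hU : IsAffineOpen U), (((p ⁻¹ᵁ U : P.Opens) : Scheme.{u}) ≅ Proj (𝒮.deg U hU))}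
  {O1 : P.Modules}
  {lam : ∀ (U : Y.Opens) (hU : IsAffineOpen U),
    O1 ⟶ (Scheme.Modules.pushforward (RelProj.emb p chart U hU)).obj (GrTwist.twist (𝒮.deg U hU) 1)}

/-- An immersion into a relative `Proj` generated in degree one makes the pullback of `O(1)` very ample. -/
theorem isRelVeryAmple_of_immersion (hgen : 𝒮.IsGenDegOne) (hP : RelProj.IsRelProj 𝒮 p chart)
    (hO1 : RelProj.IsRelTwist 𝒮 p chart 1 O1 lam) {X : Scheme.{u}} {q : X ⟶ Y} (i : X ⟶ P) [IsImmersion i]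
    (hi : i ≫ p = q) {L : X.Modules} (e : L ≅ (Scheme.Modules.pullback i).obj O1) :
    RelProj.IsRelVeryAmple q L := by
  obtain ⟨π, hπ⟩ := exists_degOne 𝒮
  have hE : Coh.IsQCoh 𝒮.toModule := QCoh.isQCoh_toModule 𝒮.toQCAlg
  obtain ⟨𝒯, k, ⟨C⟩⟩ := exists_chartwise hE
  have hk := C.isGrSymAlg
  obtain ⟨v, hv, -⟩ := hk.1 𝒮.toQCAlg π
  have hvk : ∀ (U : Y.Opens) (hU : IsAffineOpen U) (x : Γ(𝒮.toModule, U)),
      (v.hom.app (op U)).hom (k.app U x) =
        (DirectSum.decompose (𝒮.deg U hU) (show 𝒮.presheaf.obj (op U) from x) 1 : 𝒮.presheaf.obj (op U)) :=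
    fun U hU x => (congrArg (fun χ : 𝒮.toModule ⟶ 𝒮.toModule => χ.app U x) hv).trans (hπ U hU x)
  have hgr : RelProj.IsGradedHom v :=
    isGradedHom_of_chartwise 𝒮 C fun U hU x => by rw [hvk U hU x]; exact SetLike.coe_mem _
  have h1 : ∀ (U : Y.Opens) (hU : IsAffineOpen U), ∀ x ∈ 𝒮.deg U hU 1,
      ∃ a ∈ 𝒯.deg U hU 1, (v.hom.app (op U)).hom a = x := fun U hU x hx =>
    ⟨k.app U x, hk.2 U hU x, (hvk U hU x).trans (DirectSum.decompose_of_mem_same _ hx)⟩
  have hirr : ∀ (U : Y.Opens) (hU : IsAffineOpen U),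
      (𝒮.deg U hU)₊ ≤ ((𝒯.deg U hU)₊).map (RelProj.gradedHomAt v hgr U hU) := fun U hU => by
    show ((𝒮.deg U hU)₊).toIdeal ≤ Ideal.map (RelProj.gradedHomAt v hgr U hU) ((𝒯.deg U hU)₊).toIdeal
    rw [RelTildeX.irrelevant_eq_span_deg_one hgen U hU]
    refine Ideal.span_le.2 fun x hx => ?_
    obtain ⟨a, ha, hax⟩ := h1 U hU x hx
    rw [← hax]
    exact Ideal.mem_map_of_mem _ (HomogeneousIdeal.mem_irrelevant_of_mem _ one_pos ha)
  obtain ⟨P', p', chart', hP'⟩ := Proj16.exists_isRelProj 𝒯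
  obtain ⟨O1', lam', hO1'⟩ := ProjX.exists_isRelTwist hP' 1
  obtain ⟨g, hg, -⟩ := Proj16.existsUnique_isRelProjMap v hgr hirr hP' hP
  haveI : IsClosedImmersion g := isClosedImmersion_relProjMap_pos hgen v hgr h1 hP' hP hg
  obtain ⟨τ⟩ := ProjX.nonempty_pullback_relTwist_iso hg hP' hP hO1' hO1 C.isGenDegOne
  refine ⟨_, hE, 𝒯, k, hk, P', p', chart', hP', O1', lam', hO1', i ≫ g, inferInstance, ?_,
    ⟨e ≪≫ (Scheme.Modules.pullback i).mapIso τ.symm ≪≫ (Scheme.Modules.pullbackComp i g).app O1'⟩⟩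
  rw [Category.assoc, Proj16.relProjMap_comp hP' hP hg, hi]

end Groth.Agent.SymX
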