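import Groth.Agent.SymX.TensorTheta

/-!
# Tensor products of very ample modules
-/

set_option linter.style.haveILetI false
set_option linter.unusedSectionVars false
set_option backward.isDefEq.respectTransparency false
set_option backward.isDefEq.respectTransparency.types false

noncomputable section

universe u

open CategoryTheory CategoryTheory.Limits AlgebraicGeometry TopologicalSpace Opposite

namespace Groth.Agent.SymX

open Groth.Agent

/-- Being an immersion is local at the image. -/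
theorem isImmersion_of_locally {X P : Scheme.{u}} (r : X ⟶ P)
    (h : ∀ x, ∃ D : P.Opens, r x ∈ D ∧ IsImmersion ((r ⁻¹ᵁ D).ι ≫ r)) : IsImmersion r := by
  choose D hD hI using h
  let W : P.Opens := ⨆ x, D x
  have hW : Set.range r ⊆ (W : Set P) := by
    rintro _ ⟨x, rfl⟩
    exact Opens.mem_iSup.2 ⟨x, hD x⟩
  let f := IsOpenImmersion.lift W.ι r (by rw [Scheme.Opens.range_ι]; exact hW)
  have hf : f ≫ W.ι = r := IsOpenImmersion.lift_fac _ _ _
  suffices IsImmersion f by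
    rw [← hf]; infer_instance
  refine IsZariskiLocalAtTarget.of_iSup_eq_top (P := @IsImmersion) (fun x => W.ι ⁻¹ᵁ D x) ?_ fun x => ?_
  · rw [eq_top_iff]
    intro w _
    obtain ⟨x, hx⟩ := Opens.mem_iSup.1 w.2
    exact Opens.mem_iSup.2 ⟨x, hx⟩
  · let V := W.ι ⁻¹ᵁ D x
    have key : ∀ Z : X.Opens, Z = r ⁻¹ᵁ D x → IsImmersion (Z.ι ≫ r) := by rintro _ rfl; exact hI x
    haveI : IsImmersion ((f ∣_ V) ≫ (V.ι ≫ W.ι)) := by
      rw [morphismRestrict_ι_assoc, hf]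
      exact key _ (by rw [← hf]; rfl)
    exact IsImmersion.of_comp (f ∣_ V) (V.ι ≫ W.ι)

section refine_

variable {X Y P P'' : Scheme.{u}} {E E'' : Y.Modules} {𝒮 : RelProj.QCGrAlg Y} {p : P ⟶ Y}
  {chart : ∀ (U : Y.Opens) (hU : IsAffineOpen U), (((p ⁻¹ᵁ U : P.Opens) : Scheme.{u}) ≅ Proj (𝒮.deg U hU))}
  {O1 : P.Modules} {lam : ∀ (U : Y.Opens) (hU : IsAffineOpen U),
    O1 ⟶ (Scheme.Modules.pushforward (RelProj.emb p chart U hU)).obj (GrTwist.twist (𝒮.deg U hU) 1)}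
  {j : E ⟶ 𝒮.toModule} {φ : E ⟶ (Scheme.Modules.pushforward p).obj O1}
  {𝒮'' : RelProj.QCGrAlg Y} {p'' : P'' ⟶ Y}
  {chart'' : ∀ (U : Y.Opens) (hU : IsAffineOpen U), (((p'' ⁻¹ᵁ U : P''.Opens) : Scheme.{u}) ≅ Proj (𝒮''.deg U hU))}
  {O1'' : P''.Modules} {lam'' : ∀ (U : Y.Opens) (hU : IsAffineOpen U),
    O1'' ⟶ (Scheme.Modules.pushforward (RelProj.emb p'' chart'' U hU)).obj (GrTwist.twist (𝒮''.deg U hU) 1)}
  {j'' : E'' ⟶ 𝒮''.toModule}
  {φ'' : E'' ⟶ (Scheme.Modules.pushforward p'').obj O1''}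
  {g : X ⟶ Y} {L L'' : X.Modules} {θ : E ⟶ (Scheme.Modules.pushforward g).obj L}
  {θ'' : E'' ⟶ (Scheme.Modules.pushforward g).obj L''} {r : X ⟶ P''} {i : X ⟶ P}

/-- Over the open of a product of generators the morphism to the larger bundle refines the one to the factor. -/
theorem exists_refine (C : Chartwise E 𝒮 j) (hP : RelProj.IsRelProj 𝒮 p chart)
    (hO1 : RelProj.IsRelTwist 𝒮 p chart 1 O1 lam) (hφ : IsTaut lam j φ)
    (C'' : Chartwise E'' 𝒮'' j'')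
    (hO1'' : RelProj.IsRelTwist 𝒮'' p'' chart'' 1 O1'' lam'') (hφ'' : IsTaut lam'' j'' φ'')
    (hi : i ≫ p = g) (hic : IsCompat' φ g θ i) (hr : r ≫ p'' = g) (hrc : IsCompat' φ'' g θ'' r)
    (hgen'' : ∀ x : X, ∃ (U : Y.Opens) (_ : IsAffineOpen U) (e : Γ(E'', U)), x ∈ AmpleX.locus (th g θ'' e))
    (U : Y.Opens) (hU : IsAffineOpen U) (e : Γ(E, U)) (μ : Γ(E, U) →ₗ[Γ(Y, U)] Γ(E'', U))
    (hμZ : AmpleX.locus (th g θ'' (μ e)) ≤ AmpleX.locus (th g θ e))
    (hμ : ∀ (m : Γ(E, U)) (W : X.Opens) (hW : W ≤ g ⁻¹ᵁ U) (k : Γ(X, W)),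
      AModX.res L hW (th g θ m) = k • AModX.res L hW (th g θ e) →
        AModX.res L'' hW (th g θ'' (μ m)) = k • AModX.res L'' hW (th g θ'' (μ e))) :
    ∃ σ : (dOpen p'' chart'' j'' U hU (μ e)).toScheme ⟶ P,
      r.resLE (dOpen p'' chart'' j'' U hU (μ e)) (r ⁻¹ᵁ dOpen p'' chart'' j'' U hU (μ e)) le_rfl ≫ σ =
        (r ⁻¹ᵁ dOpen p'' chart'' j'' U hU (μ e)).ι ≫ i := by
  let D'' := dOpen p'' chart'' j'' U hU (μ e)
  let D := dOpen p chart j U hU e
  let Z := r ⁻¹ᵁ D''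
  have hD'' : D'' ≤ AmpleX.locus (ph φ'' (μ e)) :=
    le_locus_taut hO1'' C''.isGrSymAlg.2 U hU _ _ (hφ'' U hU _)
  have hD''U : D'' ≤ p'' ⁻¹ᵁ U := dOpen_le U hU _
  have hf'' := AmpleX.isFrame_res_of_le (M := O1'') (ph φ'' (μ e)) hD''
  have hZl : Z ≤ AmpleX.locus (th g θ'' (μ e)) :=
    (r.preimage_mono hD'').trans (hrc.le_locus C'' hO1'' hφ'' hr hgen'' U hU _)
  have hZU : Z ≤ g ⁻¹ᵁ U := hZl.trans (AmpleX.locus_le _)
  have hfe := AmpleX.isFrame_res_of_le (th g θ e) (hZl.trans hμZ)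
  have hfe'' := AmpleX.isFrame_res_of_le (th g θ'' (μ e)) hZl
  have hiD : Z ≤ Z.ι ''ᵁ ((Z.ι ≫ i) ⁻¹ᵁ D) :=
    (hic.isCompat Z).le_dOpen C hO1 hφ (by rw [Category.assoc, hi]) hU e hZU le_rfl hfe
  -- the coordinates of the products with the second generator
  have hco : ∀ m : Γ(E, U), ∃ a : Γ(P'', D''),
      AModX.res O1'' hD''U (ph φ'' (μ m)) = a • AModX.res O1'' hD''U (ph φ'' (μ e)) := by
    intro m
    obtain ⟨a, ha⟩ := hf''.exists_coord le_rfl (AModX.res O1'' hD''U (ph φ'' (μ m)))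
    rw [AModX.res_self] at ha
    exact ⟨a, ha⟩
  choose co hco using hco
  have huniq : ∀ a b : Γ(P'', D''), a • AModX.res O1'' hD''U (ph φ'' (μ e)) =
      b • AModX.res O1'' hD''U (ph φ'' (μ e)) → a = b := fun a b h => by
    refine hf''.coord_unique le_rfl ?_
    rwa [AModX.res_self]
  let c : Γ(E, U) →+ Γ(P'', D'') := AddMonoidHom.mk' co fun m m' => huniq _ _ (by
    rw [← hco, add_smul, ← hco, ← hco, ← map_add, μ.map_add]
    exact congrArg _ (th_add φ'' _ _))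
  let τ : Γ(Y, U) →+* Γ(P'', D'') := (AModX.resR hD''U).comp (p''.app U).hom
  have hc : ∀ a m, c (a • m) = τ a * c m := fun a m => huniq _ _ (by
    show co (a • m) • _ = (τ a * co m) • _
    rw [← hco, mul_smul, ← hco, μ.map_smul]
    refine Eq.trans (congrArg (AModX.res O1'' hD''U) (th_smul φ'' a _)) ?_
    exact AModX.res_smul (M := O1'') hD''U (p''.app U a) _)
  have hce : c e = 1 := huniq _ _ (by rw [one_smul]; exact (hco e).symm)
  obtain ⟨ρ, hρ0, hρ1⟩ := exists_away_hom C U hU e τ c hc hce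
  let dE := RingEquiv.ofBijective _ (dFun_bijective (p := p) (chart := chart) C U hU e)
  have hD : IsAffineOpen D := isAffineOpen_dOpen (p := p) (chart := chart) C U hU e
  let ρ' : Γ(P, D) ⟶ Γ(P'', D'') := CommRingCat.ofHom (ρ.comp dE.symm.toRingHom)
  let σ : D''.toScheme ⟶ P := D''.toSpecΓ ≫ Spec.map ρ' ≫ hD.fromSpec
  let s : Z.toScheme ⟶ D''.toScheme := r.resLE D'' Z le_rfl
  let ρ₂ : Γ(P, D) ⟶ Γ(X, Z) := ρ' ≫ r.appLE D'' Z le_rfl
  have e1 : s ≫ σ = Z.toSpecΓ ≫ Spec.map ρ₂ ≫ hD.fromSpec := by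
    rw [Spec.map_comp_assoc, Scheme.Opens.toSpecΓ_SpecMap_appLE_assoc]
  have hsD : Z ≤ Z.ι ''ᵁ ((Z.toSpecΓ ≫ Spec.map ρ₂ ≫ hD.fromSpec) ⁻¹ᵁ D) := fun x hx =>
    ⟨⟨x, hx⟩, hD.opensRange_fromSpec.le ⟨(Z.toSpecΓ ≫ Spec.map ρ₂) ⟨x, hx⟩, rfl⟩, rfl⟩
  have key : s ≫ σ = Z.ι ≫ i := by
    rw [e1]
    refine eq_of_pf_eq _ _ hD hsD hiD ?_
    refine RingHom.ext fun z => ?_
    obtain ⟨z, rfl⟩ := (dFun_bijective (p := p) (chart := chart) C U hU e).2 z
    have e2 : ((pf (Z.toSpecΓ ≫ Spec.map ρ₂ ≫ hD.fromSpec) D Z hsD).comp (dFun p chart j U hU e)) =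
        ((pf (Z.ι ≫ i) D Z hiD).comp (dFun p chart j U hU e)) := by
      have hρ' : ∀ w, ρ₂.hom (dFun p chart j U hU e w) = r.appLE D'' Z le_rfl (ρ w) := fun w =>
        congrArg (fun q => r.appLE D'' Z le_rfl (ρ q)) (dE.symm_apply_apply w)
      refine away_hom_ext C U hU e _ _ (fun a => ?_) (fun m => ?_)
      · simp only [RingHom.comp_apply]
        rw [pf_toSpecΓ_fromSpec, hρ', hρ0, ← res_p_app C hP,
          pf_base _ (show (Z.ι ≫ i) ≫ p = Z.ι ≫ g by rw [Category.assoc, hi]) (dOpen_le _ _ _) Z hiD hZU,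
          AModX.resR_self]
        have := pf_base (Z.ι ≫ r) (show (Z.ι ≫ r) ≫ p'' = Z.ι ≫ g by rw [Category.assoc, hr]) hD''U Z
          (le_image_ι_comp r Z D'' le_rfl le_rfl) hZU a
        rw [pf_ι_comp r Z D'' Z _ le_rfl] at this
        refine Eq.trans ?_ this
        rw [Scheme.Hom.appLE]
        rfl
      · simp only [RingHom.comp_apply]
        rw [pf_toSpecΓ_fromSpec, hρ', hρ1, AModX.resR_self]
        have k1 := hic.isCompat Z U U hU hU e m D (dOpen_le _ _ _) (dOpen_le _ _ _) _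
          (taut_res C hO1 hφ U hU e m) Z hiD hZU hZU
        have k2 := hrc.isCompat Z U U hU hU (μ e) (μ m) D'' hD''U hD''U _ (hco m) Z
          (le_image_ι_comp r Z D'' le_rfl le_rfl) hZU hZU
        rw [hμ m Z hZU _ k1] at k2
        have h4 := hfe''.coord_unique le_rfl
          (r := pf (Z.ι ≫ i) D Z hiD (dFun p chart j U hU e (ratio C U hU e m)))
          (r' := pf (Z.ι ≫ r) D'' Z (le_image_ι_comp r Z D'' le_rfl le_rfl) (co m))
          (by rw [AModX.res_self]; exact k2)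
        rw [h4, pf_ι_comp r Z D'' Z _ le_rfl, Scheme.Hom.appLE]
        rfl
    exact RingHom.congr_fun e2 z
  exact ⟨σ, key⟩

end refine_

variable {X Y : Scheme.{u}} {g : X ⟶ Y} {L L' : X.Modules} {E E' : Y.Modules}

/-- A morphism is an immersion if on the preimage of an open it factors an immersion. -/
lemma isImmersion_ι_comp_of_refine {P'' Q : Scheme.{u}} (r : X ⟶ P'') (D : P''.Opens) (i : X ⟶ Q) [IsImmersion i]
    (σ : D.toScheme ⟶ Q) (h : r.resLE D (r ⁻¹ᵁ D) le_rfl ≫ σ = (r ⁻¹ᵁ D).ι ≫ i) :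
    IsImmersion ((r ⁻¹ᵁ D).ι ≫ r) := by
  haveI : IsImmersion (r.resLE D (r ⁻¹ᵁ D) le_rfl ≫ σ) := h ▸ inferInstanceAs (IsImmersion ((r ⁻¹ᵁ D).ι ≫ i))
  haveI : IsImmersion (r.resLE D (r ⁻¹ᵁ D) le_rfl) := IsImmersion.of_comp _ σ
  rw [← r.resLE_comp_ι (U := D) (V := r ⁻¹ᵁ D) le_rfl]
  infer_instance

/-- A projective bundle with its tautological data. -/
structure Bundle (E : Y.Modules) where
  𝒮 : RelProj.QCGrAlg Y
  j : E ⟶ 𝒮.toModule
  symAlg : RelProj.IsGrSymAlg E 𝒮 j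
  C : Chartwise E 𝒮 j
  P : Scheme.{u}
  p : P ⟶ Y
  chart : ∀ (U : Y.Opens) (hU : IsAffineOpen U), (((p ⁻¹ᵁ U : P.Opens) : Scheme.{u}) ≅ Proj (𝒮.deg U hU))
  isRelProj : RelProj.IsRelProj 𝒮 p chart
  O1 : P.Modules
  lam : ∀ (U : Y.Opens) (hU : IsAffineOpen U),
    O1 ⟶ (Scheme.Modules.pushforward (RelProj.emb p chart U hU)).obj (GrTwist.twist (𝒮.deg U hU) 1)
  isRelTwist : RelProj.IsRelTwist 𝒮 p chart 1 O1 lam
  φ : E ⟶ (Scheme.Modules.pushforward p).obj O1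
  isTaut : IsTaut lam j φ

theorem nonempty_bundle (hE : Coh.IsQCoh E) : Nonempty (Bundle E) := by
  obtain ⟨𝒮, j, hj, -⟩ := exists_isGrSymAlg hE
  obtain ⟨P, p, chart, hP⟩ := Proj16.exists_isRelProj 𝒮
  obtain ⟨O1, lam, hO1⟩ := ProjX.exists_isRelTwist hP 1
  obtain ⟨φ, hφ⟩ := exists_tautMap hP hO1 hj.2
  exact ⟨⟨𝒮, j, hj, (nonempty_chartwise hE hj).some, P, p, chart, hP, O1, lam, hO1, φ, hφ⟩⟩

/-- The points where two generators do not vanish. -/
def GenPair (θ : E ⟶ (Scheme.Modules.pushforward g).obj L) (θ' : E' ⟶ (Scheme.Modules.pushforward g).obj L') : Prop :=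
  ∀ x : X, ∃ (U : Y.Opens) (_ : IsAffineOpen U) (e : Γ(E, U)) (e' : Γ(E', U)),
    x ∈ AmpleX.locus (th g θ e) ∧ x ∈ AmpleX.locus (th g θ' e')

lemma genPair_of_gen {θ : E ⟶ (Scheme.Modules.pushforward g).obj L} {θ' : E' ⟶ (Scheme.Modules.pushforward g).obj L'}
    (h : ∀ x : X, ∃ (U : Y.Opens) (e : Γ(E, U)), x ∈ AmpleX.locus (th g θ e))
    (h' : ∀ x : X, ∃ (U : Y.Opens) (e : Γ(E', U)), x ∈ AmpleX.locus (th g θ' e)) : GenPair θ θ' := by
  intro x
  obtain ⟨U₁, e, he⟩ := h x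
  obtain ⟨U₂, e', he'⟩ := h' x
  obtain ⟨_, ⟨U, hU, rfl⟩, hxU, hle⟩ := Y.isBasis_affineOpens.exists_subset_of_mem_open
    (show g x ∈ U₁ ⊓ U₂ from ⟨(show x ∈ g ⁻¹ᵁ U₁ from AmpleX.locus_le _ he),
      (show x ∈ g ⁻¹ᵁ U₂ from AmpleX.locus_le _ he')⟩) (U₁ ⊓ U₂).2
  refine ⟨U, hU, AModX.res E (hle.trans inf_le_left) e, AModX.res E' (hle.trans inf_le_right) e', ?_, ?_⟩
  · rw [th_res, AmpleX.locus_res]; exact ⟨he, hxU⟩
  · rw [th_res, AmpleX.locus_res]; exact ⟨he', hxU⟩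

/-- The morphism given by products of sections, with its refinements. -/
theorem exists_tensor_map (hL : PicF.IsInvertible L) (hL' : PicF.IsInvertible L') (hE : Coh.IsQCoh E)
    (hE' : Coh.IsQCoh E') (θ : E ⟶ (Scheme.Modules.pushforward g).obj L)
    (θ' : E' ⟶ (Scheme.Modules.pushforward g).obj L') (hgen : GenPair θ θ') :
    ∃ (B : Bundle (CohB1.tensorMod E E')) (r : X ⟶ B.P), r ≫ B.p = g ∧
      Nonempty ((Scheme.Modules.pullback r).obj B.O1 ≅ CohB1.tensorMod L L') ∧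
      ∀ x : X, ∃ D : B.P.Opens, r x ∈ D ∧
        (∀ (A : Bundle E) (i : X ⟶ A.P), i ≫ A.p = g → IsCompat' A.φ g θ i →
          ∃ σ : D.toScheme ⟶ A.P, r.resLE D (r ⁻¹ᵁ D) le_rfl ≫ σ = (r ⁻¹ᵁ D).ι ≫ i) ∧
        (∀ (A : Bundle E') (i : X ⟶ A.P), i ≫ A.p = g → IsCompat' A.φ g θ' i →
          ∃ σ : D.toScheme ⟶ A.P, r.resLE D (r ⁻¹ᵁ D) le_rfl ≫ σ = (r ⁻¹ᵁ D).ι ≫ i) := by
  obtain ⟨B⟩ := nonempty_bundle (isQCoh_tensorMod hE hE')
  have hgen'' : ∀ x : X, ∃ (U : Y.Opens) (_ : IsAffineOpen U) (e : Γ(CohB1.tensorMod E E', U)),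
      x ∈ AmpleX.locus (th g (tensorTheta θ θ') e) := by
    intro x
    obtain ⟨U, hU, e, e', he, he'⟩ := hgen x
    refine ⟨U, hU, InvX.tmul e e', ?_⟩
    rw [th_tensorTheta, AmpleX.locus_tmul hL hL']
    exact ⟨he, he'⟩
  obtain ⟨r, ⟨hr, hrc⟩, -⟩ := existsUnique_isCompat' B.C B.isRelTwist B.isRelProj (isQCoh_tensorMod hE hE')
    B.isTaut (θ := tensorTheta θ θ') hgen''
  refine ⟨B, r, hr, nonempty_iso_of_isCompat' B.C B.isRelTwist B.isRelProj B.isTaut hr hrc hgen'', fun x => ?_⟩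
  obtain ⟨U, hU, e, e', he, he'⟩ := hgen x
  refine ⟨dOpen B.p B.chart B.j U hU (InvX.tmul e e'), ?_, fun A i hi hic => ?_, fun A i hi hic => ?_⟩
  · have hxT : x ∈ AmpleX.locus (th g (tensorTheta θ θ') (InvX.tmul e e')) := by
      rw [th_tensorTheta, AmpleX.locus_tmul hL hL']
      exact ⟨he, he'⟩
    obtain ⟨z, hz, hzx⟩ := (hrc.isCompat ⊤).le_dOpen B.C B.isRelTwist B.isTaut (r := (⊤ : X.Opens).ι ≫ r)
      (by rw [Category.assoc, hr]) hU (InvX.tmul e e') (AmpleX.locus_le _) le_top (AmpleX.isFrame_res_locus _) hxT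
    rw [← hzx]
    exact hz
  · let μ : Γ(E, U) →ₗ[Γ(Y, U)] Γ(CohB1.tensorMod E E', U) :=
      { toFun := fun m => InvX.tmul m e'
        map_add' := fun a b => tmul_add_left a b e'
        map_smul' := fun a m => InvX.tmul_smul_left a m e' }
    refine exists_refine A.C A.isRelProj A.isRelTwist A.isTaut B.C B.isRelTwist B.isTaut hi hic hr hrc hgen''
      U hU e μ ?_ ?_
    · show AmpleX.locus (th g _ (InvX.tmul e e')) ≤ _
      rw [th_tensorTheta, AmpleX.locus_tmul hL hL']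
      exact inf_le_left
    · intro m W hW k hk
      show AModX.res _ hW (th g _ (InvX.tmul m e')) = k • AModX.res _ hW (th g _ (InvX.tmul e e'))
      rw [th_tensorTheta, th_tensorTheta, InvX.res_tmul, InvX.res_tmul, hk, InvX.tmul_smul_left]
  · let μ : Γ(E', U) →ₗ[Γ(Y, U)] Γ(CohB1.tensorMod E E', U) :=
      { toFun := fun m => InvX.tmul e m
        map_add' := fun a b => tmul_add_right e a b
        map_smul' := fun a m => InvX.tmul_smul_right a e m }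
    refine exists_refine A.C A.isRelProj A.isRelTwist A.isTaut B.C B.isRelTwist B.isTaut hi hic hr hrc hgen''
      U hU e' μ ?_ ?_
    · show AmpleX.locus (th g _ (InvX.tmul e e')) ≤ _
      rw [th_tensorTheta, AmpleX.locus_tmul hL hL']
      exact inf_le_right
    · intro m W hW k hk
      show AModX.res _ hW (th g _ (InvX.tmul e m)) = k • AModX.res _ hW (th g _ (InvX.tmul e e'))
      rw [th_tensorTheta, th_tensorTheta, InvX.res_tmul, InvX.res_tmul, hk, InvX.tmul_smul_right]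

/-- The sections of a module coming from a morphism to a projective bundle. -/
theorem exists_theta_of_bundle (A : Bundle E) (i : X ⟶ A.P) (hi : i ≫ A.p = g)
    (τ : L ≅ (Scheme.Modules.pullback i).obj A.O1) :
    ∃ θ : E ⟶ (Scheme.Modules.pushforward g).obj L, IsCompat' A.φ g θ i ∧
        ∀ x : X, ∃ (U : Y.Opens) (e : Γ(E, U)), x ∈ AmpleX.locus (th g θ e) := by
  let θ₀ := castTheta hi (pullTheta A.φ i)
  let θ : E ⟶ (Scheme.Modules.pushforward g).obj L := θ₀ ≫ (Scheme.Modules.pushforward g).map τ.inv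
  have hth : ∀ {U : Y.Opens} (e : Γ(E, U)), th g θ e = τ.inv.app (g ⁻¹ᵁ U) (th g θ₀ e) := fun e =>
    th_comp θ₀ τ.inv e
  refine ⟨θ, ?_, ?_⟩
  · intro U U' hU hU' e e' W hW hW' c hc T hT h h'
    have k := isCompat'_pullTheta A.φ i hi U U' hU hU' e e' W hW hW' c hc T hT h h'
    rw [hth, hth, ← AModX.app_res τ.inv h', ← AModX.app_res τ.inv h, k]
    exact Scheme.Modules.Hom.app_smul τ.inv _ _
  · intro x
    obtain ⟨U, hU, e, he⟩ := exists_taut_point A.C A.isRelProj A.isRelTwist A.φ A.isTaut (i x)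
    refine ⟨U, e, ?_⟩
    rw [hth, show τ.inv = τ.symm.hom from rfl, AmpleX.locus_iso]
    exact le_locus_pullTheta A.φ i hi e he

/-- The sections of a very ample module coming from its immersion. -/
theorem exists_theta_of_isRelVeryAmple (hva : RelProj.IsRelVeryAmple g L) :
    ∃ (E : Y.Modules) (_ : Coh.IsQCoh E) (A : Bundle E) (i : X ⟶ A.P)
      (θ : E ⟶ (Scheme.Modules.pushforward g).obj L),
      IsImmersion i ∧ i ≫ A.p = g ∧ IsCompat' A.φ g θ i ∧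
        ∀ x : X, ∃ (U : Y.Opens) (e : Γ(E, U)), x ∈ AmpleX.locus (th g θ e) := by
  obtain ⟨E, hE, 𝒮, j, hj, P, p, chart, hP, O1, lam, hO1, i, hii, hi, ⟨τ⟩⟩ := hva
  obtain ⟨φ, hφ⟩ := exists_tautMap hP hO1 hj.2
  let A : Bundle E := ⟨𝒮, j, hj, (nonempty_chartwise hE hj).some, P, p, chart, hP, O1, lam, hO1, φ, hφ⟩
  obtain ⟨θ, h1, h2⟩ := exists_theta_of_bundle A i hi τ
  exact ⟨E, hE, A, i, θ, hii, hi, h1, h2⟩

/-- Tensor products with generated modules of very ample modules are very ample. -/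
theorem isRelVeryAmple_tensor_of_theta (hL : PicF.IsInvertible L) (hL' : PicF.IsInvertible L')
    (hva : RelProj.IsRelVeryAmple g L) {E' : Y.Modules} (hE' : Coh.IsQCoh E')
    (θ' : E' ⟶ (Scheme.Modules.pushforward g).obj L')
    (hgen' : ∀ x : X, ∃ (U : Y.Opens) (e : Γ(E', U)), x ∈ AmpleX.locus (th g θ' e)) :
    RelProj.IsRelVeryAmple g (CohB1.tensorMod L L') := by
  obtain ⟨E, hE, A, i, θ, hii, hi, hic, hgen⟩ := exists_theta_of_isRelVeryAmple hva
  obtain ⟨B, r, hr, ⟨t⟩, hloc⟩ := exists_tensor_map hL hL' hE hE' θ θ' (genPair_of_gen hgen hgen')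
  refine ⟨_, isQCoh_tensorMod hE hE', B.𝒮, B.j, B.symAlg, B.P, B.p, B.chart, B.isRelProj, B.O1, B.lam,
    B.isRelTwist, r, isImmersion_of_locally r fun x => ?_, hr, ⟨t.symm⟩⟩
  obtain ⟨D, hD, h1, -⟩ := hloc x
  obtain ⟨σ, hσ⟩ := h1 A i hi hic
  exact ⟨D, hD, isImmersion_ι_comp_of_refine r D i σ hσ⟩

/-- Tensor products of modules whose morphisms to bundles are jointly an immersion are very ample. -/
theorem isRelVeryAmple_tensor_of_pair (hL : PicF.IsInvertible L) (hL' : PicF.IsInvertible L')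
    (hE : Coh.IsQCoh E) (hE' : Coh.IsQCoh E') (A : Bundle E) (A' : Bundle E') (i : X ⟶ A.P) (i' : X ⟶ A'.P)
    (hi : i ≫ A.p = g) (hi' : i' ≫ A'.p = g)
    [IsImmersion (pullback.lift i i' (terminal.hom_ext (i ≫ terminal.from A.P) (i' ≫ terminal.from A'.P)))]
    {θ : E ⟶ (Scheme.Modules.pushforward g).obj L} {θ' : E' ⟶ (Scheme.Modules.pushforward g).obj L'}
    (hic : IsCompat' A.φ g θ i) (hic' : IsCompat' A'.φ g θ' i') (hgen : GenPair θ θ') :
    RelProj.IsRelVeryAmple g (CohB1.tensorMod L L') := by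
  obtain ⟨B, r, hr, ⟨t⟩, hloc⟩ := exists_tensor_map hL hL' hE hE' θ θ' hgen
  refine ⟨_, isQCoh_tensorMod hE hE', B.𝒮, B.j, B.symAlg, B.P, B.p, B.chart, B.isRelProj, B.O1, B.lam,
    B.isRelTwist, r, isImmersion_of_locally r fun x => ?_, hr, ⟨t.symm⟩⟩
  obtain ⟨D, hD, h1, h2⟩ := hloc x
  obtain ⟨σ, hσ⟩ := h1 A i hi hic
  obtain ⟨σ', hσ'⟩ := h2 A' i' hi' hic'
  refine ⟨D, hD, isImmersion_ι_comp_of_refine r D
    (pullback.lift i i' (terminal.hom_ext (i ≫ terminal.from A.P) (i' ≫ terminal.from A'.P)))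
    (pullback.lift σ σ' (terminal.hom_ext _ _)) ?_⟩
  apply pullback.hom_ext
  · simp only [Category.assoc, pullback.lift_fst]
    exact hσ
  · simp only [Category.assoc, pullback.lift_snd]
    exact hσ'

/-- Very ample modules tensor very ample modules are very ample. -/
theorem isRelVeryAmple_tensor (hL : PicF.IsInvertible L) (hL' : PicF.IsInvertible L')
    (hva : RelProj.IsRelVeryAmple g L) (hva' : RelProj.IsRelVeryAmple g L') :
    RelProj.IsRelVeryAmple g (CohB1.tensorMod L L') := by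
  obtain ⟨E', hE', -, -, θ', -, -, -, hgen'⟩ := exists_theta_of_isRelVeryAmple hva'
  exact isRelVeryAmple_tensor_of_theta hL hL' hva hE' θ' hgen'

end Groth.Agent.SymX
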