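import Groth.Agent.SymX.ClosedSubRelProj
import Groth.Agent.SymX.VeryAmple
import Groth.Agent.SymX.VeryAmpleTensor
import Groth.Agent.SymX.LineBundle
import Groth.Agent.SymX.FiniteImm
import Groth.Agent.ProjX.Proper
import Groth.Agent.Proj16.RelIntegral
import Groth.Agent.QCoh.DevissageSum
import Groth.Agent.QCoh.FT

/-!
# Projective morphisms are the closed subschemes of projective bundles of modules of finite type
-/

set_option linter.style.haveILetI false
set_option linter.unusedSectionVars false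
set_option backward.isDefEq.respectTransparency false
set_option backward.isDefEq.respectTransparency.types false
set_option maxHeartbeats 800000

universe u

open CategoryTheory CategoryTheory.Limits AlgebraicGeometry TopologicalSpace Opposite
open scoped HomogeneousIdeal

noncomputable section

namespace Groth.Agent.SymX

variable {X Y P : Scheme.{u}}

/-- The degree-one part of the symmetric algebra of a module of finite type is of finite type. -/
theorem isFTDeg_one_of_chartwise {E : Y.Modules} {𝒮 : RelProj.QCGrAlg Y} {j : E ⟶ 𝒮.toModule}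
    (C : Chartwise E 𝒮 j) (hj : RelProj.IsGrSymAlg E 𝒮 j) (hE : Coh.IsQCoh E) (hft : CohB1.IsFT E) :
    𝒮.IsFTDeg 1 := by
  classical
  intro U hU
  obtain ⟨⟨t, ht⟩⟩ := QCoh.finite_of_isFT hE hft hU
  let v : Γ(E, U) → 𝒮.presheaf.obj (op U) := fun x => j.app U x
  letI := (𝒮.str.app (op U)).hom.toAlgebra
  refine ⟨t.image v, fun y hy => ?_, fun x hx => ?_⟩
  · obtain ⟨m, -, rfl⟩ := Finset.mem_image.1 hy
    exact hj.2 U hU m
  · obtain ⟨m, rfl⟩ := exists_j_eq C U hU hx
    suffices h : v m ∈ Submodule.span Γ(Y, U) ((t.image v : Finset (𝒮.presheaf.obj (op U))) : Set (𝒮.presheaf.obj (op U))) by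
      obtain ⟨c, -, hc⟩ := Submodule.mem_span_finset.1 h
      exact ⟨c, hc.symm⟩
    let vL : Γ(E, U) →ₗ[Γ(Y, U)] 𝒮.presheaf.obj (op U) :=
      { toFun := v
        map_add' := fun a b => map_add (j.app U).hom a b
        map_smul' := fun r a => j_smul U r a }
    have hm : m ∈ Submodule.span Γ(Y, U) (t : Set Γ(E, U)) := ht ▸ trivial
    have hmem := Submodule.apply_mem_span_image_of_mem_span vL hm
    rw [Finset.coe_image]
    exact hmem

lemma Bundle.isFTDeg_one {E : Y.Modules} (A : Bundle E) (hE : Coh.IsQCoh E) (hft : CohB1.IsFT E) :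
    A.𝒮.IsFTDeg 1 :=
  isFTDeg_one_of_chartwise A.C A.symAlg hE hft

/-- A graded quotient of an algebra generated in degree one is generated in degree one. -/
theorem isGenDegOne_of_surjective {𝒯 𝒮 : RelProj.QCGrAlg Y} (φ : 𝒯.toQCAlg ⟶ 𝒮.toQCAlg) (hφ : RelProj.IsGradedHom φ)
    (hsurj : ∀ (U : Y.Opens), IsAffineOpen U → Function.Surjective (φ.hom.app (op U)).hom)
    (hgen : 𝒯.IsGenDegOne) : 𝒮.IsGenDegOne := fun U hU => by
  rw [eq_top_iff]
  rintro x -
  obtain ⟨a, rfl⟩ := hsurj U hU x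
  have ha : a ∈ Subring.closure ((𝒯.deg U hU 0 : Set (𝒯.presheaf.obj (op U))) ∪ (𝒯.deg U hU 1 : Set _)) :=
    (hgen U hU).ge trivial
  have hle : Subring.closure ((𝒯.deg U hU 0 : Set (𝒯.presheaf.obj (op U))) ∪ (𝒯.deg U hU 1 : Set _)) ≤
      (Subring.closure ((𝒮.deg U hU 0 : Set (𝒮.presheaf.obj (op U))) ∪ (𝒮.deg U hU 1 : Set _))).comap
        (φ.hom.app (op U)).hom := by
    rw [Subring.closure_le]
    rintro y (hy | hy)
    · exact Subring.subset_closure (Or.inl (hφ U hU 0 y hy))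
    · exact Subring.subset_closure (Or.inr (hφ U hU 1 y hy))
  exact hle ha

/-- A graded quotient has degree-one part of finite type if the algebra has. -/
theorem isFTDeg_one_of_surjective {𝒯 𝒮 : RelProj.QCGrAlg Y} (φ : 𝒯.toQCAlg ⟶ 𝒮.toQCAlg) (hφ : RelProj.IsGradedHom φ)
    (hsurj : ∀ (U : Y.Opens), IsAffineOpen U → Function.Surjective (φ.hom.app (op U)).hom)
    (hft : 𝒯.IsFTDeg 1) : 𝒮.IsFTDeg 1 := fun U hU => by
  classical
  obtain ⟨T, hT, hspan⟩ := hft U hU
  let v := (φ.hom.app (op U)).hom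
  refine ⟨T.image v, fun y hy => ?_, fun x hx => ?_⟩
  · obtain ⟨t, ht, rfl⟩ := Finset.mem_image.1 hy
    exact hφ U hU 1 t (hT ht)
  · obtain ⟨a, ha, rfl⟩ := Proj16.exists_mem_of_surjective (RelProj.gradedHomAt φ hφ U hU) (hsurj U hU) hx
    obtain ⟨c, hc⟩ := hspan a ha
    letI := (𝒮.str.app (op U)).hom.toAlgebra
    suffices h : v a ∈ Submodule.span Γ(Y, U) ((T.image v : Finset (𝒮.presheaf.obj (op U))) : Set (𝒮.presheaf.obj (op U))) by
      obtain ⟨c', -, hc'⟩ := Submodule.mem_span_finset.1 h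
      exact ⟨c', hc'.symm⟩
    rw [hc, map_sum]
    refine sum_mem fun t ht => ?_
    rw [map_mul, show v ((𝒯.str.app (op U)).hom (c t)) = (𝒮.str.app (op U)).hom (c t) from
      congr($(NatTrans.congr_app φ.comm (op U)).hom (c t))]
    exact Submodule.smul_mem _ (c t) (Submodule.subset_span (Finset.mem_coe.2 (Finset.mem_image_of_mem v ht)))

/-- A closed subscheme of a relative `Proj` generated in degree one with finite degree-one part is
projective over the base. -/
theorem isProjective_of_isClosedImmersion {𝒯 : RelProj.QCGrAlg Y} {p : P ⟶ Y}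
    {chart : ∀ (U : Y.Opens) (hU : IsAffineOpen U), (((p ⁻¹ᵁ U : P.Opens) : Scheme.{u}) ≅ Proj (𝒯.deg U hU))}
    (hP : RelProj.IsRelProj 𝒯 p chart) (hgen : 𝒯.IsGenDegOne) (hft : 𝒯.IsFTDeg 1) (i : X ⟶ P)
    [IsClosedImmersion i] {f : X ⟶ Y} (hf : i ≫ p = f) : RelProj.IsProjective f := by
  classical
  haveI := (Proj16.locallyOfFiniteType_of_genDegOne hP hgen hft).2
  obtain ⟨𝒮, φ, hφ, hirr, chartS, hsurj, hS, -⟩ := ClosedQuot.exists_quot chart hP i
  exact ⟨𝒮, X, i ≫ p, chartS, Iso.refl X, isGenDegOne_of_surjective φ hφ hsurj hgen,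
    isFTDeg_one_of_surjective φ hφ hsurj hft, hS, (Category.id_comp (i ≫ p)).trans hf⟩

theorem isProjective_of_bundle {E : Y.Modules} (A : Bundle E) (hE : Coh.IsQCoh E) (hft : CohB1.IsFT E) (i : X ⟶ A.P)
    [IsClosedImmersion i] {f : X ⟶ Y} (hf : i ≫ A.p = f) : RelProj.IsProjective f :=
  isProjective_of_isClosedImmersion A.isRelProj A.C.isGenDegOne (A.isFTDeg_one hE hft) i hf

/-- The degree-one part as a quasi-coherent module of finite type. -/
theorem exists_degOneModule (𝒮 : RelProj.QCGrAlg Y) (hft : 𝒮.IsFTDeg 1) :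
    ∃ (E : Y.Modules) (u : E ⟶ 𝒮.toModule), Coh.IsQCoh E ∧ CohB1.IsFT E ∧
      ∀ (U : Y.Opens) (hU : IsAffineOpen U),
        (∀ x, (show 𝒮.presheaf.obj (op U) from u.app U x) ∈ 𝒮.deg U hU 1) ∧
          ∀ s ∈ 𝒮.deg U hU 1, ∃ x, (show 𝒮.presheaf.obj (op U) from u.app U x) = s := by
  classical
  obtain ⟨π, hπ⟩ := exists_degOne 𝒮
  have hM : Coh.IsQCoh 𝒮.toModule := QCoh.isQCoh_toModule 𝒮.toQCAlg
  let d : 𝒮.toModule ⟶ 𝒮.toModule := 𝟙 _ - π
  have hd : ∀ (U : Y.Opens) (x : Γ(𝒮.toModule, U)), d.app U x = x - π.app U x := fun U x => rfl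
  have hmem : ∀ (U : Y.Opens) (hU : IsAffineOpen U) (w : Γ(kernel d, U)),
      (show 𝒮.presheaf.obj (op U) from (kernel.ι d).app U w) ∈ 𝒮.deg U hU 1 := fun U hU w => by
    have h0 : d.app U ((kernel.ι d).app U w) = 0 := congr(($(kernel.condition d)).app U w)
    rw [hd, sub_eq_zero] at h0
    rw [h0, hπ U hU]
    exact SetLike.coe_mem _
  have hsurj : ∀ (U : Y.Opens) (hU : IsAffineOpen U), ∀ s ∈ 𝒮.deg U hU 1,
      ∃ x, (show 𝒮.presheaf.obj (op U) from (kernel.ι d).app U x) = s := fun U hU s hs => by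
    refine QCoh.exists_kernel_lift d U (show Γ(𝒮.toModule, U) from s) ?_
    rw [hd, sub_eq_zero]
    exact ((hπ U hU s).trans (DirectSum.decompose_of_mem_same _ hs)).symm
  have hEq : Coh.IsQCoh (kernel d) := QCoh.isQCoh_kernel hM hM d
  refine ⟨kernel d, kernel.ι d, hEq, ?_, fun U hU => ⟨hmem U hU, hsurj U hU⟩⟩
  refine QCoh.isFT_of_finite hEq (fun U : Y.affineOpens => U.1) (iSup_affineOpens_eq_top Y) (fun U => U.2) fun U => ?_
  obtain ⟨T, hT, hspan⟩ := hft U.1 U.2
  choose w hw using fun t : T => hsurj U.1 U.2 t.1 (hT t.2)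
  refine Module.Finite.of_surjective (Fintype.linearCombination Γ(Y, U.1) w) fun x => ?_
  obtain ⟨c, hc⟩ := hspan _ (hmem U.1 U.2 x)
  refine ⟨fun t => c t.1, QCoh.app_injective (kernel.ι d) U.1 ?_⟩
  rw [Fintype.linearCombination_apply, map_sum]
  refine Eq.trans ?_ hc.symm
  show _ = (show Γ(𝒮.toModule, U.1) from ∑ t ∈ T, (𝒮.str.app (op U.1)).hom (c t) * t)
  rw [← Finset.sum_coe_sort T]
  refine Finset.sum_congr rfl fun t _ => ?_
  rw [Scheme.Modules.Hom.app_smul]
  show (𝒮.str.app (op U.1)).hom (c t.1) * _ = _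
  exact congrArg _ (hw t)

/-- A projective morphism is a closed subscheme of the bundle of a module of finite type. -/
theorem exists_bundle_of_isProjective {f : X ⟶ Y} (hf : RelProj.IsProjective f) :
    ∃ (E : Y.Modules) (A : Bundle E) (i : X ⟶ A.P), Coh.IsQCoh E ∧ CohB1.IsFT E ∧ IsClosedImmersion i ∧ i ≫ A.p = f := by
  obtain ⟨𝒮, P, p, chart, e, hgen, hft, hP, rfl⟩ := hf
  obtain ⟨E, u, hE, hEft, hu⟩ := exists_degOneModule 𝒮 hft
  obtain ⟨A⟩ := nonempty_bundle hE
  obtain ⟨v, hv, -⟩ := A.symAlg.1 𝒮.toQCAlg u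
  have hvj : ∀ (U : Y.Opens) (x : Γ(E, U)),
      (v.hom.app (op U)).hom (A.j.app U x) = (show 𝒮.presheaf.obj (op U) from u.app U x) :=
    fun U x => congrArg (fun χ : E ⟶ 𝒮.toModule => χ.app U x) hv
  have hgr : RelProj.IsGradedHom v :=
    isGradedHom_of_chartwise 𝒮 A.C fun U hU x => by rw [hvj U x]; exact (hu U hU).1 x
  have h1 : ∀ (U : Y.Opens) (hU : IsAffineOpen U), ∀ x ∈ 𝒮.deg U hU 1,
      ∃ a ∈ A.𝒮.deg U hU 1, (v.hom.app (op U)).hom a = x := fun U hU x hx => by
    obtain ⟨m, hm⟩ := (hu U hU).2 x hx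
    exact ⟨A.j.app U m, A.symAlg.2 U hU m, (hvj U m).trans hm⟩
  have hirr : ∀ (U : Y.Opens) (hU : IsAffineOpen U),
      (𝒮.deg U hU)₊ ≤ ((A.𝒮.deg U hU)₊).map (RelProj.gradedHomAt v hgr U hU) := fun U hU => by
    show ((𝒮.deg U hU)₊).toIdeal ≤ Ideal.map (RelProj.gradedHomAt v hgr U hU) ((A.𝒮.deg U hU)₊).toIdeal
    rw [RelTildeX.irrelevant_eq_span_deg_one hgen U hU]
    refine Ideal.span_le.2 fun x hx => ?_
    obtain ⟨a, ha, hax⟩ := h1 U hU x hx
    rw [← hax]
    exact Ideal.mem_map_of_mem _ (HomogeneousIdeal.mem_irrelevant_of_mem _ one_pos ha)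
  obtain ⟨g, hg, -⟩ := Proj16.existsUnique_isRelProjMap v hgr hirr A.isRelProj hP
  haveI : IsClosedImmersion g := isClosedImmersion_relProjMap_pos hgen v hgr h1 A.isRelProj hP hg
  refine ⟨E, A, e.hom ≫ g, hE, hEft, inferInstance, ?_⟩
  rw [Category.assoc, Proj16.relProjMap_comp A.isRelProj hP hg]

theorem isProjective_iff_bundle {f : X ⟶ Y} :
    RelProj.IsProjective f ↔
      ∃ (E : Y.Modules) (A : Bundle E) (i : X ⟶ A.P), Coh.IsQCoh E ∧ CohB1.IsFT E ∧ IsClosedImmersion i ∧ i ≫ A.p = f :=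
  ⟨exists_bundle_of_isProjective, fun ⟨_, A, i, hE, hft, _, hf⟩ => isProjective_of_bundle A hE hft i hf⟩

/-- A proper morphism with an immersion into the bundle of a module of finite type is projective. -/
theorem isProjective_of_immersion {f : X ⟶ Y} [IsProper f] {E : Y.Modules} (A : Bundle E) (hE : Coh.IsQCoh E)
    (hft : CohB1.IsFT E) (i : X ⟶ A.P) [IsImmersion i] (hf : i ≫ A.p = f) : RelProj.IsProjective f := by
  haveI : IsSeparated A.p := Proj16.isSeparated A.isRelProj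
  haveI : IsProper (i ≫ A.p) := hf ▸ inferInstance
  haveI : IsProper i := IsProper.of_comp i A.p
  haveI : IsClosedImmersion i := IsClosedImmersion.of_isPreimmersion i i.isClosedMap.isClosed_range
  exact isProjective_of_bundle A hE hft i hf

/-- The immersion into the bundle of a module of finite type, over a base where modules extend. -/
theorem exists_ft_immersion' [CompactSpace Y] (hY : ∀ V : Y.Opens, IsAffineOpen V → QCoh.ExtStep V)
    (f : X ⟶ Y) [QuasiCompact f] [LocallyOfFiniteType f] {L : X.Modules} (hL : PicF.IsInvertible L)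
    (hva : RelProj.IsRelVeryAmple f L) :
    ∃ (E : Y.Modules) (A : Bundle E) (i : X ⟶ A.P), Coh.IsQCoh E ∧ CohB1.IsFT E ∧ IsImmersion i ∧
      i ≫ A.p = f ∧ Nonempty (L ≅ (Scheme.Modules.pullback i).obj A.O1) := by
  obtain ⟨E, hE, hft, θ, hθ⟩ := exists_ft_immPoints hY f hL hva
  obtain ⟨A⟩ := nonempty_bundle hE
  obtain ⟨i, hi, hip, hiso⟩ := exists_immersion_of_immPoints hE hθ A
  exact ⟨E, A, i, hE, hft, hi, hip, hiso⟩

/-- A proper morphism with a very ample module is projective. -/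
theorem isProjective_of_isRelVeryAmple [CompactSpace Y] (hY : ∀ V : Y.Opens, IsAffineOpen V → QCoh.ExtStep V)
    (f : X ⟶ Y) [IsProper f] {L : X.Modules} (hL : PicF.IsInvertible L) (hva : RelProj.IsRelVeryAmple f L) :
    RelProj.IsProjective f := by
  obtain ⟨E, A, i, hE, hft, hi, hif, -⟩ := exists_ft_immersion' hY f hL hva
  exact isProjective_of_immersion A hE hft i hif

end Groth.Agent.SymX
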