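import Groth.Agent.SymX.BaseChange
import Groth.Agent.QCoh.Pullback

/-!
# Very ample modules: frames, base change
-/

set_option linter.style.haveILetI false
set_option linter.unusedSectionVars false
set_option backward.isDefEq.respectTransparency false
set_option backward.isDefEq.respectTransparency.types false

noncomputable section

universe u

open CategoryTheory CategoryTheory.Limits AlgebraicGeometry TopologicalSpace Opposite

namespace Groth.Agent.SymX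

open Groth.Agent

/-- A very ample module has frames coming from the base. -/
theorem exists_frame_of_isRelVeryAmple {X Y : Scheme.{u}} {q : X ⟶ Y} {L : X.Modules}
    (h : RelProj.IsRelVeryAmple q L) (x : X) :
    ∃ (U : Y.Opens) (e : Γ(L, q ⁻¹ᵁ U)), x ∈ AmpleX.locus e := by
  obtain ⟨E, hE, 𝒮, j, hj, P, p, chart, hP, O1, lam, hO1, i, -, hi, ⟨τ⟩⟩ := h
  obtain ⟨φ, hφ⟩ := exists_tautMap hP hO1 hj.2
  obtain ⟨U, hU, e, he⟩ := exists_taut_point (nonempty_chartwise hE hj).some hP hO1 φ hφ (i x)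
  refine ⟨U, τ.inv.app (q ⁻¹ᵁ U) (th q (castTheta hi (pullTheta φ i)) e), ?_⟩
  rw [show τ.inv = τ.symm.hom from rfl, AmpleX.locus_iso]
  exact le_locus_pullTheta φ i hi e he

/-- Data of a base change of a projective bundle with its `O(1)`. -/
theorem exists_bundle_baseChange {Y Y' P : Scheme.{u}} (ψ : Y' ⟶ Y) {E : Y.Modules} (hE : Coh.IsQCoh E)
    {𝒮 : RelProj.QCGrAlg Y} {j : E ⟶ 𝒮.toModule} (hj : RelProj.IsGrSymAlg E 𝒮 j) {p : P ⟶ Y}
    {chart : ∀ (U : Y.Opens) (hU : IsAffineOpen U), (((p ⁻¹ᵁ U : P.Opens) : Scheme.{u}) ≅ Proj (𝒮.deg U hU))}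
    (hP : RelProj.IsRelProj 𝒮 p chart) {O1 : P.Modules} {lam : ∀ (U : Y.Opens) (hU : IsAffineOpen U),
      O1 ⟶ (Scheme.Modules.pushforward (RelProj.emb p chart U hU)).obj (GrTwist.twist (𝒮.deg U hU) 1)}
    (hO1 : RelProj.IsRelTwist 𝒮 p chart 1 O1 lam) :
    ∃ (E' : Y'.Modules) (_ : Coh.IsQCoh E') (𝒮' : RelProj.QCGrAlg Y') (j' : E' ⟶ 𝒮'.toModule)
      (_ : RelProj.IsGrSymAlg E' 𝒮' j') (P' : Scheme.{u}) (p' : P' ⟶ Y')
      (chart' : ∀ (U : Y'.Opens) (hU : IsAffineOpen U), (((p' ⁻¹ᵁ U : P'.Opens) : Scheme.{u}) ≅ Proj (𝒮'.deg U hU)))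
      (_ : RelProj.IsRelProj 𝒮' p' chart') (O1' : P'.Modules)
      (lam' : ∀ (U : Y'.Opens) (hU : IsAffineOpen U),
        O1' ⟶ (Scheme.Modules.pushforward (RelProj.emb p' chart' U hU)).obj (GrTwist.twist (𝒮'.deg U hU) 1))
      (_ : RelProj.IsRelTwist 𝒮' p' chart' 1 O1' lam') (g : P' ⟶ P),
      IsPullback g p' p ψ ∧ Nonempty ((Scheme.Modules.pullback g).obj O1 ≅ O1') := by
  have hE' : Coh.IsQCoh ((Scheme.Modules.pullback ψ).obj E) := QCoh.isQCoh_pullback ψ hE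
  obtain ⟨𝒮', j', hj', -⟩ := exists_isGrSymAlg hE'
  obtain ⟨P', p', chart', hP'⟩ := Proj16.exists_isRelProj 𝒮'
  obtain ⟨O1', lam', hO1'⟩ := ProjX.exists_isRelTwist hP' 1
  obtain ⟨φ, hφ⟩ := exists_tautMap hP hO1 hj.2
  obtain ⟨φ', hφ'⟩ := exists_tautMap hP' hO1' hj'.2
  obtain ⟨g, hg, hiso⟩ := exists_isPullback (nonempty_chartwise hE hj).some (nonempty_chartwise hE' hj').some
    hE hE' hP hO1 hφ hP' hO1' hφ'
  exact ⟨_, hE', 𝒮', j', hj', P', p', chart', hP', O1', lam', hO1', g, hg, hiso⟩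

theorem isRelVeryAmple_of_comp {X Y Z : Scheme.{u}} (f : X ⟶ Y) (g : Y ⟶ Z) {L : X.Modules}
    (hva : RelProj.IsRelVeryAmple (f ≫ g) L) : RelProj.IsRelVeryAmple f L := by
  obtain ⟨E, hE, 𝒮, j, hj, P, p, chart, hP, O1, lam, hO1, i, hii, hi, ⟨τ⟩⟩ := hva
  obtain ⟨E', hE', 𝒮', j', hj', P', p', chart', hP', O1', lam', hO1', g', hg', ⟨ρ⟩⟩ :=
    exists_bundle_baseChange g hE hj hP hO1
  let i' := hg'.lift i f hi
  haveI : IsImmersion (i' ≫ g') := by rw [hg'.lift_fst]; exact hii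
  exact ⟨E', hE', 𝒮', j', hj', P', p', chart', hP', O1', lam', hO1', i', IsImmersion.of_comp i' g',
    hg'.lift_snd _ _ _, ⟨τ ≪≫ (Scheme.Modules.pullbackCongr (hg'.lift_fst i f hi).symm).app O1 ≪≫
      ((Scheme.Modules.pullbackComp i' g').app O1).symm ≪≫ (Scheme.Modules.pullback i').mapIso ρ⟩⟩

theorem isRelVeryAmple_baseChange {X Y X' Y' : Scheme.{u}} {f : X ⟶ Y} {g : Y' ⟶ Y} {g' : X' ⟶ X} {f' : X' ⟶ Y'}
    (hsq : IsPullback g' f' f g) {L : X.Modules} (hva : RelProj.IsRelVeryAmple f L) :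
    RelProj.IsRelVeryAmple f' ((Scheme.Modules.pullback g').obj L) := by
  obtain ⟨E, hE, 𝒮, j, hj, P, p, chart, hP, O1, lam, hO1, i, hii, hi, ⟨τ⟩⟩ := hva
  obtain ⟨E', hE', 𝒮', j', hj', P', p', chart', hP', O1', lam', hO1', gP, hgP, ⟨ρ⟩⟩ :=
    exists_bundle_baseChange g hE hj hP hO1
  let i' := hgP.lift (g' ≫ i) f' (by rw [Category.assoc, hi, hsq.w])
  have h1 : i' ≫ gP = g' ≫ i := hgP.lift_fst _ _ _
  have h2 : i' ≫ p' = f' := hgP.lift_snd _ _ _
  have hsq' : IsPullback g' i' i gP := IsPullback.of_bot (by rw [h2, hi]; exact hsq) h1.symm hgP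
  haveI : IsImmersion i' := MorphismProperty.of_isPullback hsq' hii
  exact ⟨E', hE', 𝒮', j', hj', P', p', chart', hP', O1', lam', hO1', i', inferInstance, h2,
    ⟨(Scheme.Modules.pullback g').mapIso τ ≪≫ (Scheme.Modules.pullbackComp g' i).app O1 ≪≫
      (Scheme.Modules.pullbackCongr h1.symm).app O1 ≪≫ ((Scheme.Modules.pullbackComp i' gP).app O1).symm ≪≫
      (Scheme.Modules.pullback i').mapIso ρ⟩⟩

end Groth.Agent.SymX
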