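import Groth.Agent.SymX.VeryAmpleTensor

/-!
# External products of very ample modules
-/

set_option linter.style.haveILetI false
set_option linter.unusedSectionVars false
set_option backward.isDefEq.respectTransparency false
set_option backward.isDefEq.respectTransparency.types false

noncomputable section

universe u

open CategoryTheory CategoryTheory.Limits AlgebraicGeometry TopologicalSpace Opposite

namespace Groth.Agent.SymX

open Groth.Agent

/-- The pullback of a bundle with the morphism to it. -/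
theorem exists_bundle_lift {X X₁ Q Y₁ : Scheme.{u}} {f₁ : X₁ ⟶ Y₁} {L₁ : X₁.Modules}
    (hva : RelProj.IsRelVeryAmple f₁ L₁) (h : X ⟶ Q) (q₁ : Q ⟶ Y₁) (p₁ : X ⟶ X₁) (w : h ≫ q₁ = p₁ ≫ f₁) :
    ∃ (P₁ : Scheme.{u}) (i₁ : X₁ ⟶ P₁) (E : Q.Modules) (_ : Coh.IsQCoh E) (A : Bundle E) (gP : A.P ⟶ P₁)
      (i : X ⟶ A.P) (θ : E ⟶ (Scheme.Modules.pushforward h).obj ((Scheme.Modules.pullback p₁).obj L₁)),
      IsImmersion i₁ ∧ i ≫ gP = p₁ ≫ i₁ ∧ i ≫ A.p = h ∧ IsCompat' A.φ h θ i ∧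
        ∀ x : X, ∃ (U : Q.Opens) (e : Γ(E, U)), x ∈ AmpleX.locus (th h θ e) := by
  obtain ⟨E₁, hE₁, 𝒮, j, hj, P₁, p, chart, hP, O1, lam, hO1, i₁, hii, hi, ⟨τ⟩⟩ := hva
  obtain ⟨E', hE', 𝒮', j', hj', P', p', chart', hP', O1', lam', hO1', gP, hgP, ⟨ρ⟩⟩ :=
    exists_bundle_baseChange q₁ hE₁ hj hP hO1
  obtain ⟨φ', hφ'⟩ := exists_tautMap hP' hO1' hj'.2
  let A : Bundle E' := ⟨𝒮', j', hj', (nonempty_chartwise hE' hj').some, P', p', chart', hP', O1', lam', hO1', φ', hφ'⟩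
  let i' := hgP.lift (p₁ ≫ i₁) h (by rw [Category.assoc, hi, w])
  have h1 : i' ≫ gP = p₁ ≫ i₁ := hgP.lift_fst _ _ _
  have h2 : i' ≫ p' = h := hgP.lift_snd _ _ _
  let τ' : (Scheme.Modules.pullback p₁).obj L₁ ≅ (Scheme.Modules.pullback i').obj O1' :=
    (Scheme.Modules.pullback p₁).mapIso τ ≪≫ (Scheme.Modules.pullbackComp p₁ i₁).app O1 ≪≫
      (Scheme.Modules.pullbackCongr h1.symm).app O1 ≪≫ ((Scheme.Modules.pullbackComp i' gP).app O1).symm ≪≫
      (Scheme.Modules.pullback i').mapIso ρ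
  obtain ⟨θ, hc, hgen⟩ := exists_theta_of_bundle A i' h2 τ'
  exact ⟨P₁, i₁, E', hE', A, gP, i', θ, hii, h1, h2, hc, hgen⟩

/-- External products of very ample modules are very ample. -/
theorem isRelVeryAmple_external {S X₁ X₂ Y₁ Y₂ P Q : Scheme.{u}} {g₁ : X₁ ⟶ S} {g₂ : X₂ ⟶ S}
    {f₁ : X₁ ⟶ Y₁} {f₂ : X₂ ⟶ Y₂} {p₁ : P ⟶ X₁} {p₂ : P ⟶ X₂} (hP : IsPullback p₁ p₂ g₁ g₂)
    (q₁ : Q ⟶ Y₁) (q₂ : Q ⟶ Y₂) (h : P ⟶ Q) (hh₁ : h ≫ q₁ = p₁ ≫ f₁) (hh₂ : h ≫ q₂ = p₂ ≫ f₂)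
    {L₁ : X₁.Modules} (hva₁ : RelProj.IsRelVeryAmple f₁ L₁)
    {L₂ : X₂.Modules} (hva₂ : RelProj.IsRelVeryAmple f₂ L₂)
    (hL : PicF.IsInvertible ((Scheme.Modules.pullback p₁).obj L₁))
    (hL' : PicF.IsInvertible ((Scheme.Modules.pullback p₂).obj L₂)) :
    RelProj.IsRelVeryAmple h
      (CohB1.tensorMod ((Scheme.Modules.pullback p₁).obj L₁) ((Scheme.Modules.pullback p₂).obj L₂)) := by
  obtain ⟨P₁, i₁, E, hE, A, gP, i, θ, hii₁, hig, hi, hc, hgen⟩ := exists_bundle_lift hva₁ h q₁ p₁ hh₁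
  obtain ⟨P₂, i₂, E', hE', A', gP', i', θ', hii₂, hig', hi', hc', hgen'⟩ := exists_bundle_lift hva₂ h q₂ p₂ hh₂
  haveI : IsImmersion (pullback.lift i i' (terminal.hom_ext (i ≫ terminal.from A.P) (i' ≫ terminal.from A'.P))) := by
    let d := pullback.mapDesc g₁ g₂ (terminal.from S)
    let m := pullback.map (g₁ ≫ terminal.from S) (g₂ ≫ terminal.from S) (terminal.from P₁) (terminal.from P₂)
      i₁ i₂ (𝟙 _) (terminal.hom_ext _ _) (terminal.hom_ext _ _)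
    haveI : IsImmersion m :=
      MorphismProperty.pullbackMap (P := @IsImmersion) hii₁ hii₂ (terminal.hom_ext _ _) (terminal.hom_ext _ _)
    let G := pullback.map (terminal.from A.P) (terminal.from A'.P) (terminal.from P₁) (terminal.from P₂)
      gP gP' (𝟙 _) (terminal.hom_ext _ _) (terminal.hom_ext _ _)
    have key : pullback.lift i i' (terminal.hom_ext (i ≫ terminal.from A.P) (i' ≫ terminal.from A'.P)) ≫ G =
        hP.isoPullback.hom ≫ d ≫ m := by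
      apply pullback.hom_ext
      · simp [G, d, m, hig]
      · simp [G, d, m, hig']
    haveI : IsImmersion (pullback.lift i i'
        (terminal.hom_ext (i ≫ terminal.from A.P) (i' ≫ terminal.from A'.P)) ≫ G) := by
      rw [key]
      infer_instance
    exact IsImmersion.of_comp _ G
  exact isRelVeryAmple_tensor_of_pair hL hL' hE hE' A A' i i' hi hi' hc hc' (genPair_of_gen hgen hgen')

end Groth.Agent.SymX
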