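import Groth.Agent.SymX.ProjectiveClosed
import Groth.Agent.SymX.VeryAmpleBC
import Groth.Agent.SymX.VeryAmpleProd
import Groth.Agent.FittX.Sheaf
import Groth.Agent.S2297
import Groth.Agent.PicClLib.Basic
import Groth.Agent.RelTildeX.Invertible
import Groth.Prelude.Def_MoreMor

/-!
# Stability of projective morphisms
-/

set_option linter.style.haveILetI false
set_option linter.unusedSectionVars false
set_option backward.isDefEq.respectTransparency false
set_option backward.isDefEq.respectTransparency.types false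
set_option maxHeartbeats 800000

universe u

open CategoryTheory CategoryTheory.Limits AlgebraicGeometry TopologicalSpace Opposite

noncomputable section

namespace Groth.Agent.SymX

open Groth.Agent

variable {X Y Z : Scheme.{u}}

theorem exists_bundle_pullback {E : Y.Modules} (A : Bundle E) (hE : Coh.IsQCoh E) {Y' : Scheme.{u}} (ψ : Y' ⟶ Y) :
    ∃ (A' : Bundle ((Scheme.Modules.pullback ψ).obj E)) (g : A'.P ⟶ A.P),
      IsPullback g A'.p A.p ψ ∧ Nonempty ((Scheme.Modules.pullback g).obj A.O1 ≅ A'.O1) := by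
  have hE' : Coh.IsQCoh ((Scheme.Modules.pullback ψ).obj E) := QCoh.isQCoh_pullback ψ hE
  obtain ⟨A'⟩ := nonempty_bundle hE'
  obtain ⟨g, hg, hiso⟩ := exists_isPullback A.C A'.C hE hE' A.isRelProj A.isRelTwist A.isTaut
    A'.isRelProj A'.isRelTwist A'.isTaut
  exact ⟨A', g, hg, hiso⟩

theorem isProjective_closedImmersion_comp {X' : Scheme.{u}} (k : X' ⟶ X) [IsClosedImmersion k] {f : X ⟶ Y}
    (hf : RelProj.IsProjective f) : RelProj.IsProjective (k ≫ f) := by
  obtain ⟨E, A, i, hE, hft, hi, rfl⟩ := exists_bundle_of_isProjective hf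
  exact isProjective_of_bundle A hE hft (k ≫ i) (Category.assoc k i A.p)

/-- Projective morphisms are stable under base change. -/
theorem isProjective_of_isPullback {X' Y' : Scheme.{u}} {f : X ⟶ Y} {g : Y' ⟶ Y} {g' : X' ⟶ X} {f' : X' ⟶ Y'}
    (hsq : IsPullback g' f' f g) (hf : RelProj.IsProjective f) : RelProj.IsProjective f' := by
  obtain ⟨E, A, i, hE, hft, hi, hif⟩ := exists_bundle_of_isProjective hf
  obtain ⟨A', gP, hgP, -⟩ := exists_bundle_pullback A hE g
  let i' := hgP.lift (g' ≫ i) f' (by rw [Category.assoc, hif, hsq.w])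
  have h1 : i' ≫ gP = g' ≫ i := hgP.lift_fst _ _ _
  have h2 : i' ≫ A'.p = f' := hgP.lift_snd _ _ _
  have hsq' : IsPullback g' i' i gP := by
    refine IsPullback.of_bot ?_ h1.symm hgP
    rw [hif, h2]
    exact hsq
  haveI : IsClosedImmersion i' := MorphismProperty.of_isPullback hsq' inferInstance
  exact isProjective_of_bundle A' (QCoh.isQCoh_pullback g hE) (FittX.isFT_pullback g hE hft) i' h2

theorem isProjective_baseChange {Y' : Scheme.{u}} (f : X ⟶ Y) (hf : RelProj.IsProjective f) (g : Y' ⟶ Y) :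
    RelProj.IsProjective (pullback.snd f g) :=
  isProjective_of_isPullback (IsPullback.of_hasPullback f g) hf

theorem isProjective_of_comp (f : X ⟶ Y) (g : Y ⟶ Z) [IsSeparated g] (h : RelProj.IsProjective (f ≫ g)) :
    RelProj.IsProjective f := by
  let γ : X ⟶ pullback (f ≫ g) g := pullback.lift (𝟙 X) f (Category.id_comp _)
  haveI : IsClosedImmersion γ := by
    haveI : IsClosedImmersion (γ ≫ pullback.fst (f ≫ g) g) := by
      rw [pullback.lift_fst]
      infer_instance
    exact IsClosedImmersion.of_comp γ (pullback.fst (f ≫ g) g)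
  have := isProjective_closedImmersion_comp γ (isProjective_baseChange (f ≫ g) h g)
  rwa [pullback.lift_snd] at this

theorem isProjective_of_thickening {X₀ Y₀ : Scheme.{u}} (f : X ⟶ Y) (hf : RelProj.IsProjective f)
    (j : X₀ ⟶ X) [IsClosedImmersion j] (k : Y₀ ⟶ Y) [IsClosedImmersion k] (f₀ : X₀ ⟶ Y₀)
    (hcomm : j ≫ f = f₀ ≫ k) : RelProj.IsProjective f₀ := by
  let γ : X₀ ⟶ pullback f k := pullback.lift j f₀ hcomm
  haveI : IsClosedImmersion γ := by
    haveI : IsClosedImmersion (γ ≫ pullback.fst f k) := by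
      rw [pullback.lift_fst]
      infer_instance
    exact IsClosedImmersion.of_comp γ (pullback.fst f k)
  have := isProjective_closedImmersion_comp γ (isProjective_baseChange f hf k)
  rwa [pullback.lift_snd] at this

theorem isFT_tensorMod {E E' : Y.Modules} (hE : Coh.IsQCoh E) (hE' : Coh.IsQCoh E') (hft : CohB1.IsFT E)
    (hft' : CohB1.IsFT E') : CohB1.IsFT (CohB1.tensorMod E E') :=
  haveI : Coh.IsQCoh E := hE
  haveI : Coh.IsQCoh E' := hE'
  (S2297.result E E').2 hft hft'

/-- The relative product of projective morphisms is projective (Segre). -/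
theorem isProjective_prod {S X₁ X₂ Y₁ Y₂ : Scheme.{u}} {g₁ : X₁ ⟶ S} {g₂ : X₂ ⟶ S}
    {f₁ : X₁ ⟶ Y₁} {f₂ : X₂ ⟶ Y₂} {P Q : Scheme.{u}} {p₁ : P ⟶ X₁} {p₂ : P ⟶ X₂} (hP : IsPullback p₁ p₂ g₁ g₂)
    (q₁ : Q ⟶ Y₁) (q₂ : Q ⟶ Y₂) (h : P ⟶ Q) [IsProper h] (hh₁ : h ≫ q₁ = p₁ ≫ f₁) (hh₂ : h ≫ q₂ = p₂ ≫ f₂)
    (hf₁ : RelProj.IsProjective f₁) (hf₂ : RelProj.IsProjective f₂) : RelProj.IsProjective h := by
  obtain ⟨E₁, A₁, i₁, hE₁, hft₁, hi₁, hif₁⟩ := exists_bundle_of_isProjective hf₁
  obtain ⟨E₂, A₂, i₂, hE₂, hft₂, hi₂, hif₂⟩ := exists_bundle_of_isProjective hf₂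
  obtain ⟨A, gP, hgP, -⟩ := exists_bundle_pullback A₁ hE₁ q₁
  obtain ⟨A', gP', hgP', -⟩ := exists_bundle_pullback A₂ hE₂ q₂
  let i := hgP.lift (p₁ ≫ i₁) h (by rw [Category.assoc, hif₁, hh₁])
  let i' := hgP'.lift (p₂ ≫ i₂) h (by rw [Category.assoc, hif₂, hh₂])
  have hig : i ≫ gP = p₁ ≫ i₁ := hgP.lift_fst _ _ _
  have hig' : i' ≫ gP' = p₂ ≫ i₂ := hgP'.lift_fst _ _ _
  have hi : i ≫ A.p = h := hgP.lift_snd _ _ _
  have hi' : i' ≫ A'.p = h := hgP'.lift_snd _ _ _
  obtain ⟨θ, hc, hgen⟩ := exists_theta_of_bundle A i hi (Iso.refl ((Scheme.Modules.pullback i).obj A.O1))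
  obtain ⟨θ', hc', hgen'⟩ := exists_theta_of_bundle A' i' hi' (Iso.refl ((Scheme.Modules.pullback i').obj A'.O1))
  haveI : IsImmersion (pullback.lift i i' (terminal.hom_ext (i ≫ terminal.from A.P) (i' ≫ terminal.from A'.P))) := by
    let d := pullback.mapDesc g₁ g₂ (terminal.from S)
    let m := pullback.map (g₁ ≫ terminal.from S) (g₂ ≫ terminal.from S) (terminal.from A₁.P) (terminal.from A₂.P)
      i₁ i₂ (𝟙 _) (terminal.hom_ext _ _) (terminal.hom_ext _ _)
    haveI : IsImmersion m :=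
      MorphismProperty.pullbackMap (P := @IsImmersion) inferInstance inferInstance (terminal.hom_ext _ _)
        (terminal.hom_ext _ _)
    let G := pullback.map (terminal.from A.P) (terminal.from A'.P) (terminal.from A₁.P) (terminal.from A₂.P)
      gP gP' (𝟙 _) (terminal.hom_ext _ _) (terminal.hom_ext _ _)
    have key : pullback.lift i i' (terminal.hom_ext (i ≫ terminal.from A.P) (i' ≫ terminal.from A'.P)) ≫ G =
        hP.isoPullback.hom ≫ d ≫ m := by
      apply pullback.hom_ext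
      · simp [G, d, m, hig]
      · simp [G, d, m, hig']
    haveI : IsImmersion (pullback.lift i i'
        (terminal.hom_ext (i ≫ terminal.from A.P) (i' ≫ terminal.from A'.P)) ≫ G) := by
      rw [key]
      infer_instance
    exact IsImmersion.of_comp _ G
  have hE := QCoh.isQCoh_pullback q₁ hE₁
  have hE' := QCoh.isQCoh_pullback q₂ hE₂
  have hL : PicF.IsInvertible ((Scheme.Modules.pullback i).obj A.O1) :=
    PicClLib.isInvertible_pullback i (RelTildeX.isInvertible_twist A.C.isGenDegOne A.isRelTwist)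
  have hL' : PicF.IsInvertible ((Scheme.Modules.pullback i').obj A'.O1) :=
    PicClLib.isInvertible_pullback i' (RelTildeX.isInvertible_twist A'.C.isGenDegOne A'.isRelTwist)
  obtain ⟨B, r, hr, -, hloc⟩ := exists_tensor_map hL hL' hE hE' θ θ' (genPair_of_gen hgen hgen')
  haveI : IsImmersion r := isImmersion_of_locally r fun x => by
    obtain ⟨D, hD, h1, h2⟩ := hloc x
    obtain ⟨σ, hσ⟩ := h1 A i hi hc
    obtain ⟨σ', hσ'⟩ := h2 A' i' hi' hc'
    refine ⟨D, hD, isImmersion_ι_comp_of_refine r D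
      (pullback.lift i i' (terminal.hom_ext (i ≫ terminal.from A.P) (i' ≫ terminal.from A'.P)))
      (pullback.lift σ σ' (terminal.hom_ext _ _)) ?_⟩
    apply pullback.hom_ext
    · simp only [Category.assoc, pullback.lift_fst]
      exact hσ
    · simp only [Category.assoc, pullback.lift_snd]
      exact hσ'
  exact isProjective_of_immersion B (isQCoh_tensorMod hE hE')
    (isFT_tensorMod hE hE' (FittX.isFT_pullback q₁ hE₁ hft₁) (FittX.isFT_pullback q₂ hE₂ hft₂)) r hr

end Groth.Agent.SymX
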