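import Groth.Agent.SymX.UP
import Groth.Agent.DivX.MeroMod

/-!
# Morphisms into a projective bundle and invertible quotients
-/

set_option linter.style.haveILetI false
set_option linter.unusedSectionVars false
set_option backward.isDefEq.respectTransparency false
set_option backward.isDefEq.respectTransparency.types false

noncomputable section

universe u

open CategoryTheory CategoryTheory.Limits AlgebraicGeometry TopologicalSpace Opposite

namespace Groth.Agent.SymX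

open Groth.Agent

variable {X Y P : Scheme.{u}} {E : Y.Modules} {𝒮 : RelProj.QCGrAlg Y} {p : P ⟶ Y}
  {chart : ∀ (U : Y.Opens) (hU : IsAffineOpen U), (((p ⁻¹ᵁ U : P.Opens) : Scheme.{u}) ≅ Proj (𝒮.deg U hU))}
  {O1 : P.Modules} {lam : ∀ (U : Y.Opens) (hU : IsAffineOpen U),
    O1 ⟶ (Scheme.Modules.pushforward (RelProj.emb p chart U hU)).obj (GrTwist.twist (𝒮.deg U hU) 1)}
  {j : E ⟶ 𝒮.toModule} (C : Chartwise E 𝒮 j) {φ : E ⟶ (Scheme.Modules.pushforward p).obj O1}
  {L : X.Modules}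

/-- Compatibility of a morphism with sections of `L`, on all of `X`. -/
def IsCompat' (φ : E ⟶ (Scheme.Modules.pushforward p).obj O1) (g : X ⟶ Y)
    (θ : E ⟶ (Scheme.Modules.pushforward g).obj L) (r : X ⟶ P) : Prop :=
  ∀ (U U' : Y.Opens) (_ : IsAffineOpen U) (_ : IsAffineOpen U') (e : Γ(E, U)) (e' : Γ(E, U')) (W : P.Opens)
    (hW : W ≤ p ⁻¹ᵁ U) (hW' : W ≤ p ⁻¹ᵁ U') (c : Γ(P, W)),
    AModX.res O1 hW' (ph φ e') = c • AModX.res O1 hW (ph φ e) →
      ∀ (T : X.Opens) (hT : T ≤ r ⁻¹ᵁ W) (h : T ≤ g ⁻¹ᵁ U) (h' : T ≤ g ⁻¹ᵁ U'),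
        AModX.res L h' (th g θ e') = AModX.resR hT (r.app W c) • AModX.res L h (th g θ e)

lemma pf_ι_comp (r : X ⟶ P) (Z : X.Opens) (W : P.Opens) (T : X.Opens) (h : T ≤ Z.ι ''ᵁ ((Z.ι ≫ r) ⁻¹ᵁ W))
    (h' : T ≤ r ⁻¹ᵁ W) (c : Γ(P, W)) : pf (Z.ι ≫ r) W T h c = AModX.resR h' (r.app W c) := by
  show AModX.resR h (Z.ι.app (r ⁻¹ᵁ W) (r.app W c)) = _
  rw [Scheme.Opens.ι_app]
  exact AModX.resR_resR _ h _

lemma le_image_ι_comp (r : X ⟶ P) (Z : X.Opens) (W : P.Opens) {T : X.Opens} (hTZ : T ≤ Z) (h : T ≤ r ⁻¹ᵁ W) :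
    T ≤ Z.ι ''ᵁ ((Z.ι ≫ r) ⁻¹ᵁ W) := fun x hx => ⟨⟨x, hTZ hx⟩, h hx, rfl⟩

variable {g : X ⟶ Y} {θ : E ⟶ (Scheme.Modules.pushforward g).obj L}

lemma IsCompat'.isCompat {r : X ⟶ P} (h : IsCompat' φ g θ r) (Z : X.Opens) : IsCompat φ g θ Z (Z.ι ≫ r) := by
  intro U U' hU hU' e e' W hW hW' c hc T hT h1 h2
  have hT' : T ≤ r ⁻¹ᵁ W := hT.trans (by rintro _ ⟨z, hz, rfl⟩; exact hz)
  rw [pf_ι_comp r Z W T hT hT']
  exact h U U' hU hU' e e' W hW hW' c hc T hT' h1 h2

include C in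
/-- Invertible quotients give morphisms to the projective bundle. -/
theorem existsUnique_isCompat' (hO1 : RelProj.IsRelTwist 𝒮 p chart 1 O1 lam) (hP : RelProj.IsRelProj 𝒮 p chart)
    (hE : Coh.IsQCoh E) (hφ : IsTaut lam j φ)
    (hgenθ : ∀ x : X, ∃ (U : Y.Opens) (_ : IsAffineOpen U) (e : Γ(E, U)), x ∈ AmpleX.locus (th g θ e)) :
    ∃! r : X ⟶ P, r ≫ p = g ∧ IsCompat' φ g θ r := by
  have hlocal : ∀ x : X, ∃ (Z : X.Opens) (_ : x ∈ Z) (r : Z.toScheme ⟶ P), r ≫ p = Z.ι ≫ g ∧ IsCompat φ g θ Z r := by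
    intro x
    obtain ⟨U, hU, e, hx⟩ := hgenθ x
    exact ⟨_, hx, exists_local C hO1 hP hE hφ hU e (AmpleX.locus_le _) (AmpleX.isFrame_res_locus _)⟩
  choose Z hxZ r hr hc using hlocal
  let 𝒰 := X.openCoverOfIsOpenCover Z (IsOpenCover.mk (eq_top_iff.2 fun x _ => Opens.mem_iSup.2 ⟨x, hxZ x⟩))
  have hglue : ∀ a b, pullback.fst (𝒰.f a) (𝒰.f b) ≫ r a = pullback.snd _ _ ≫ r b := by
    intro a b
    have hI := isPullback_opens_inf (Z a) (Z b)
    rw [← cancel_epi hI.isoPullback.hom, ← Category.assoc, ← Category.assoc]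
    erw [hI.isoPullback_hom_fst, hI.isoPullback_hom_snd]
    exact IsCompat.unique C hO1 hP hφ hgenθ _ _
      (by rw [Category.assoc, hr, Scheme.homOfLE_ι_assoc]) (by rw [Category.assoc, hr, Scheme.homOfLE_ι_assoc])
      ((hc a).restrict φ g θ inf_le_left) ((hc b).restrict φ g θ inf_le_right)
  let R : X ⟶ P := 𝒰.glueMorphisms r hglue
  have hR : ∀ a, (Z a).ι ≫ R = r a := fun a => Scheme.Cover.ι_glueMorphisms 𝒰 _ _ a
  have hRp : R ≫ p = g := Scheme.Cover.hom_ext 𝒰 _ _ fun (a : X) => by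
    show (Z a).ι ≫ R ≫ p = (Z a).ι ≫ g
    rw [← Category.assoc, hR, hr]
  refine ⟨R, ⟨hRp, ?_⟩, ?_⟩
  · intro U U' hU hU' e e' W hW hW' c hcc T hT h h'
    refine AModX.eq_of_locally _ _ fun q hq => ⟨T ⊓ Z q, inf_le_left, ⟨hq, hxZ q⟩, ?_⟩
    have hT' : T ⊓ Z q ≤ (Z q).ι ''ᵁ (((Z q).ι ≫ R) ⁻¹ᵁ W) :=
      le_image_ι_comp R (Z q) W inf_le_right (inf_le_left.trans hT)
    have := (hR q).symm ▸ hc q
    rw [AModX.res_res, AModX.res_smul, AModX.res_res, AModX.resR_resR, ← pf_ι_comp R (Z q) W _ hT']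
    exact this U U' hU hU' e e' W hW hW' c hcc _ hT' (inf_le_left.trans h) (inf_le_left.trans h')
  · rintro R' ⟨hR'p, hR'⟩
    refine Scheme.Cover.hom_ext 𝒰 _ _ fun (a : X) => ?_
    show (Z a).ι ≫ R' = (Z a).ι ≫ R
    rw [hR]
    exact IsCompat.unique C hO1 hP hφ hgenθ _ _ (by rw [Category.assoc, hR'p]) (hr a) (hR'.isCompat (Z a)) (hc a)

/-- The adjunct, along a composite, of a composite through the inverse image. -/
lemma homEquiv_comp (r : X ⟶ P) (φ : E ⟶ (Scheme.Modules.pushforward p).obj O1)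
    (τ : (Scheme.Modules.pullback r).obj O1 ⟶ L) :
    (Scheme.Modules.pullbackPushforwardAdjunction (r ≫ p)).homEquiv E L
        ((Scheme.Modules.pullbackComp r p).inv.app E ≫
          (Scheme.Modules.pullback r).map (((Scheme.Modules.pullbackPushforwardAdjunction p).homEquiv E O1).symm φ) ≫ τ) =
      φ ≫ (Scheme.Modules.pushforward p).map ((Scheme.Modules.pullbackPushforwardAdjunction r).homEquiv O1 L τ) ≫
        (Scheme.Modules.pushforwardComp r p).hom.app L := by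
  let ψ := ((Scheme.Modules.pullbackPushforwardAdjunction p).homEquiv E O1).symm φ
  let adj₁ := (Scheme.Modules.pullbackPushforwardAdjunction p).comp (Scheme.Modules.pullbackPushforwardAdjunction r)
  have h := unit_conjugateEquiv adj₁ (Scheme.Modules.pullbackPushforwardAdjunction (r ≫ p))
    (Scheme.Modules.pullbackComp r p).inv E
  rw [Scheme.Modules.conjugateEquiv_pullbackComp_inv] at h
  rw [Adjunction.homEquiv_unit, Functor.map_comp, ← Category.assoc]
  erw [← h]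
  rw [Category.assoc]
  erw [← (Scheme.Modules.pushforwardComp r p).hom.naturality ((Scheme.Modules.pullback r).map ψ ≫ τ)]
  rw [← Category.assoc, ← Category.assoc]
  congr 1
  show adj₁.unit.app E ≫ (Scheme.Modules.pushforward r ⋙ Scheme.Modules.pushforward p).map
    ((Scheme.Modules.pullback r).map ψ ≫ τ) = _
  refine ((adj₁.homEquiv_unit E L ((Scheme.Modules.pullback r).map ψ ≫ τ)).symm).trans ?_
  rw [Adjunction.comp_homEquiv]
  show (Scheme.Modules.pullbackPushforwardAdjunction p).homEquiv _ _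
    ((Scheme.Modules.pullbackPushforwardAdjunction r).homEquiv _ _ ((Scheme.Modules.pullback r).map ψ ≫ τ)) = _
  rw [Adjunction.homEquiv_naturality_left, Adjunction.homEquiv_naturality_right]
  exact congrArg (· ≫ _) (((Scheme.Modules.pullbackPushforwardAdjunction p).homEquiv E O1).apply_symm_apply φ)

/-- The adjunct of a composite through the inverse image, on sections. -/
lemma homEquiv_comp_app (r : X ⟶ P) (φ : E ⟶ (Scheme.Modules.pushforward p).obj O1)
    (τ : (Scheme.Modules.pullback r).obj O1 ⟶ L) (U : Y.Opens) (e : Γ(E, U)) :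
    th (r ≫ p) ((Scheme.Modules.pullbackPushforwardAdjunction (r ≫ p)).homEquiv E L
        ((Scheme.Modules.pullbackComp r p).inv.app E ≫
          (Scheme.Modules.pullback r).map (((Scheme.Modules.pullbackPushforwardAdjunction p).homEquiv E O1).symm φ) ≫ τ)) e =
      (show Γ(L, r ⁻¹ᵁ (p ⁻¹ᵁ U)) from
        ((Scheme.Modules.pullbackPushforwardAdjunction r).homEquiv O1 L τ).app (p ⁻¹ᵁ U) (ph φ e)) := by
  rw [th, homEquiv_comp]
  rfl

/-- An epimorphism onto an invertible module gives frames from the module. -/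
theorem exists_frame_of_epi (hL : PicF.IsInvertible L) (s : (Scheme.Modules.pullback g).obj E ⟶ L) [Epi s] (x : X) :
    ∃ (U : Y.Opens) (_ : IsAffineOpen U) (e : Γ(E, U)),
      x ∈ AmpleX.locus (th g ((Scheme.Modules.pullbackPushforwardAdjunction g).homEquiv E L s) e) := by
  by_contra! hall
  let θ := (Scheme.Modules.pullbackPushforwardAdjunction g).homEquiv E L s
  let i := X.fromSpecResidueField x
  have hix : ∀ z, i z = x := fun z => by
    have h := Scheme.range_fromSpecResidueField x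
    have : i z ∈ Set.range i := ⟨z, rfl⟩
    rw [h] at this
    exact this
  let q := (Scheme.Modules.pullbackPushforwardAdjunction i).unit.app L
  obtain ⟨V, hxV, e₀, he₀⟩ := InvX.exists_frame hL x
  have hzero : ∀ (U : Y.Opens) (_ : IsAffineOpen U) (e : Γ(E, U)), InvX.pullElt i (th g θ e) = 0 := by
    intro U hU e
    refine AModX.eq_of_locally _ _ fun z hz => ?_
    let W := V ⊓ g ⁻¹ᵁ U
    have hzW : i z ∈ W := ⟨(hix z).symm ▸ hxV, hz⟩
    obtain ⟨a, ha⟩ := (he₀.res (inf_le_left : W ≤ V)).exists_coord le_rfl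
      (AModX.res L (inf_le_right : W ≤ g ⁻¹ᵁ U) (th g θ e))
    rw [AModX.res_self] at ha
    refine ⟨i ⁻¹ᵁ W, i.preimage_mono inf_le_right, hzW, ?_⟩
    rw [map_zero, InvX.res_pullElt i (inf_le_right : W ≤ g ⁻¹ᵁ U), ha, InvX.pullElt_smul]
    have hax : x ∉ X.basicOpen a := fun hx => hall U hU e ((AmpleX.locus_inf (th g θ e) inf_le_right
      (he₀.res (inf_le_left : W ≤ V)) ha).ge hx).1
    have : i.app W a = 0 := by
      refine eq_zero_of_basicOpen_eq_bot _ ?_
      rw [← Scheme.preimage_basicOpen]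
      exact eq_bot_iff.2 fun w hw => hax (hix w ▸ hw)
    rw [this, zero_smul]
  have hq : s ≫ q = 0 := by
    apply ((Scheme.Modules.pullbackPushforwardAdjunction g).homEquiv E _).injective
    have h0 : (Scheme.Modules.pullbackPushforwardAdjunction g).homEquiv E
        ((Scheme.Modules.pushforward i).obj ((Scheme.Modules.pullback i).obj L)) 0 = 0 := by
      rw [Adjunction.homEquiv_unit, Functor.map_zero, comp_zero]
    rw [Adjunction.homEquiv_naturality_right]
    refine Eq.trans ?_ h0.symm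
    exact homModule_ext fun b e => hzero b.1 b.2 e
  have hq0 : q = 0 := by rw [← cancel_epi s, hq, comp_zero]
  have hf := InvX.isFrame_pullElt i he₀
  obtain ⟨z₀⟩ : Nonempty (Spec (X.residueField x)) := inferInstance
  have hzero' : InvX.pullElt i e₀ = 0 := by
    show q.app V e₀ = 0
    rw [hq0]
    rfl
  have h1 : (1 : Γ(Spec (X.residueField x), i ⁻¹ᵁ V)) = 0 := by
    refine hf.coord_unique le_rfl ?_
    rw [AModX.res_self, one_smul, zero_smul, hzero']
  have hV : z₀ ∈ i ⁻¹ᵁ V := show i z₀ ∈ V from (hix z₀).symm ▸ hxV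
  have h2 := congrArg ((Spec (X.residueField x)).presheaf.germ (i ⁻¹ᵁ V) z₀ hV).hom h1
  rw [map_one, map_zero] at h2
  exact one_ne_zero h2

include C in
/-- Where the tautological section is a frame, its image is. -/
lemma IsCompat'.le_locus (hO1 : RelProj.IsRelTwist 𝒮 p chart 1 O1 lam) (hφ : IsTaut lam j φ)
    {r : X ⟶ P} (hr : r ≫ p = g) (hc : IsCompat' φ g θ r)
    (hgenθ : ∀ x : X, ∃ (U : Y.Opens) (_ : IsAffineOpen U) (e : Γ(E, U)), x ∈ AmpleX.locus (th g θ e))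
    (U : Y.Opens) (hU : IsAffineOpen U) (e : Γ(E, U)) : r ⁻¹ᵁ AmpleX.locus (ph φ e) ≤ AmpleX.locus (th g θ e) := by
  intro x hx
  obtain ⟨U₁, hU₁, e₁, hx₁⟩ := hgenθ x
  have hT₁ := (hc.isCompat ⊤).le_dOpen C hO1 hφ (r := (⊤ : X.Opens).ι ≫ r) (by rw [Category.assoc, hr]) hU₁ e₁
    (AmpleX.locus_le _) le_top (AmpleX.isFrame_res_locus _)
  have hrx : r x ∈ dOpen p chart j U₁ hU₁ e₁ := by
    obtain ⟨z, hz, hzx⟩ := hT₁ hx₁
    rw [← hzx]
    exact hz
  let W := AmpleX.locus (ph φ e) ⊓ AmpleX.locus (ph φ e₁)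
  have hrW : r x ∈ W := ⟨hx, le_locus_taut hO1 C.isGrSymAlg.2 U₁ hU₁ e₁ _ (hφ U₁ hU₁ e₁) hrx⟩
  have hfe := AmpleX.isFrame_res_of_le (ph φ e) (inf_le_left : W ≤ _)
  obtain ⟨c, hc'⟩ := hfe.exists_coord le_rfl
    (AModX.res O1 ((inf_le_right : W ≤ _).trans (AmpleX.locus_le (ph φ e₁))) (ph φ e₁))
  rw [AModX.res_self] at hc'
  let T := r ⁻¹ᵁ W ⊓ AmpleX.locus (th g θ e₁)
  have hTU : T ≤ g ⁻¹ᵁ U := by
    rintro w ⟨hw, -⟩
    show g w ∈ U
    rw [← hr]
    exact AmpleX.locus_le (ph φ e) hw.1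
  have hθ := hc U U₁ hU hU₁ e e₁ W _ _ c hc' T inf_le_left hTU (inf_le_right.trans (AmpleX.locus_le _))
  have hfT := AmpleX.isFrame_res_of_le (th g θ e₁) (inf_le_right : T ≤ _)
  obtain ⟨d, hd⟩ := hfT.exists_coord le_rfl (AModX.res L hTU (th g θ e))
  rw [AModX.res_self] at hd
  have hu : AModX.resR inf_le_left (r.app W c) * d = 1 := by
    refine hfT.coord_unique le_rfl ?_
    rw [AModX.res_self, one_smul, mul_smul, ← hd, ← hθ]
  refine AmpleX.le_locus (th g θ e) hTU ?_ (show x ∈ T from ⟨hrW, hx₁⟩)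
  rw [hd]
  exact hfT.isUnit_smul (IsUnit.of_mul_eq_one _ (by rw [mul_comm]; exact hu))

include C in
/-- The universal property of the projective bundle. -/
theorem existsUnique_to_projBundle (hE : Coh.IsQCoh E) (hO1 : RelProj.IsRelTwist 𝒮 p chart 1 O1 lam)
    (hP : RelProj.IsRelProj 𝒮 p chart) (hφ : IsTaut lam j φ) (g : X ⟶ Y) (hL : PicF.IsInvertible L)
    (s : (Scheme.Modules.pullback g).obj E ⟶ L) (hs : Epi s) :
    ∃! r : X ⟶ P, ∃ (hr : r ≫ p = g) (τ : (Scheme.Modules.pullback r).obj O1 ≅ L),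
      (Scheme.Modules.pullbackCongr hr).inv.app E ≫ (Scheme.Modules.pullbackComp r p).inv.app E ≫
        (Scheme.Modules.pullback r).map
          (((Scheme.Modules.pullbackPushforwardAdjunction p).homEquiv E O1).symm φ) ≫ τ.hom = s := by
  haveI := hs
  let θ := (Scheme.Modules.pullbackPushforwardAdjunction g).homEquiv E L s
  have hgenθ := fun x => exists_frame_of_epi (g := g) hL s x
  obtain ⟨R, ⟨hRp, hR⟩, huniq⟩ := existsUnique_isCompat' C hO1 hP hE hφ (θ := θ) hgenθ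
  refine ⟨R, ⟨hRp, ?_⟩, ?_⟩
  · subst hRp
    let A := Σ U : Y.affineOpens, Γ(E, U.1)
    let Wf : A → P.Opens := fun a => AmpleX.locus (ph φ a.2)
    have hW : ∀ a : A, Wf a ≤ p ⁻¹ᵁ a.1.1 := fun a => AmpleX.locus_le _
    let ee : ∀ a, Γ(O1, Wf a) := fun a => AModX.res O1 (hW a) (ph φ a.2)
    have hee : ∀ a, InvX.IsFrame (ee a) := fun a => AmpleX.isFrame_res_locus _
    let nn : ∀ a, Γ((Scheme.Modules.pushforward R).obj L, Wf a) := fun a =>
      AModX.res L (R.preimage_mono (hW a)) (th (R ≫ p) θ a.2)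
    have hcov : ∀ y : P, ∃ a, y ∈ Wf a := fun y => by
      obtain ⟨U, hU, e, he⟩ := exists_taut_point C hP hO1 φ hφ y
      exact ⟨⟨⟨U, hU⟩, e⟩, he⟩
    have hc : ∀ (a b : A) (W : P.Opens) (h : W ≤ Wf a) (h' : W ≤ Wf b) (c : Γ(P, W)),
        AModX.res O1 h' (ee b) = c • AModX.res O1 h (ee a) →
          AModX.res ((Scheme.Modules.pushforward R).obj L) h' (nn b) =
            c • AModX.res ((Scheme.Modules.pushforward R).obj L) h (nn a) := by
      intro a b W h h' c hcc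
      simp only [ee, AModX.res_res] at hcc
      have := hR a.1.1 b.1.1 a.1.2 b.1.2 a.2 b.2 W _ _ c hcc (R ⁻¹ᵁ W) le_rfl
        (R.preimage_mono (h.trans (hW a))) (R.preimage_mono (h'.trans (hW b)))
      rw [AModX.resR_self] at this
      refine (AModX.res_res (M := L) (R.preimage_mono (hW b)) (R.preimage_mono h') _).trans (this.trans ?_)
      exact congrArg (R.app W c • ·) (AModX.res_res (M := L) (R.preimage_mono (hW a)) (R.preimage_mono h) _).symm
    let τ' : O1 ⟶ (Scheme.Modules.pushforward R).obj L := InvX.ofFrames hcov hee hc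
    let t := ((Scheme.Modules.pullbackPushforwardAdjunction R).homEquiv O1 L).symm τ'
    have hτ' : ∀ a, τ'.app (Wf a) (ee a) = nn a := InvX.ofFrames_app hcov hee hc
    haveI : IsIso t := DivX.isIso_of_frames t fun x => by
      obtain ⟨a, ha⟩ := hcov (R x)
      refine ⟨R ⁻¹ᵁ Wf a, ha, InvX.pullElt R (ee a), InvX.isFrame_pullElt R (hee a), ?_⟩
      have h := ((Scheme.Modules.pullbackPushforwardAdjunction R).homEquiv O1 L).apply_symm_apply τ'
      rw [Adjunction.homEquiv_unit] at h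
      rw [show t.app (R ⁻¹ᵁ Wf a) (InvX.pullElt R (ee a)) = nn a from
        (congrArg (fun χ : O1 ⟶ (Scheme.Modules.pushforward R).obj L => χ.app (Wf a) (ee a)) h).trans (hτ' a)]
      exact AmpleX.isFrame_res_of_le _ (hR.le_locus C hO1 hφ rfl hgenθ a.1.1 a.1.2 a.2)
    refine ⟨asIso t, ?_⟩
    simp only [Scheme.Modules.pullbackCongr, eqToIso_refl, Iso.refl_inv, NatTrans.id_app]
    erw [Category.id_comp]
    apply ((Scheme.Modules.pullbackPushforwardAdjunction (R ≫ p)).homEquiv E L).injective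
    refine homModule_ext fun b e => ?_
    refine (homEquiv_comp_app R φ t b.1 e).trans ?_
    rw [show ((Scheme.Modules.pullbackPushforwardAdjunction R).homEquiv O1 L) t = τ' from
      Equiv.apply_symm_apply _ _]
    refine AModX.eq_of_locally _ _ fun x hx => ?_
    obtain ⟨a, ha⟩ := hcov (R x)
    let W := p ⁻¹ᵁ b.1 ⊓ Wf a
    refine ⟨R ⁻¹ᵁ W, R.preimage_mono inf_le_left, ⟨hx, ha⟩, ?_⟩
    obtain ⟨c, hcb⟩ := (hee a).exists_coord (inf_le_right : W ≤ Wf a) (AModX.res O1 (inf_le_left : W ≤ p ⁻¹ᵁ b.1) (ph φ e))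
    have e1 : AModX.res L (R.preimage_mono (inf_le_left : W ≤ p ⁻¹ᵁ b.1)) (show Γ(L, R ⁻¹ᵁ (p ⁻¹ᵁ b.1)) from τ'.app (p ⁻¹ᵁ b.1) (ph φ e)) =
        R.app W c • AModX.res L (R.preimage_mono (inf_le_right : W ≤ Wf a)) (show Γ(L, R ⁻¹ᵁ Wf a) from nn a) := by
      refine (AModX.app_res τ' (inf_le_left : W ≤ p ⁻¹ᵁ b.1) (ph φ e)).symm.trans ?_
      rw [hcb, Scheme.Modules.Hom.app_smul, AModX.app_res τ' (inf_le_right : W ≤ Wf a) (ee a), hτ' a]
      rfl
    have hcb' : AModX.res O1 (inf_le_left : W ≤ p ⁻¹ᵁ b.1) (ph φ e) =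
        c • AModX.res O1 ((inf_le_right : W ≤ Wf a).trans (hW a)) (ph φ a.2) := by
      rw [hcb]; simp only [ee, AModX.res_res]
    have e2 := hR a.1.1 b.1 a.1.2 b.2 a.2 e W _ inf_le_left c hcb' (R ⁻¹ᵁ W) le_rfl
      (R.preimage_mono ((inf_le_right : W ≤ Wf a).trans (hW a))) (R.preimage_mono inf_le_left)
    rw [AModX.resR_self] at e2
    refine e1.trans (Eq.trans ?_ e2.symm)
    rw [AModX.res_res]
    rfl
  · rintro r ⟨hr, τ, hcond⟩
    refine huniq r ⟨hr, ?_⟩
    subst hr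
    have hcond' := congrArg ((Scheme.Modules.pullbackPushforwardAdjunction (r ≫ p)).homEquiv E L) hcond
    simp only [Scheme.Modules.pullbackCongr, eqToIso_refl, Iso.refl_inv, NatTrans.id_app] at hcond'
    erw [Category.id_comp] at hcond'
    let τ' := (Scheme.Modules.pullbackPushforwardAdjunction r).homEquiv O1 L τ.hom
    have hth : ∀ (U : Y.Opens) (e : Γ(E, U)), th (r ≫ p) θ e =
        (show Γ(L, r ⁻¹ᵁ (p ⁻¹ᵁ U)) from τ'.app (p ⁻¹ᵁ U) (ph φ e)) := fun U e => by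
      refine Eq.trans ?_ (homEquiv_comp_app r φ τ.hom U e)
      exact congrArg (fun χ => th (r ≫ p) χ e) hcond'.symm
    intro U U' hU hU' e e' W hW hW' c hcc T hT h h'
    have k := congrArg (fun w => τ'.app W w) hcc
    simp only [Scheme.Modules.Hom.app_smul, AModX.app_res] at k
    have k2 := congrArg (AModX.res L hT) (show AModX.res L (r.preimage_mono hW') _ = r.app W c •
      AModX.res L (r.preimage_mono hW) _ from k)
    rw [AModX.res_smul, AModX.res_res, AModX.res_res] at k2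
    rw [hth, hth]
    exact k2

end Groth.Agent.SymX
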