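import Groth.Agent.SymX.SymAlg
import Groth.Agent.QCoh.Support
import Groth.Agent.RelSpecX.Spec
import Groth.Prelude.Def_CohB1

/-!
# Generation of symmetric algebras; first consequences for vector bundles
-/

set_option linter.style.haveILetI false
set_option linter.unusedSectionVars false
set_option backward.isDefEq.respectTransparency false
set_option backward.isDefEq.respectTransparency.types false

noncomputable section

universe u

open CategoryTheory CategoryTheory.Limits AlgebraicGeometry TopologicalSpace Opposite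

namespace Groth.Agent.SymX

open Groth.Agent

variable {S : Scheme.{u}}

/-- A symmetric algebra of a quasi-coherent module is the symmetric algebra on every affine open. -/
theorem exists_symEquiv {E : S.Modules} (hE : Coh.IsQCoh E) {A : RelSpec.QCAlg S} {j : E ⟶ A.toModule}
    (hA : RelSpec.IsSymAlg E A j) (a : S.AffineZariskiSite) :
    ∃ e : SymmetricAlgebra Γ(S, a.1) Γ(E, a.1) ≃+* A.presheaf.obj (op a.1),
      (∀ r, e (algebraMap _ _ r) = (A.str.app (op a.1)).hom r) ∧
      ∀ x, e (SymmetricAlgebra.ι _ _ x) = j.app a.1 x := by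
  obtain ⟨𝒜, k, ⟨C⟩⟩ := exists_chartwise hE
  obtain ⟨u, hu, -⟩ := C.isGrSymAlg.1 A j
  obtain ⟨v, hv, -⟩ := hA 𝒜.toQCAlg k
  have hvu : v ≫ u = 𝟙 _ := (hA A j).unique
    (homModule_ext fun b x => by
      show (u.hom.app (op b.1)).hom ((v.hom.app (op b.1)).hom (j.app b.1 x)) = j.app b.1 x
      exact (congrArg (u.hom.app (op b.1)).hom (congrArg (fun χ : E ⟶ 𝒜.toModule => χ.app b.1 x) hv)).trans
        (congrArg (fun χ : E ⟶ A.toModule => χ.app b.1 x) hu))
    (homModule_ext fun b x => rfl)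
  have huv : u ≫ v = 𝟙 _ := (C.isGrSymAlg.1 𝒜.toQCAlg k).unique
    (homModule_ext fun b x => by
      show (v.hom.app (op b.1)).hom ((u.hom.app (op b.1)).hom (k.app b.1 x)) = k.app b.1 x
      exact (congrArg (v.hom.app (op b.1)).hom (congrArg (fun χ : E ⟶ A.toModule => χ.app b.1 x) hu)).trans
        (congrArg (fun χ : E ⟶ 𝒜.toModule => χ.app b.1 x) hv))
    (homModule_ext fun b x => rfl)
  let i : 𝒜.toQCAlg ≅ A := ⟨u, v, huv, hvu⟩
  let e1 : (symFunctor E).obj (op a) ≅ A.presheaf.obj (op a.1) :=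
    (C.φ a).symm ≪≫
      { hom := i.hom.hom.app (op a.1)
        inv := i.inv.hom.app (op a.1)
        hom_inv_id := NatTrans.congr_app (congrArg RelSpec.QCAlg.Hom.hom i.hom_inv_id) (op a.1)
        inv_hom_id := NatTrans.congr_app (congrArg RelSpec.QCAlg.Hom.hom i.inv_hom_id) (op a.1) }
  refine ⟨e1.commRingCatIsoToRingEquiv, fun r => ?_, fun x => ?_⟩
  · show (u.hom.app (op a.1)).hom ((C.φ a).inv (algebraMap Γ(S, a.1) (SymmetricAlgebra Γ(S, a.1) Γ(E, a.1)) r)) = _
    erw [show algebraMap _ (SymmetricAlgebra Γ(S, a.1) Γ(E, a.1)) r = (C.φ a).hom ((𝒜.str.app (op a.1)).hom r) from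
      congr($(C.str a).hom r).symm]
    rw [Iso.hom_inv_id_apply]
    exact congr($(NatTrans.congr_app u.comm (op a.1)).hom r)
  · show (u.hom.app (op a.1)).hom ((C.φ a).inv (SymmetricAlgebra.ι _ _ x)) = _
    rw [← C.j_app, Iso.hom_inv_id_apply]
    exact congrArg (fun χ : E ⟶ A.toModule => χ.app a.1 x) hu

theorem surjective_app {E F : S.Modules} (hE : Coh.IsQCoh E) (hF : Coh.IsQCoh F) (u : E ⟶ F) [Epi u]
    {A B : RelSpec.QCAlg S} {j : E ⟶ A.toModule} {k : F ⟶ B.toModule} (hB : RelSpec.IsSymAlg F B k)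
    {ψ : A ⟶ B} (hψ : j ≫ RelSpec.QCAlg.Hom.toModuleMap ψ = u ≫ k) (U : S.Opens) (hU : IsAffineOpen U) :
    Function.Surjective (ψ.hom.app (op U)).hom := by
  obtain ⟨e, he0, he1⟩ := exists_symEquiv hF hB ⟨U, hU⟩
  intro b
  obtain ⟨y, rfl⟩ := e.surjective b
  induction y using SymmetricAlgebra.induction with
  | algebraMap r =>
    exact ⟨(A.str.app (op U)).hom r, (congr($(NatTrans.congr_app ψ.comm (op U)).hom r)).trans (he0 r).symm⟩
  | ι x =>
    obtain ⟨z, hz⟩ := QCoh.app_surjective_of_epi hE hF u hU x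
    refine ⟨j.app U z, ?_⟩
    rw [he1 x, ← hz]
    exact congrArg (fun χ : E ⟶ B.toModule => χ.app U z) hψ
  | mul y z hy hz =>
    obtain ⟨c, hc⟩ := hy
    obtain ⟨d, hd⟩ := hz
    exact ⟨c * d, by rw [map_mul, hc, hd, map_mul]⟩
  | add y z hy hz =>
    obtain ⟨c, hc⟩ := hy
    obtain ⟨d, hd⟩ := hz
    exact ⟨c + d, by rw [map_add, hc, hd, map_add]⟩

/-- An epimorphism gives a closed immersion of vector bundles. -/
theorem isClosedImmersion_specMap {E F : S.Modules} (hE : Coh.IsQCoh E) (hF : Coh.IsQCoh F) (u : E ⟶ F) [Epi u]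
    {A B : RelSpec.QCAlg S} {j : E ⟶ A.toModule} {k : F ⟶ B.toModule} (hB : RelSpec.IsSymAlg F B k)
    {ψ : A ⟶ B} (hψ : j ≫ RelSpec.QCAlg.Hom.toModuleMap ψ = u ≫ k) :
    IsClosedImmersion (RelSpec.QCAlg.specMap ψ) := by
  refine IsZariskiLocalAtTarget.of_iSup_eq_top (fun U : S.affineOpens => A.π ⁻¹ᵁ U.1)
    (by rw [← A.π.preimage_iSup, iSup_affineOpens_eq_top, A.π.preimage_top]) fun U => ?_
  haveI : IsClosedImmersion (Spec.map (ψ.hom.app (op U.1))) :=
    IsClosedImmersion.spec_of_surjective _ (surjective_app hE hF u hB hψ U.1 U.2)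
  have hB' : RelSpec.QCAlg.specMap ψ ⁻¹ᵁ (A.π ⁻¹ᵁ U.1) = (B.ι U.1 U.2).opensRange := by
    rw [← Scheme.Hom.comp_preimage, RelSpec.QCAlg.specMap_π, B.π_preimage]
  have sq : IsPullback (B.ι U.1 U.2) (Spec.map (ψ.hom.app (op U.1))) (RelSpec.QCAlg.specMap ψ) (A.ι U.1 U.2) :=
    (IsOpenImmersion.isPullback (Spec.map (ψ.hom.app (op U.1))) (B.ι U.1 U.2) (A.ι U.1 U.2)
      (RelSpec.QCAlg.specMap ψ) (RelSpec.QCAlg.ι_specMap U.1 U.2 ψ)
      (by rw [← A.π_preimage U.1 U.2, hB'])).flip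
  refine (MorphismProperty.arrow_mk_iso_iff @IsClosedImmersion
    (morphismRestrictEq (RelSpec.QCAlg.specMap ψ) (A.π_preimage U.1 U.2) ≪≫
      morphismRestrictOpensRange (RelSpec.QCAlg.specMap ψ) (A.ι U.1 U.2))).2 ?_
  refine (MorphismProperty.cancel_left_of_respectsIso @IsClosedImmersion sq.isoPullback.hom _).1 ?_
  rw [sq.isoPullback_hom_snd]
  infer_instance

theorem finiteType_app {E : S.Modules} (hE : Coh.IsQCoh E) (hft : CohB1.IsFT E) {A : RelSpec.QCAlg S}
    {j : E ⟶ A.toModule} (hA : RelSpec.IsSymAlg E A j) (U : S.Opens) (hU : IsAffineOpen U) :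
    (A.str.app (op U)).hom.FiniteType := by
  classical
  obtain ⟨e, he0, he1⟩ := exists_symEquiv hE hA ⟨U, hU⟩
  obtain ⟨⟨t, ht⟩⟩ := QCoh.finite_of_isFT hE hft hU
  letI := (A.str.app (op U)).hom.toAlgebra
  refine (⟨⟨t.image fun x => (j.app U x : A.presheaf.obj (op U)), top_unique fun b hb => ?_⟩⟩ :
    Algebra.FiniteType Γ(S, U) (A.presheaf.obj (op U)))
  clear hb
  obtain ⟨y, rfl⟩ := e.surjective b
  induction y using SymmetricAlgebra.induction with
  | algebraMap r => rw [he0]; exact Subalgebra.algebraMap_mem _ r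
  | ι x =>
    rw [he1 x]
    have hx : x ∈ Submodule.span Γ(S, U) (t : Set Γ(E, U)) := ht ▸ trivial
    induction hx using Submodule.span_induction with
    | mem z hz => exact Algebra.subset_adjoin (by simp only [Finset.coe_image]; exact ⟨z, hz, rfl⟩)
    | zero => rw [map_zero]; exact zero_mem _
    | add z w _ _ hz hw => rw [map_add]; exact add_mem hz hw
    | smul r z _ hz =>
      rw [Scheme.Modules.Hom.app_smul]
      exact mul_mem (Subalgebra.algebraMap_mem _ r) hz
  | mul y z hy hz => rw [map_mul]; exact mul_mem hy hz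
  | add y z hy hz => rw [map_add]; exact add_mem hy hz

theorem locallyOfFiniteType_π {E : S.Modules} (hE : Coh.IsQCoh E) (hft : CohB1.IsFT E) {A : RelSpec.QCAlg S}
    {j : E ⟶ A.toModule} (hA : RelSpec.IsSymAlg E A j) : LocallyOfFiniteType A.π := by
  refine IsZariskiLocalAtTarget.of_iSup_eq_top (fun U : S.affineOpens => U.1) (iSup_affineOpens_eq_top S) fun U => ?_
  haveI : LocallyOfFiniteType (Spec.map (A.str.app (op U.1))) :=
    (HasRingHomProperty.Spec_iff (P := @LocallyOfFiniteType)).mpr (finiteType_app hE hft hA U.1 U.2)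
  refine (MorphismProperty.arrow_mk_iso_iff @LocallyOfFiniteType
    (morphismRestrictEq A.π U.2.opensRange_fromSpec.symm ≪≫
      morphismRestrictOpensRange A.π U.2.fromSpec)).2 ?_
  have sq := RelSpecX.isPullback_ι (A := A) U.1 U.2
  refine (MorphismProperty.cancel_left_of_respectsIso @LocallyOfFiniteType sq.isoPullback.hom _).1 ?_
  rw [sq.isoPullback_hom_snd]
  infer_instance

end Groth.Agent.SymX
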