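import Groth.Agent.SymX.VeryAmpleTensor
import Groth.Agent.H23.PicMul
import Groth.Agent.PicClLib.Basic

/-!
# Twisting very ample modules by modules from the base
-/

set_option linter.style.haveILetI false
set_option linter.unusedSectionVars false
set_option backward.isDefEq.respectTransparency false
set_option backward.isDefEq.respectTransparency.types false

noncomputable section

universe u

open CategoryTheory CategoryTheory.Limits AlgebraicGeometry TopologicalSpace Opposite

namespace Groth.Agent.SymX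

open Groth.Agent
open scoped Groth.Agent.H23.PicMul

variable {X Y : Scheme.{u}} {g : X ⟶ Y} {L L' : X.Modules}

theorem isRelVeryAmple_of_iso (e : L ≅ L') (hva : RelProj.IsRelVeryAmple g L) :
    RelProj.IsRelVeryAmple g L' := by
  obtain ⟨E, hE, 𝒮, j, hj, P, p, chart, hP, O1, lam, hO1, i, hii, hi, ⟨τ⟩⟩ := hva
  exact ⟨E, hE, 𝒮, j, hj, P, p, chart, hP, O1, lam, hO1, i, hii, hi, ⟨e.symm ≪≫ τ⟩⟩

/-- Tensoring with a quotient of a module from the base keeps very ampleness. -/
theorem isRelVeryAmple_tensor_of_epi (hL : PicF.IsInvertible L) (hL' : PicF.IsInvertible L')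
    (hva : RelProj.IsRelVeryAmple g L) {E' : Y.Modules} (hE' : Coh.IsQCoh E')
    (φ : (Scheme.Modules.pullback g).obj E' ⟶ L') [Epi φ] :
    RelProj.IsRelVeryAmple g (CohB1.tensorMod L L') :=
  isRelVeryAmple_tensor_of_theta hL hL' hva hE'
    ((Scheme.Modules.pullbackPushforwardAdjunction g).homEquiv E' L' φ) fun x => by
      obtain ⟨U, -, e, he⟩ := exists_frame_of_epi (g := g) hL' φ x
      exact ⟨U, e, he⟩

/-- Twisting by invertible modules from the base keeps very ampleness. -/
theorem isRelVeryAmple_tensor_pullback (hL : PicF.IsInvertible L) {K : Y.Modules} (hK : PicF.IsInvertible K)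
    (hva : RelProj.IsRelVeryAmple g L) :
    RelProj.IsRelVeryAmple g (CohB1.tensorMod L ((Scheme.Modules.pullback g).obj K)) :=
  isRelVeryAmple_tensor_of_epi hL (PicClLib.isInvertible_pullback g hK) hva
    (ProjUPX.isQCoh_of_isInvertible hK) (𝟙 _)

theorem isRelVeryAmple_tensor_pullback_iff (hL : PicF.IsInvertible L) {K : Y.Modules} (hK : PicF.IsInvertible K) :
    RelProj.IsRelVeryAmple g L ↔
      RelProj.IsRelVeryAmple g (CohB1.tensorMod L ((Scheme.Modules.pullback g).obj K)) := by
  refine ⟨isRelVeryAmple_tensor_pullback hL hK, fun h => ?_⟩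
  obtain ⟨D, hD, ⟨eD⟩⟩ := H23.PicInv.exists_inverse hK
  have hK' := PicClLib.isInvertible_pullback g hK
  have h2 := isRelVeryAmple_tensor_pullback (InvX.isInvertible_tensorMod hL hK') hD h
  have hcl : PicF.cl (CohB1.tensorMod (CohB1.tensorMod L ((Scheme.Modules.pullback g).obj K))
      ((Scheme.Modules.pullback g).obj D)) = PicF.cl L := by
    rw [H23.PicMul.cl_tensor, H23.PicMul.cl_tensor, mul_assoc]
    change PicF.cl L * (PicF.pullCl g (PicF.cl K) * PicF.pullCl g (PicF.cl D)) = PicF.cl L
    rw [← H23.PicMul.pullCl_mul, ← H23.PicMul.cl_tensor, H23.PicMul.cl_eq_iff.2 ⟨eD⟩, ← H23.PicMul.one_def,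
      H23.PicMul.pullCl_one, mul_one]
  exact isRelVeryAmple_of_iso (H23.PicMul.cl_eq_iff.1 hcl).some h2

theorem isRelVeryAmple_tensorPow (hL : PicF.IsInvertible L) (hva : RelProj.IsRelVeryAmple g L) :
    ∀ n : ℕ, 0 < n → RelProj.IsRelVeryAmple g (CohB1.tensorPow L n)
  | 1, _ => by
    obtain ⟨e⟩ := H23.PicMul.comm (CohB1.tensorPow L 0) L
    obtain ⟨u⟩ := H23.PicMul.unit L
    exact isRelVeryAmple_of_iso (e ≪≫ u).symm hva
  | n + 2, _ => isRelVeryAmple_tensor (InvX.isInvertible_tensorPow hL (n + 1)) hL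
      (isRelVeryAmple_tensorPow hL hva (n + 1) (Nat.succ_pos n)) hva

end Groth.Agent.SymX
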