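import Groth.Agent.SymX.OpenPull
import Groth.Agent.SymX.VeryAmpleTwist
import Groth.Agent.QCoh.DevissageIdeal
import Groth.Agent.Proj16.RelBasic
import Mathlib.AlgebraicGeometry.Limits

/-!
# Very ampleness on the pieces of the base and of the source
-/

set_option linter.style.haveILetI false
set_option linter.unusedSectionVars false
set_option backward.isDefEq.respectTransparency false
set_option backward.isDefEq.respectTransparency.types false

noncomputable section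

universe u

open CategoryTheory CategoryTheory.Limits AlgebraicGeometry TopologicalSpace Opposite

namespace Groth.Agent.SymX

open Groth.Agent

variable {X Y : Scheme.{u}} {g : X ⟶ Y} {L : X.Modules}

theorem isSeparated_of_isRelVeryAmple (hva : RelProj.IsRelVeryAmple g L) : IsSeparated g := by
  obtain ⟨E, hE, 𝒮, j, hj, P, p, chart, hP, O1, lam, hO1, i, hii, hi, -⟩ := hva
  haveI := Proj16.isSeparated hP
  rw [← hi]
  infer_instance

/-- Very ampleness passes to subschemes. -/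
theorem isRelVeryAmple_immersion_comp {X' : Scheme.{u}} (k : X' ⟶ X) [IsImmersion k]
    (hva : RelProj.IsRelVeryAmple g L) :
    RelProj.IsRelVeryAmple (k ≫ g) ((Scheme.Modules.pullback k).obj L) := by
  obtain ⟨E, hE, 𝒮, j, hj, P, p, chart, hP, O1, lam, hO1, i, hii, hi, ⟨τ⟩⟩ := hva
  exact ⟨E, hE, 𝒮, j, hj, P, p, chart, hP, O1, lam, hO1, k ≫ i, inferInstance, by rw [Category.assoc, hi],
    ⟨(Scheme.Modules.pullback k).mapIso τ ≪≫ (Scheme.Modules.pullbackComp k i).app O1⟩⟩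

/-- Very ampleness is local on the base. -/
theorem isRelVeryAmple_iff_restrict [QuasiCompact g] {ι : Type u} (U : ι → Y.Opens) (hU : ⨆ i, U i = ⊤)
    (hL : PicF.IsInvertible L) :
    RelProj.IsRelVeryAmple g L ↔ ∀ i, RelProj.IsRelVeryAmple (g ∣_ (U i)) (L.restrict (g ⁻¹ᵁ (U i)).ι) := by
  refine ⟨fun h i => isRelVeryAmple_of_iso ((Scheme.Modules.restrictFunctorIsoPullback _).app L).symm
    (isRelVeryAmple_baseChange (isPullback_morphismRestrict g (U i)).flip h), fun h => ?_⟩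
  haveI : IsSeparated g := IsZariskiLocalAtTarget.of_iSup_eq_top (P := @IsSeparated) U hU fun i =>
    isSeparated_of_isRelVeryAmple (h i)
  refine isRelVeryAmple_of_immPoints (QCoh.isQCoh_pushforward g (ProjUPX.isQCoh_of_isInvertible hL))
    (θ := 𝟙 _) fun x => ?_
  obtain ⟨i, hi⟩ := Opens.mem_iSup.1 (hU.ge (show g x ∈ (⊤ : Y.Opens) from trivial))
  let jX := (g ⁻¹ᵁ U i).ι
  let jY := (U i).ι
  obtain ⟨E', hE', θ', hθ'⟩ := exists_immPoints_of_isRelVeryAmple (h i)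
  let x' : (g ⁻¹ᵁ U i).toScheme := ⟨x, hi⟩
  obtain ⟨U', hU', e', hxe', himm⟩ := hθ' x'
  have himg : g ⁻¹ᵁ (jY ''ᵁ U') = jX ''ᵁ ((g ∣_ U i) ⁻¹ᵁ U') := (image_morphismRestrict_preimage g (U i) U').symm
  let ψ := ((Scheme.Modules.restrictFunctorIsoPullback jX).app L).symm
  have hlift : ∀ m' : Γ(E', U'), ∃ m : Γ(L, g ⁻¹ᵁ (jY ''ᵁ U')),
      ∀ hle, AModX.res (L.restrict jX) hle (ψ.hom.app _ (InvX.pullElt jX m)) = th (g ∣_ U i) θ' m' := by
    intro m'
    refine ⟨AModX.res L himg.le (show Γ(L, jX ''ᵁ ((g ∣_ U i) ⁻¹ᵁ U')) from th (g ∣_ U i) θ' m'), fun hle => ?_⟩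
    have h1 : ψ.hom.app _ (InvX.pullElt jX
        (AModX.res L himg.le (show Γ(L, jX ''ᵁ ((g ∣_ U i) ⁻¹ᵁ U')) from th (g ∣_ U i) θ' m'))) = _ :=
      inv_app_pullElt jX L _
    rw [h1]
    refine (AModX.res_res (M := L) _ (jX.image_mono hle) _).trans ((AModX.res_res (M := L) _ _ _).trans ?_)
    exact AModX.res_self (M := L) _
  have hpre : jX ⁻¹ᵁ (g ⁻¹ᵁ (jY ''ᵁ U')) = (g ∣_ U i) ⁻¹ᵁ U' := by
    rw [himg, Scheme.Hom.preimage_image_eq]
  obtain ⟨m, hm⟩ := hlift e'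
  have heq : jX ⁻¹ᵁ AmpleX.locus m = AmpleX.locus (th (g ∣_ U i) θ' e') := by
    have h1 : AmpleX.locus (AModX.res (L.restrict jX) hpre.ge (ψ.hom.app _ (InvX.pullElt jX m))) =
        AmpleX.locus (th (g ∣_ U i) θ' e') := congrArg AmpleX.locus (hm hpre.ge)
    rw [AmpleX.locus_res, AmpleX.locus_iso, AmpleX.locus_pullElt hL] at h1
    refine Eq.trans ?_ h1
    exact (inf_eq_left.2 ((jX.preimage_mono (AmpleX.locus_le m)).trans hpre.le)).symm
  refine ⟨jY ''ᵁ U', hU'.image_of_isOpenImmersion jY, m, ?_, ?_⟩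
  · exact heq.ge hxe'
  · refine immAt_of_openImmersion (θ := 𝟙 ((Scheme.Modules.pushforward g).obj L)) jX jY
      (morphismRestrict_ι g (U i)).symm ψ U' e' m ?_ heq hpre (hm hpre.ge) (fun m' => ?_) himm
    · exact (AmpleX.locus_le m).trans (himg.le.trans (jX.image_le_opensRange _))
    · obtain ⟨m₂, hm₂⟩ := hlift m'
      exact ⟨m₂, hm₂ hpre.ge⟩

/-- Very ampleness on a disjoint union. -/
theorem isRelVeryAmple_of_disjoint {A B : Scheme.{u}} (i : A ⟶ X) (i' : B ⟶ X) [IsOpenImmersion i]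
    [IsOpenImmersion i'] (hdisj : i.opensRange ⊓ i'.opensRange = ⊥) (hcov : i.opensRange ⊔ i'.opensRange = ⊤)
    (hL : PicF.IsInvertible L) (h : RelProj.IsRelVeryAmple (i ≫ g) ((Scheme.Modules.pullback i).obj L))
    (h' : RelProj.IsRelVeryAmple (i' ≫ g) ((Scheme.Modules.pullback i').obj L)) :
    RelProj.IsRelVeryAmple g L := by
  obtain ⟨E₁, hE₁, θ₁, hθ₁⟩ := exists_immPoints_of_isRelVeryAmple h
  obtain ⟨E₂, hE₂, θ₂, hθ₂⟩ := exists_immPoints_of_isRelVeryAmple h'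
  obtain ⟨ζ₁, hζ₁⟩ := exists_extend i L i' hdisj hcov
  obtain ⟨ζ₂, hζ₂⟩ := exists_extend i' L i (by rwa [inf_comm]) (by rwa [sup_comm])
  let Efam : ULift.{u} Bool → Y.Modules := fun k => match k.down with | true => E₁ | false => E₂
  let θfam : ∀ k, Efam k ⟶ (Scheme.Modules.pushforward g).obj L := fun k => match k with
    | ⟨true⟩ => θ₁ ≫ (Scheme.Modules.pushforwardComp i g).inv.app _ ≫ (Scheme.Modules.pushforward g).map ζ₁
    | ⟨false⟩ => θ₂ ≫ (Scheme.Modules.pushforwardComp i' g).inv.app _ ≫ (Scheme.Modules.pushforward g).map ζ₂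
  haveI := CategoryTheory.Limits.HasFiniteBiproducts.of_hasFiniteCoproducts (C := Y.Modules)
  let θ := biproduct.desc θfam
  have hE : Coh.IsQCoh (⨁ Efam) := QCoh.isQCoh_biproduct Efam fun k => by
    rcases k with ⟨_ | _⟩
    · exact hE₂
    · exact hE₁
  refine isRelVeryAmple_of_immPoints hE (θ := θ) fun x => ?_
  have main : ∀ {C D : Scheme.{u}} (k : C ⟶ X) (k' : D ⟶ X) [IsOpenImmersion k] [IsOpenImmersion k']
      {F : Y.Modules} (η : F ⟶ (Scheme.Modules.pushforward (k ≫ g)).obj ((Scheme.Modules.pullback k).obj L))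
      (incl : F ⟶ ⨁ Efam), k.opensRange ⊔ k'.opensRange = ⊤ →
      (∀ (V : Y.Opens) (m : Γ(F, V)), InvX.pullElt k (th g θ (incl.app V m)) = th (k ≫ g) η m ∧
        InvX.pullElt k' (th g θ (incl.app V m)) = 0) →
      ImmPoints (k ≫ g) η → ∀ c : C, ∃ (V : Y.Opens) (_ : IsAffineOpen V) (e : Γ(⨁ Efam, V)),
        k c ∈ AmpleX.locus (th g θ e) ∧ ImmAt g θ e := by
    intro C D k k' _ _ F η incl hc hinc hη c
    obtain ⟨V, hV, e', hce', himm⟩ := hη c
    have hV' : (𝟙 Y : Y ⟶ Y) ''ᵁ V = V := Opens.ext (Set.image_id _)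
    let eU : Γ(F, (𝟙 Y : Y ⟶ Y) ''ᵁ V) := AModX.res F hV'.le e'
    have heq : k ⁻¹ᵁ AmpleX.locus (th g θ (incl.app _ eU)) = AmpleX.locus (th (k ≫ g) η e') := by
      rw [← AmpleX.locus_pullElt hL, (hinc _ eU).1, th_res]
      refine Eq.trans (AmpleX.locus_res (th (k ≫ g) η e') ((k ≫ g).preimage_mono hV'.le)) ?_
      exact inf_eq_left.2 ((AmpleX.locus_le _).trans ((k ≫ g).preimage_mono hV'.ge))
    refine ⟨(𝟙 Y : Y ⟶ Y) ''ᵁ V, hV.image_of_isOpenImmersion _, incl.app _ eU, heq.ge hce', ?_⟩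
    refine immAt_of_openImmersion (g' := k ≫ g) (θ' := η) k (𝟙 Y) (by rw [Category.comp_id])
      (Iso.refl _) V e' _ ?_ heq (congrArg (fun W => k ⁻¹ᵁ (g ⁻¹ᵁ W)) hV') ?_ (fun m' => ⟨incl.app _ (AModX.res F hV'.le m'), ?_⟩) himm
    · intro q hq
      rcases hc.ge (show q ∈ (⊤ : X.Opens) from trivial) with hq1 | hq2
      · exact hq1
      · exfalso
        obtain ⟨d, rfl⟩ := hq2
        have hd : d ∈ AmpleX.locus (InvX.pullElt k' (th g θ (incl.app _ eU))) := by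
          rw [AmpleX.locus_pullElt hL]; exact hq
        rw [(hinc _ eU).2, ← zero_smul Γ(D, k' ⁻¹ᵁ (g ⁻¹ᵁ ((𝟙 Y : Y ⟶ Y) ''ᵁ V)))
          (0 : Γ((Scheme.Modules.pullback k').obj L, k' ⁻¹ᵁ (g ⁻¹ᵁ ((𝟙 Y : Y ⟶ Y) ''ᵁ V)))),
          AmpleX.locus_smul (PicClLib.isInvertible_pullback k' hL), Scheme.basicOpen_zero] at hd
        exact hd.2
    · show AModX.res _ _ (InvX.pullElt k (th g θ (incl.app _ eU))) = _
      rw [(hinc _ eU).1, th_res]
      exact (AModX.res_res (M := (Scheme.Modules.pullback k).obj L) _ _ _).trans (AModX.res_self _)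
    · show AModX.res _ _ (InvX.pullElt k (th g θ (incl.app _ (AModX.res F hV'.le m')))) = _
      rw [(hinc _ _).1, th_res]
      exact (AModX.res_res (M := (Scheme.Modules.pullback k).obj L) _ _ _).trans (AModX.res_self _)
  rcases hcov.ge (show x ∈ (⊤ : X.Opens) from trivial) with ⟨a, rfl⟩ | ⟨b, rfl⟩
  · refine main i i' θ₁ (biproduct.ι Efam ⟨true⟩) hcov (fun V m => ?_) hθ₁ a
    rw [show th g θ ((biproduct.ι Efam ⟨true⟩).app V m) = ζ₁.app (g ⁻¹ᵁ V) (th (i ≫ g) θ₁ m) from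
      congrArg (fun χ : Efam ⟨true⟩ ⟶ _ => χ.app V m) (biproduct.ι_desc θfam ⟨true⟩)]
    exact hζ₁ _ _
  · refine main i' i θ₂ (biproduct.ι Efam ⟨false⟩) (by rwa [sup_comm]) (fun V m => ?_) hθ₂ b
    rw [show th g θ ((biproduct.ι Efam ⟨false⟩).app V m) = ζ₂.app (g ⁻¹ᵁ V) (th (i' ≫ g) θ₂ m) from
      congrArg (fun χ : Efam ⟨false⟩ ⟶ _ => χ.app V m) (biproduct.ι_desc θfam ⟨false⟩)]
    exact hζ₂ _ _

/-- Very ampleness on a coproduct. -/
theorem isRelVeryAmple_coprod_iff {A B : Scheme.{u}} (h : A ⨿ B ⟶ Y) {M : (A ⨿ B).Modules}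
    (hM : PicF.IsInvertible M) :
    RelProj.IsRelVeryAmple h M ↔
      RelProj.IsRelVeryAmple (coprod.inl ≫ h) ((Scheme.Modules.pullback (coprod.inl : A ⟶ A ⨿ B)).obj M) ∧
        RelProj.IsRelVeryAmple (coprod.inr ≫ h) ((Scheme.Modules.pullback (coprod.inr : B ⟶ A ⨿ B)).obj M) :=
  ⟨fun hv => ⟨isRelVeryAmple_immersion_comp _ hv, isRelVeryAmple_immersion_comp _ hv⟩, fun hv =>
    isRelVeryAmple_of_disjoint coprod.inl coprod.inr
      (Opens.ext (isCompl_range_inl_inr A B).disjoint.inter_eq)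
      (Opens.ext (isCompl_range_inl_inr A B).codisjoint.eq_top) hM hv.1 hv.2⟩

end Groth.Agent.SymX
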