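import Groth.Agent.SymX.ClosedSubRelProj
import Groth.Agent.Proj16.RelExist
import Groth.Agent.ConeX.Pointed
import Groth.Prelude.Def_RelProj4

/-!
# A map of relative `Proj`s over the identity as a `Proj` of a morphism over the identity
-/

set_option linter.style.haveILetI false
set_option linter.unusedSectionVars false
set_option backward.isDefEq.respectTransparency false
set_option backward.isDefEq.respectTransparency.types false
set_option maxHeartbeats 800000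

universe u

open CategoryTheory CategoryTheory.Limits AlgebraicGeometry TopologicalSpace Opposite HomogeneousLocalization
open scoped HomogeneousIdeal

noncomputable section

namespace Groth.Agent.SymX

variable {Y : Scheme.{u}}

section away

variable {𝒯 : RelProj.QCGrAlg Y}

lemma res_res {U V W : Y.Opens} (hU : IsAffineOpen U) (hV : IsAffineOpen V) (hW : IsAffineOpen W)
    (i : V ≤ U) (j : W ≤ V) (k : W ≤ U) (x : 𝒯.presheaf.obj (op U)) :
    𝒯.res hV hW j (𝒯.res hU hV i x) = 𝒯.res hU hW k x := by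
  simp only [RelProj.QCGrAlg.res_apply]
  rw [← CommRingCat.comp_apply, ← Functor.map_comp]
  rfl

lemma res_comp_res {U V W : Y.Opens} (hU : IsAffineOpen U) (hV : IsAffineOpen V) (hW : IsAffineOpen W)
    (i : V ≤ U) (j : W ≤ V) (k : W ≤ U) : (𝒯.res hV hW j).comp (𝒯.res hU hV i) = 𝒯.res hU hW k :=
  GradedRingHom.ext fun x => res_res hU hV hW i j k x

/-- The standard charts over two affine opens `V ⊆ U`, `V` basic in `U`, agree. -/
lemma awayι_res_emb_basic {P : Scheme.{u}} {p : P ⟶ Y}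
    {chart : ∀ (U : Y.Opens) (hU : IsAffineOpen U), (((p ⁻¹ᵁ U : P.Opens) : Scheme.{u}) ≅ Proj (𝒯.deg U hU))}
    (hP : RelProj.IsRelProj 𝒯 p chart) {U V : Y.Opens} (hU : IsAffineOpen U) (hV : IsAffineOpen V) (i : V ≤ U)
    (h : ∃ r : Γ(Y, U), Y.basicOpen r = V) {d : ℕ} (hd : 0 < d) (f : 𝒯.presheaf.obj (op U))
    (hf : f ∈ 𝒯.deg U hU d) :
    Proj.awayι (𝒯.deg V hV) (𝒯.res hU hV i f) ((𝒯.res hU hV i).2 hf) hd ≫ RelProj.emb p chart V hV =
      Spec.map (CommRingCat.ofHom (Away.map (𝒯.res hU hV i) f)) ≫ Proj.awayι (𝒯.deg U hU) f hf hd ≫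
        RelProj.emb p chart U hU := by
  obtain ⟨r, rfl⟩ := h
  rw [← RelProj.map_res_emb hP, Proj.awayι_comp_map_assoc _ _ hd f hf]

/-- The standard charts over two affine opens `V ⊆ U` agree. -/
lemma awayι_res_emb {P : Scheme.{u}} {p : P ⟶ Y}
    {chart : ∀ (U : Y.Opens) (hU : IsAffineOpen U), (((p ⁻¹ᵁ U : P.Opens) : Scheme.{u}) ≅ Proj (𝒯.deg U hU))}
    (hP : RelProj.IsRelProj 𝒯 p chart) {U V : Y.Opens} (hU : IsAffineOpen U) (hV : IsAffineOpen V) (i : V ≤ U)
    {d : ℕ} (hd : 0 < d) (f : 𝒯.presheaf.obj (op U)) (hf : f ∈ 𝒯.deg U hU d) :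
    Proj.awayι (𝒯.deg V hV) (𝒯.res hU hV i f) ((𝒯.res hU hV i).2 hf) hd ≫ RelProj.emb p chart V hV =
      Spec.map (CommRingCat.ofHom (Away.map (𝒯.res hU hV i) f)) ≫ Proj.awayι (𝒯.deg U hU) f hf hd ≫
        RelProj.emb p chart U hU := by
  set f' := 𝒯.res hU hV i f with hf'def
  have hf' : f' ∈ 𝒯.deg V hV d := (𝒯.res hU hV i).2 hf
  refine Scheme.hom_ext_of_forall _ _ fun z => ?_
  set y := Proj.awayι (𝒯.deg V hV) f' hf' hd z with hy
  have hyV : p (RelProj.emb p chart V hV y) ∈ V := ((chart V hV).inv y).2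
  obtain ⟨r, s, hrs, hxr⟩ := exists_basicOpen_le_affine_inter hU hV _ ⟨i hyV, hyV⟩
  set W := Y.basicOpen r with hWdef
  have hW : IsAffineOpen W := hU.basicOpen r
  have hWU : W ≤ U := Y.basicOpen_le r
  have hWV : W ≤ V := hrs.le.trans (Y.basicOpen_le s)
  have hirr := Proj16.irrelevant_le_res 𝒯 hV hW hWV ⟨s, hrs.symm⟩
  let ρ := Spec.map (CommRingCat.ofHom (Away.map (𝒯.res hV hW hWV) f'))
  haveI : IsOpenImmersion ρ := by
    show IsOpenImmersion (Spec.map _)
    obtain ⟨c, hc⟩ : ∃ c, Proj16.InvertsZero (𝒯.res hV hW hWV) c := by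
      obtain ⟨s', hs'⟩ : ∃ s' : Γ(Y, V), Y.basicOpen s' = W := ⟨s, hrs.symm⟩
      clear_value W
      subst hs'
      exact ⟨_, Proj16.res_invertsZero 𝒯 V hV s'⟩
    letI := (Away.map (𝒯.res hV hW hWV) f').toAlgebra
    haveI := hc.awayMap_isLocalization hf'
    exact IsOpenImmersion.of_isLocalization (fromZeroRingHom (𝒯.deg V hV) (Submonoid.powers f') c)
  refine ⟨ρ.opensRange, ?_, ?_⟩
  · -- the point lies over `W`
    obtain ⟨w, hw⟩ : RelProj.emb p chart V hV y ∈ Set.range (RelProj.emb p chart W hW).base := by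
      refine ⟨(chart W hW).hom ⟨RelProj.emb p chart V hV y, hxr⟩, ?_⟩
      show ((chart W hW).inv ≫ (p ⁻¹ᵁ W).ι) ((chart W hW).hom _) = _
      rw [Scheme.Hom.comp_apply, ← Scheme.Hom.comp_apply (chart W hW).hom, Iso.hom_inv_id]
      rfl
    have hw' : Proj.map (𝒯.res hV hW hWV) hirr w = y := by
      apply (RelProj.emb p chart V hV).isOpenEmbedding.injective
      rw [← hw, ← Scheme.Hom.comp_apply]
      obtain ⟨s', hs'⟩ : ∃ s' : Γ(Y, V), Y.basicOpen s' = W := ⟨s, hrs.symm⟩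
      clear_value W
      subst hs'
      exact congr($(RelProj.map_res_emb hP V hV s') w)
    have hwb := (Proj.map_preimage_basicOpen (𝒯.res hV hW hWV) hirr f').le
      (show w ∈ Proj.map (𝒯.res hV hW hWV) hirr ⁻¹ᵁ Proj.basicOpen _ f' by
        show Proj.map (𝒯.res hV hW hWV) hirr w ∈ Proj.basicOpen _ f'
        rw [hw', ← Proj.opensRange_awayι _ f' hf' hd]
        exact ⟨z, rfl⟩)
    obtain ⟨v, hv⟩ := (Proj.opensRange_awayι _ _ ((𝒯.res hV hW hWV).2 hf') hd).ge hwb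
    refine ⟨v, (Proj.awayι (𝒯.deg V hV) f' hf' hd).isOpenEmbedding.injective ?_⟩
    rw [← hy, ← hw', ← hv, ← Scheme.Hom.comp_apply, ← Scheme.Hom.comp_apply]
    exact congr($((Proj.awayι_comp_map _ hirr hd f' hf').symm) v)
  · rw [← cancel_epi ρ.isoOpensRange.hom, Scheme.Hom.isoOpensRange_hom_ι_assoc,
      Scheme.Hom.isoOpensRange_hom_ι_assoc]
    show Spec.map _ ≫ _ = Spec.map _ ≫ _
    rw [← awayι_res_emb_basic hP hV hW hWV ⟨s, hrs.symm⟩ hd f' hf', ← Spec.map_comp_assoc,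
      ← CommRingCat.ofHom_comp]
    have hcomp : (Away.map (𝒯.res hV hW hWV) f').comp (Away.map (𝒯.res hU hV i) f) =
        (Away.map ((𝒯.res hV hW hWV).comp (𝒯.res hU hV i)) f :) := by
      refine RingHom.ext fun x => ?_
      obtain ⟨n, a, ha, rfl⟩ := x.mk_surjective (𝒯.deg U hU) hf
      apply HomogeneousLocalization.val_injective
      rw [RingHom.comp_apply]
      erw [Away.map_mk, Away.map_mk, Away.map_mk]
      rfl
    rw [hcomp]
    have key : ∀ (χ : 𝒯.deg U hU →+*ᵍ 𝒯.deg W hW), χ = 𝒯.res hU hW hWU →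
        Proj.awayι (𝒯.deg W hW) (χ f) (χ.2 hf) hd ≫ RelProj.emb p chart W hW =
          Spec.map (CommRingCat.ofHom (Away.map χ f)) ≫ Proj.awayι (𝒯.deg U hU) f hf hd ≫
            RelProj.emb p chart U hU := by
      rintro χ rfl
      exact awayι_res_emb_basic hP hU hW hWU ⟨r, rfl⟩ hd f hf
    exact key ((𝒯.res hV hW hWV).comp (𝒯.res hU hV i)) (res_comp_res hU hV hW i hWV hWU)

end away

variable {𝒜 ℬ : RelProj.QCGrAlg Y} {φ : 𝒜.toQCAlg ⟶ ℬ.toQCAlg} {hφ : RelProj.IsGradedHom φ}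
  {hirr : ∀ (U : Y.Opens) (hU : IsAffineOpen U),
    (ℬ.deg U hU)₊ ≤ ((𝒜.deg U hU)₊).map (RelProj.gradedHomAt φ hφ U hU)}
  {PA PB : Scheme.{u}} {pA : PA ⟶ Y} {pB : PB ⟶ Y}
  {chartA : ∀ (U : Y.Opens) (hU : IsAffineOpen U), (((pA ⁻¹ᵁ U : PA.Opens) : Scheme.{u}) ≅ Proj (𝒜.deg U hU))}
  {chartB : ∀ (U : Y.Opens) (hU : IsAffineOpen U), (((pB ⁻¹ᵁ U : PB.Opens) : Scheme.{u}) ≅ Proj (ℬ.deg U hU))}

/-- A map of relative `Proj`s is the `Proj` of the homomorphism regarded as a morphism over the identity. -/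
theorem isProjQMap_of_isRelProjMap (hA : RelProj.IsRelProj 𝒜 pA chartA) {h : PB ⟶ PA}
    (hh : RelProj.IsRelProjMap φ hφ hirr chartA chartB h) :
    RelProj.IsProjQMap (RelProj.QGrHom.ofHom φ hφ) pA chartA pB chartB h := by
  have hemb : ∀ (U : Y.Opens) (hU : IsAffineOpen U), RelProj.emb pB chartB U hU ≫ h =
      Proj.map (RelProj.gradedHomAt φ hφ U hU) (hirr U hU) ≫ RelProj.emb pA chartA U hU := fun U hU => by
    show ((chartB U hU).inv ≫ (pB ⁻¹ᵁ U).ι) ≫ h = _ ≫ (chartA U hU).inv ≫ (pA ⁻¹ᵁ U).ι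
    rw [Category.assoc, hh U hU, Iso.inv_hom_id_assoc]
  refine ⟨top_unique fun x _ => ?_, fun U hU U' hU' hle d hd f hf => ?_⟩
  · obtain ⟨_, ⟨U, hU : IsAffineOpen U, rfl⟩, hxU, -⟩ :=
      Y.isBasis_affineOpens.exists_subset_of_mem_open (Set.mem_univ (pB x)) isOpen_univ
    refine Opens.mem_iSup.mpr ⟨⟨(⟨U, hU⟩, ⟨U, hU⟩), le_rfl⟩, (chartB U hU).hom ⟨x, hxU⟩, ?_, ?_⟩
    · refine (RelCone.mem_domOpen _ _).mpr ?_
      by_contra hcon
      push Not at hcon
      refine ((chartB U hU).hom ⟨x, hxU⟩).not_irrelevant_le ?_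
      refine (hirr U hU).trans ?_
      show Ideal.map _ _ ≤ _
      refine Ideal.map_le_iff_le_comap.mpr fun a ha => ?_
      show _ ∈ _
      have e : (RelProj.QGrHom.ofHom φ hφ).gradedAt U hU U hU le_rfl a = RelProj.gradedHomAt φ hφ U hU a := by
        show ((RelSpec.QHom.ofHom φ).appLE U U le_rfl).hom a = (φ.hom.app (op U)).hom a
        rw [RelSpec.QHom.ofHom_appLE, show (homOfLE (le_refl U)).op = 𝟙 (op U) from rfl,
          CategoryTheory.Functor.map_id, Category.comp_id]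
      exact (e ▸ hcon a ha :)
    · show ((chartB U hU).inv ≫ (pB ⁻¹ᵁ U).ι) _ = x
      rw [Scheme.Hom.comp_apply, ← Scheme.Hom.comp_apply (chartB U hU).hom, Iso.hom_inv_id]
      rfl
  · have hle' : U' ≤ U := hle
    set f' := 𝒜.res hU hU' hle' f with hf'
    have hχ : ∀ (a : 𝒜.presheaf.obj (op U)),
        (RelProj.QGrHom.ofHom φ hφ).gradedAt U hU U' hU' hle a =
          RelProj.gradedHomAt φ hφ U' hU' (𝒜.res hU hU' hle' a) := fun a => by
      show ((RelSpec.QHom.ofHom φ).appLE U U' hle).hom a =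
        (φ.hom.app (op U')).hom ((𝒜.presheaf.map (homOfLE hle').op).hom a)
      rw [RelSpec.QHom.ofHom_appLE, ← CommRingCat.comp_apply, φ.hom.naturality]
    have key : ∀ (χ : 𝒜.deg U hU →+*ᵍ ℬ.deg U' hU'),
        χ = (RelProj.gradedHomAt φ hφ U' hU').comp (𝒜.res hU hU' hle') →
        Proj.awayι (ℬ.deg U' hU') (χ f) (χ.2 hf) hd ≫ RelProj.emb pB chartB U' hU' ≫ h =
          Spec.map (CommRingCat.ofHom (Away.map χ f)) ≫ Proj.awayι (𝒜.deg U hU) f hf hd ≫
            RelProj.emb pA chartA U hU := by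
      rintro χ rfl
      rw [hemb]
      erw [Proj.awayι_comp_map_assoc (RelProj.gradedHomAt φ hφ U' hU') (hirr U' hU') hd f'
        ((𝒜.res hU hU' hle').2 hf)]
      rw [awayι_res_emb hA hU hU' hle' hd f hf, ← Spec.map_comp_assoc, ← CommRingCat.ofHom_comp]
      congr 3
      refine RingHom.ext fun x => ?_
      obtain ⟨n, a, ha, rfl⟩ := x.mk_surjective (𝒜.deg U hU) hf
      apply HomogeneousLocalization.val_injective
      rw [RingHom.comp_apply]
      erw [Away.map_mk, Away.map_mk, Away.map_mk]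
      rfl
    rw [RelProj.awayEmb, Category.assoc]
    exact key _ (GradedRingHom.ext hχ)

end Groth.Agent.SymX
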