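import Groth.Agent.Proj16.RLPsi
import Groth.Agent.AmpleX.Sect
import Groth.Agent.AmpleX.Extend

/-!
# Sections of tensor powers of an invertible module in its symmetric algebra
-/

universe u

open CategoryTheory CategoryTheory.Limits AlgebraicGeometry TopologicalSpace Opposite MonoidalCategory

set_option backward.isDefEq.respectTransparency false
set_option backward.isDefEq.respectTransparency.types false
set_option linter.style.haveILetI false
set_option linter.unusedSectionVars false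

noncomputable section

namespace Groth.Agent.SymX

open Groth.Agent

variable {X : Scheme.{u}}

section mul

variable {A : RelSpec.QCAlg X} {M N : X.Modules}

/-- A section of the module of an algebra, as an element of the algebra. -/
abbrev toA {U : X.Opens} (x : Γ(A.toModule, U)) : A.presheaf.obj (op U) := x

/-- An element of the algebra, as a section of its module. -/
abbrev ofA {U : X.Opens} (x : A.presheaf.obj (op U)) : Γ(A.toModule, U) := x

/-- The product of the images of two sections. -/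
abbrev prodSec (a : M ⟶ A.toModule) (b : N ⟶ A.toModule) {U : X.Opens} (s : Γ(M, U)) (t : Γ(N, U)) :
    Γ(A.toModule, U) := ofA (toA (a.app U s) * toA (b.app U t))

lemma prodSec_add_left (a : M ⟶ A.toModule) (b : N ⟶ A.toModule) {U : X.Opens} (s s' : Γ(M, U)) (t : Γ(N, U)) :
    prodSec a b (s + s') t = prodSec a b s t + prodSec a b s' t :=
  (congrArg (fun z => ofA (toA z * toA (b.app U t))) (map_add (a.app U).hom s s')).trans
    (add_mul (toA (a.app U s)) (toA (a.app U s')) (toA (b.app U t)))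

lemma prodSec_add_right (a : M ⟶ A.toModule) (b : N ⟶ A.toModule) {U : X.Opens} (s : Γ(M, U)) (t t' : Γ(N, U)) :
    prodSec a b s (t + t') = prodSec a b s t + prodSec a b s t' :=
  (congrArg (fun z => ofA (toA (a.app U s) * toA z)) (map_add (b.app U).hom t t')).trans
    (mul_add (toA (a.app U s)) (toA (b.app U t)) (toA (b.app U t')))

lemma prodSec_smul_left (a : M ⟶ A.toModule) (b : N ⟶ A.toModule) {U : X.Opens} (r : Γ(X, U)) (s : Γ(M, U))
    (t : Γ(N, U)) : prodSec a b (r • s) t = r • prodSec a b s t :=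
  (congrArg (fun z => ofA (toA z * toA (b.app U t))) (Scheme.Modules.Hom.app_smul a r s)).trans
    (mul_assoc ((A.str.app (op U)).hom r) (toA (a.app U s)) (toA (b.app U t)))

lemma prodSec_smul_right (a : M ⟶ A.toModule) (b : N ⟶ A.toModule) {U : X.Opens} (r : Γ(X, U)) (s : Γ(M, U))
    (t : Γ(N, U)) : prodSec a b s (r • t) = r • prodSec a b s t :=
  (congrArg (fun z => ofA (toA (a.app U s) * toA z)) (Scheme.Modules.Hom.app_smul b r t)).trans
    (mul_left_comm (toA (a.app U s)) ((A.str.app (op U)).hom r) (toA (b.app U t)))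

lemma prodSec_res (a : M ⟶ A.toModule) (b : N ⟶ A.toModule) {U V : X.Opens} (h : V ≤ U) (s : Γ(M, U))
    (t : Γ(N, U)) :
    prodSec a b (AModX.res M h s) (AModX.res N h t) = AModX.res A.toModule h (prodSec a b s t) :=
  (congrArg₂ (fun z w => ofA (toA z * toA w)) (AModX.app_res a h s) (AModX.app_res b h t)).trans
    (map_mul (A.presheaf.map (homOfLE h).op).hom _ _).symm

/-- The product of two maps into an algebra, before sheafification. -/
def mulPre (a : M ⟶ A.toModule) (b : N ⟶ A.toModule) :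
    DCoh.toP.obj M ⊗ DCoh.toP.obj N ⟶ DCoh.toP.obj A.toModule where
  app U := ModuleCat.MonoidalCategory.tensorLift
    (fun s t => prodSec a b (U := U.unop) s t)
    (fun s s' t => prodSec_add_left a b (U := U.unop) s s' t)
    (fun r s t => prodSec_smul_left a b (U := U.unop) r s t)
    (fun s t t' => prodSec_add_right a b (U := U.unop) s t t')
    (fun r s t => prodSec_smul_right a b (U := U.unop) r s t)
  naturality {U V} i := by
    refine ModuleCat.MonoidalCategory.tensor_ext fun s t => ?_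
    exact prodSec_res a b i.unop.le s t

/-- The product of two maps into an algebra. -/
def mulMap (a : M ⟶ A.toModule) (b : N ⟶ A.toModule) : CohB1.tensorMod M N ⟶ A.toModule :=
  ((PresheafOfModules.sheafificationAdjunction (𝟙 X.ringCatSheaf.obj)).homEquiv _ _).symm (mulPre a b)

lemma mulMap_tmul (a : M ⟶ A.toModule) (b : N ⟶ A.toModule) {U : X.Opens} (s : Γ(M, U)) (t : Γ(N, U)) :
    (show A.presheaf.obj (op U) from (mulMap a b).app U (InvX.tmul s t)) =
      (show A.presheaf.obj (op U) from a.app U s) * (show A.presheaf.obj (op U) from b.app U t) := by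
  have h := ((PresheafOfModules.sheafificationAdjunction (𝟙 X.ringCatSheaf.obj)).homEquiv _
    _).apply_symm_apply (mulPre a b)
  show toA ((mulMap a b).app U (InvX.tmul s t)) = toA (prodSec a b s t)
  exact congrArg (fun w : DCoh.toP.obj M ⊗ DCoh.toP.obj N ⟶ _ => w.app (op U) (KFlatLib.tm s t)) h

variable (A) in
/-- The unit of an algebra as a map of modules. -/
def oneMap : Coh.structureModule X ⟶ A.toModule :=
  (SheafOfModules.unitHomEquiv _).symm
    ⟨fun U => (show A.presheaf.obj U from 1), fun i => map_one (A.presheaf.map i).hom⟩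

lemma oneMap_one (U : X.Opens) :
    (show A.presheaf.obj (op U) from (oneMap A).app U (show Γ(Coh.structureModule X, U) from (1 : Γ(X, U)))) = 1 := by
  refine Eq.trans (b := (A.str.app (op U)).hom (1 : Γ(X, U)) * 1) rfl ?_
  rw [map_one, mul_one]

lemma toModule_ext {U : X.Opens} (a b : A.presheaf.obj (op U))
    (h : ∀ x ∈ U, ∃ (V : X.Opens) (i : V ≤ U), x ∈ V ∧
      (A.presheaf.map (homOfLE i).op).hom a = (A.presheaf.map (homOfLE i).op).hom b) : a = b :=
  AModX.eq_of_locally (M := A.toModule) (ofA a) (ofA b) h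

end mul

section deg

variable (𝒮 : RelProj.QCGrAlg X)

/-- Being homogeneous is local. -/
theorem mem_deg_of_cover {U : X.Opens} (hU : IsAffineOpen U) (d : ℕ) (x : 𝒮.presheaf.obj (op U))
    (h : ∀ p ∈ U, ∃ (V : X.Opens) (hV : IsAffineOpen V) (i : V ≤ U), p ∈ V ∧ 𝒮.res hU hV i x ∈ 𝒮.deg V hV d) :
    x ∈ 𝒮.deg U hU d := by
  have : (DirectSum.decompose (𝒮.deg U hU) x d : 𝒮.presheaf.obj (op U)) = x := by
    refine toModule_ext (A := 𝒮.toQCAlg) _ _ fun p hp => ?_
    obtain ⟨V, hV, i, hpV, hd⟩ := h p hp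
    refine ⟨V, i, hpV, ?_⟩
    show 𝒮.res hU hV i _ = 𝒮.res hU hV i x
    refine Eq.trans (map_directSumDecompose (𝒮.deg U hU) (𝒮.deg V hV) (𝒮.res hU hV i)) ?_
    rw [DirectSum.decompose_of_mem_same _ hd]
  exact this ▸ SetLike.coe_mem _

end deg

variable {L : X.Modules} {𝒮L : RelProj.QCGrAlg X}

/-- The map of the tensor powers into the symmetric algebra. -/
def powMap (j : L ⟶ 𝒮L.toModule) : ∀ n, CohB1.tensorPow L n ⟶ 𝒮L.toModule
  | 0 => oneMap 𝒮L.toQCAlg
  | n + 1 => mulMap (A := 𝒮L.toQCAlg) (powMap j n) j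

/-- The element of a section of a tensor power. -/
def elt (j : L ⟶ 𝒮L.toModule) {n : ℕ} {W : X.Opens} (a : Γ(CohB1.tensorPow L n, W)) : 𝒮L.presheaf.obj (op W) :=
  (powMap j n).app W a

variable (j : L ⟶ 𝒮L.toModule) {n : ℕ}

lemma elt_res {W V : X.Opens} (h : V ≤ W) (a : Γ(CohB1.tensorPow L n, W)) :
    elt j (AModX.res _ h a) = (𝒮L.presheaf.map (homOfLE h).op).hom (elt j a) :=
  AModX.app_res (powMap j n) h a

lemma elt_smul {W : X.Opens} (c : Γ(X, W)) (a : Γ(CohB1.tensorPow L n, W)) :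
    elt j (c • a) = (𝒮L.str.app (op W)).hom c * elt j a :=
  Scheme.Modules.Hom.app_smul (powMap j n) c a

lemma elt_powElt {W : X.Opens} (e : Γ(L, W)) :
    ∀ n, elt j (AmpleX.powElt e n) = (show 𝒮L.presheaf.obj (op W) from j.app W e) ^ n
  | 0 => (oneMap_one (A := 𝒮L.toQCAlg) W).trans (pow_zero _).symm
  | n + 1 => (mulMap_tmul (A := 𝒮L.toQCAlg) (powMap j n) j _ e).trans
      ((congrArg (· * _) (elt_powElt e n)).trans (pow_succ _ n).symm)

variable {j} (hL : PicF.IsInvertible L) (hLq : Coh.IsQCoh L) (hj : RelProj.IsGrSymAlg L 𝒮L j)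
include hj

/-- Near every point a section of a tensor power is a multiple of the power of a frame. -/
theorem exists_local_frame (hL : PicF.IsInvertible L) {W : X.Opens} (a : Γ(CohB1.tensorPow L n, W)) {x : X} (hx : x ∈ W) :
    ∃ (V : X.Opens) (_ : IsAffineOpen V) (i : V ≤ W) (e : Γ(L, V)) (c : Γ(X, V)),
      x ∈ V ∧ InvX.IsFrame e ∧ AModX.res _ i a = c • AmpleX.powElt e n := by
  obtain ⟨U, hxU, e, he⟩ := InvX.exists_frame hL x
  obtain ⟨_, ⟨V, hV, rfl⟩, hxV, hVsub⟩ := X.isBasis_affineOpens.exists_subset_of_mem_open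
    (a := x) (u := ((U ⊓ W : X.Opens) : Set X)) ⟨hxU, hx⟩ (U ⊓ W).isOpen
  have iU : V ≤ U := fun y hy => (hVsub hy).1
  have iW : V ≤ W := fun y hy => (hVsub hy).2
  have he' := he.res iU
  obtain ⟨c, hc⟩ := (AmpleX.isFrame_powElt he' n).exists_coord le_rfl (AModX.res _ iW a)
  rw [AModX.res_self] at hc
  exact ⟨V, hV, iW, _, c, hxV, he', hc⟩

/-- The element of a section in the coordinates of a frame. -/
theorem res_elt_of_coord {W V : X.Opens} (i : V ≤ W) {a : Γ(CohB1.tensorPow L n, W)} {e : Γ(L, V)} {c : Γ(X, V)}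
    (h : AModX.res _ i a = c • AmpleX.powElt e n) :
    (𝒮L.presheaf.map (homOfLE i).op).hom (elt j a) =
      (𝒮L.str.app (op V)).hom c * (show 𝒮L.presheaf.obj (op V) from j.app V e) ^ n := by
  rw [← elt_res, h, elt_smul, elt_powElt]

include hL in
/-- The element of a section is homogeneous. -/
theorem elt_mem {V : X.Opens} (hV : IsAffineOpen V) (a : Γ(CohB1.tensorPow L n, V)) :
    elt j a ∈ 𝒮L.deg V hV n := by
  refine mem_deg_of_cover 𝒮L hV n _ fun x hx => ?_
  obtain ⟨V', hV', i, e, c, hxV', -, hc⟩ := exists_local_frame hj hL a hx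
  refine ⟨V', hV', i, hxV', ?_⟩
  rw [show 𝒮L.res hV hV' i (elt j a) = _ from res_elt_of_coord hj i hc]
  simpa only [zero_add, smul_eq_mul, mul_one] using
    SetLike.mul_mem_graded (𝒮L.str_mem V' hV' c) (SetLike.pow_mem_graded n (hj.2 V' hV' e))

include hL in
/-- The restrictions of the element of a section are homogeneous. -/
theorem res_elt_mem {W V : X.Opens} (hV : IsAffineOpen V) (i : V ≤ W) (a : Γ(CohB1.tensorPow L n, W)) :
    (𝒮L.presheaf.map (homOfLE i).op).hom (elt j a) ∈ 𝒮L.deg V hV n := by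
  rw [← elt_res]
  exact elt_mem hL hj hV _

variable {PL : Scheme.{u}} {pL : PL ⟶ X}
  {chartL : ∀ (U : X.Opens) (hU : IsAffineOpen U), (((pL ⁻¹ᵁ U : PL.Opens) : Scheme.{u}) ≅ Proj (𝒮L.deg U hU))}

include hL hLq in
/-- The standard open of the element of a section is the locus of the section. -/
theorem mem_basicOpen_elt_iff (hPL : RelProj.IsRelProj 𝒮L pL chartL) (hn : 0 < n) {W V : X.Opens}
    (hV : IsAffineOpen V) (i : V ≤ W) (a : Γ(CohB1.tensorPow L n, W)) (z : Proj (𝒮L.deg V hV)) :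
    z ∈ Proj.basicOpen (𝒮L.deg V hV) ((𝒮L.presheaf.map (homOfLE i).op).hom (elt j a)) ↔
      pL (RelProj.emb pL chartL V hV z) ∈ AmpleX.locus a := by
  let C := (nonempty_chartwise hLq hj).some
  obtain ⟨d, rfl⟩ : ∃ d, n = d + 1 := ⟨n - 1, by omega⟩
  have hxV : pL (RelProj.emb pL chartL V hV z) ∈ V :=
    (Proj16.opensRange_emb (p := pL) (chart := chartL) V hV).le ⟨z, rfl⟩
  obtain ⟨V', hV', i', e, c, hxV', he, hc⟩ := exists_local_frame hj hL (AModX.res _ i a) hxV
  obtain ⟨w, hw⟩ := (Proj16.opensRange_emb (p := pL) (chart := chartL) V' hV').ge hxV'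
  rw [← Proj16.mem_basicOpen_iff_res hPL hV hV' i' w z hw]
  rw [show 𝒮L.res hV hV' i' ((𝒮L.presheaf.map (homOfLE i).op).hom (elt j a)) = _ from
    (congrArg (𝒮L.res hV hV' i') (elt_res j i a).symm).trans (res_elt_of_coord hj i' hc)]
  have hwe : w ∈ Proj.basicOpen (𝒮L.deg V' hV') (show 𝒮L.presheaf.obj (op V') from j.app V' e) := by
    rw [show Proj.basicOpen (𝒮L.deg V' hV') (show 𝒮L.presheaf.obj (op V') from j.app V' e) = ⊤ from
      basicOpen_frame_eq_top C V' hV' he]
    trivial
  have h1 := Proj16.mem_basicOpen_str_mul_iff hPL hV' (hj.2 V' hV' e) c w hwe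
  rw [hw] at h1
  have h2 : AmpleX.locus (AModX.res _ i a) ⊓ V' = X.basicOpen c :=
    AmpleX.locus_inf _ i' (AmpleX.isFrame_powElt he _) hc
  rw [AmpleX.locus_res] at h2
  rw [← h2] at h1
  have h3 : pL (RelProj.emb pL chartL V hV z) ∈ AmpleX.locus a ↔
      pL (RelProj.emb pL chartL V hV z) ∈ AmpleX.locus a ⊓ V ⊓ V' :=
    ⟨fun h => ⟨⟨h, hxV⟩, hxV'⟩, fun h => h.1.1⟩
  rw [h3, ← h1, Proj.basicOpen_mul, Proj.basicOpen_mul, Proj.basicOpen_pow _ _ _ (Nat.succ_pos d)]

end Groth.Agent.SymX
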