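import Groth.Agent.SymX.PowElt
import Groth.Agent.QCoh.Localize
import Groth.Agent.QCoh.Qcqs

/-!
# Sections of the symmetric algebra of an invertible module and the locus of a section
-/

universe u

open CategoryTheory CategoryTheory.Limits AlgebraicGeometry TopologicalSpace Opposite

set_option backward.isDefEq.respectTransparency false
set_option backward.isDefEq.respectTransparency.types false
set_option linter.style.haveILetI false
set_option linter.unusedSectionVars false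

noncomputable section

namespace Groth.Agent.SymX

open Groth.Agent

variable {X : Scheme.{u}} {L : X.Modules} {𝒮L : RelProj.QCGrAlg X}

/-- Homogeneous of degree `N` over every affine open inside. -/
def IsHomOn (𝒮L : RelProj.QCGrAlg X) (W : X.Opens) (N : ℕ) (τ : 𝒮L.presheaf.obj (op W)) : Prop :=
  ∀ (V : X.Opens) (hV : IsAffineOpen V) (i : V ≤ W), (𝒮L.presheaf.map (homOfLE i).op).hom τ ∈ 𝒮L.deg V hV N

variable {j : L ⟶ 𝒮L.toModule} (hL : PicF.IsInvertible L) (hLq : Coh.IsQCoh L) (hj : RelProj.IsGrSymAlg L 𝒮L j)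

lemma map_map {U V W : X.Opens} (h : V ≤ U) (k : W ≤ V) (l : W ≤ U) (x : 𝒮L.presheaf.obj (op U)) :
    (𝒮L.presheaf.map (homOfLE k).op).hom ((𝒮L.presheaf.map (homOfLE h).op).hom x) =
      (𝒮L.presheaf.map (homOfLE l).op).hom x := by
  rw [← CommRingCat.comp_apply, ← 𝒮L.presheaf.map_comp]
  rfl

lemma map_str {U V : X.Opens} (h : V ≤ U) (c : Γ(X, U)) :
    (𝒮L.presheaf.map (homOfLE h).op).hom ((𝒮L.str.app (op U)).hom c) =
      (𝒮L.str.app (op V)).hom (AModX.resR h c) :=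
  (ConcreteCategory.congr_hom (𝒮L.str.naturality (homOfLE h).op) c).symm

lemma map_j {U V : X.Opens} (h : V ≤ U) (e : Γ(L, U)) :
    (𝒮L.presheaf.map (homOfLE h).op).hom (show 𝒮L.presheaf.obj (op U) from j.app U e) =
      (show 𝒮L.presheaf.obj (op V) from j.app V (AModX.res L h e)) :=
  (AModX.app_res j h e).symm

lemma IsHomOn.res {W W' : X.Opens} {N : ℕ} {τ : 𝒮L.presheaf.obj (op W)} (h : IsHomOn 𝒮L W N τ) (i : W' ≤ W) :
    IsHomOn 𝒮L W' N ((𝒮L.presheaf.map (homOfLE i).op).hom τ) := fun V hV k => by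
  rw [map_map i k (k.trans i)]
  exact h V hV _

lemma IsHomOn.sub {W : X.Opens} {N : ℕ} {τ τ' : 𝒮L.presheaf.obj (op W)} (h : IsHomOn 𝒮L W N τ)
    (h' : IsHomOn 𝒮L W N τ') : IsHomOn 𝒮L W N (τ - τ') := fun V hV i => by
  rw [map_sub]
  exact sub_mem (h V hV i) (h' V hV i)

include hLq hj in
lemma exists_coeff {V : X.Opens} (hV : IsAffineOpen V) {e : Γ(L, V)} (he : InvX.IsFrame e) {N : ℕ}
    {y : 𝒮L.presheaf.obj (op V)} (hy : y ∈ 𝒮L.deg V hV N) :
    ∃ r : Γ(X, V), y = (𝒮L.str.app (op V)).hom r * (show 𝒮L.presheaf.obj (op V) from j.app V e) ^ N := by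
  let C := (nonempty_chartwise hLq hj).some
  let φ := (C.φ ⟨V, hV⟩).commRingCatIsoToRingEquiv
  have hbij : Function.Bijective fun r : Γ(X, V) => r • e := by
    have := he V le_rfl
    simpa only [AModX.res_self] using this
  obtain ⟨r, hr⟩ := mem_symDeg_span hbij.2 ((C.deg_iff ⟨V, hV⟩ N y).1 hy)
  refine ⟨r, φ.injective (hr.trans ?_)⟩
  rw [map_mul, map_pow]
  exact congr_arg₂ (· * ·) congr($(C.str ⟨V, hV⟩).hom r).symm (congrArg (· ^ N) (C.j_app ⟨V, hV⟩ e).symm)

include hLq hj in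
lemma coeff_eq_zero {V : X.Opens} (hV : IsAffineOpen V) {e : Γ(L, V)} (he : InvX.IsFrame e) {N : ℕ} {r : Γ(X, V)}
    (h : (𝒮L.str.app (op V)).hom r * (show 𝒮L.presheaf.obj (op V) from j.app V e) ^ N = 0) : r = 0 := by
  let C := (nonempty_chartwise hLq hj).some
  let φ := (C.φ ⟨V, hV⟩).commRingCatIsoToRingEquiv
  have hbij : Function.Bijective fun r : Γ(X, V) => r • e := by
    have := he V le_rfl
    simpa only [AModX.res_self] using this
  refine eq_zero_of_mul_pow hbij (n := N) ?_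
  have h' := congrArg φ h
  rw [map_mul, map_pow, map_zero] at h'
  refine Eq.trans ?_ h'
  exact congr_arg₂ (· * ·) congr($(C.str ⟨V, hV⟩).hom r).symm (congrArg (· ^ N) (C.j_app ⟨V, hV⟩ e).symm)

include hL hj in
/-- A finite family of affine frames for a section. -/
lemma exists_finite_frames {n : ℕ} {W : X.Opens} (hW : IsCompact (W : Set X)) (a : Γ(CohB1.tensorPow L n, W)) :
    ∃ (ι : Type u) (_ : Fintype ι) (V : ι → X.Opens) (_ : ∀ x, IsAffineOpen (V x)) (i : ∀ x, V x ≤ W)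
      (e : ∀ x, Γ(L, V x)) (c : ∀ x, Γ(X, V x)),
      (∀ p ∈ W, ∃ x, p ∈ V x) ∧ (∀ x, InvX.IsFrame (e x)) ∧
        (∀ x, AModX.res _ (i x) a = c x • AmpleX.powElt (e x) n) := by
  classical
  choose V hV i e c hx he hc using fun x : (W : Set X) => exists_local_frame hj hL a x.2
  obtain ⟨S, hS⟩ := hW.elim_finite_subcover (fun x => (V x : Set X)) (fun x => (V x).2)
    (fun p hp => Set.mem_iUnion.2 ⟨⟨p, hp⟩, hx ⟨p, hp⟩⟩)
  refine ⟨S, inferInstance, fun x => V x.1, fun x => hV x.1, fun x => i x.1, fun x => e x.1, fun x => c x.1,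
    fun p hp => ?_, fun x => he x.1, fun x => hc x.1⟩
  obtain ⟨x, hxS, hpx⟩ := Set.mem_iUnion₂.1 (hS hp)
  exact ⟨⟨x, hxS⟩, hpx⟩

include hL hLq hj in
/-- A homogeneous element vanishing on the locus of a section is killed by a power of it. -/
theorem exists_pow_mul_eq_zero {n N : ℕ} {W : X.Opens} (hW : IsCompact (W : Set X))
    (a : Γ(CohB1.tensorPow L n, W)) (τ : 𝒮L.presheaf.obj (op W)) (hτ : IsHomOn 𝒮L W N τ)
    (h0 : (𝒮L.presheaf.map (homOfLE (AmpleX.locus_le a)).op).hom τ = 0) :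
    ∃ k : ℕ, elt j a ^ k * τ = 0 := by
  classical
  obtain ⟨ι, hι, V, hV, i, e, c, hcov, he, hc⟩ := exists_finite_frames hL hj hW a
  have key : ∀ x, ∃ k : ℕ, (𝒮L.presheaf.map (homOfLE (i x)).op).hom (elt j a ^ k * τ) = 0 := by
    intro x
    obtain ⟨δ, hδ⟩ := exists_coeff hLq hj (hV x) (he x) (hτ (V x) (hV x) (i x))
    have hD : X.basicOpen (c x) ≤ AmpleX.locus a :=
      (AmpleX.locus_inf a (i x) (AmpleX.isFrame_powElt (he x) n) (hc x)).ge.trans inf_le_left
    have h1 : AModX.resR (X.basicOpen_le (c x)) δ = 0 := by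
      refine coeff_eq_zero hLq hj ((hV x).basicOpen (c x)) ((he x).res (X.basicOpen_le (c x))) (N := N) ?_
      rw [← map_str, ← map_j, ← map_pow, ← map_mul, ← hδ, map_map (i x) _ (hD.trans (AmpleX.locus_le a)),
        ← map_map (AmpleX.locus_le a) hD, h0, map_zero]
    obtain ⟨k, hk⟩ := QCoh.exists_pow_smul_eq_zero_of_isCompact (M := Coh.structureModule X) (AmpleX.isQCoh_one X)
      (hV x).isCompact (c x) (show Γ(Coh.structureModule X, V x) from δ) h1
    refine ⟨k, ?_⟩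
    have hk' : c x ^ k * δ = 0 := hk
    rw [map_mul, map_pow, res_elt_of_coord hj (i x) (hc x), hδ, mul_pow, ← map_pow,
      mul_mul_mul_comm, ← map_mul, hk', map_zero, zero_mul]
  choose k hk using key
  refine ⟨Finset.univ.sup k, toModule_ext (A := 𝒮L.toQCAlg) _ _ fun p hp => ?_⟩
  obtain ⟨x, hpx⟩ := hcov p hp
  refine ⟨V x, i x, hpx, ?_⟩
  obtain ⟨l, hl⟩ := Nat.exists_eq_add_of_le (Finset.le_sup (f := k) (Finset.mem_univ x))
  rw [hl, pow_add, mul_comm (elt j a ^ k x) (elt j a ^ l), mul_assoc, map_mul, hk x, mul_zero, map_zero]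

include hL hLq hj in
/-- A function on the affine locus of a section is a quotient of a homogeneous element by a power of it. -/
theorem exists_mul_pow_eq_res {n : ℕ} {W : X.Opens} (hW : IsCompact (W : Set X))
    (hWs : IsQuasiSeparated (W : Set X)) (a : Γ(CohB1.tensorPow L n, W))
    (b : Γ(X, AmpleX.locus a)) :
    ∃ (m : ℕ) (_ : 0 < m) (τ : 𝒮L.presheaf.obj (op W)), IsHomOn 𝒮L W (m * n) τ ∧
      (𝒮L.presheaf.map (homOfLE (AmpleX.locus_le a)).op).hom τ =
        (𝒮L.str.app (op (AmpleX.locus a))).hom b *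
          (𝒮L.presheaf.map (homOfLE (AmpleX.locus_le a)).op).hom (elt j a) ^ m := by
  classical
  obtain ⟨ι, hι, V, hV, i, e, c, hcov, he, hc⟩ := exists_finite_frames hL hj hW a
  have hDV : ∀ x, AmpleX.locus a ⊓ V x = X.basicOpen (c x) := fun x =>
    AmpleX.locus_inf a (i x) (AmpleX.isFrame_powElt (he x) n) (hc x)
  have hD : ∀ x, X.basicOpen (c x) ≤ AmpleX.locus a := fun x => (hDV x).ge.trans inf_le_left
  choose nx d₀ hd₀ using fun x => QCoh.exists_pow_smul_eq_map (M := Coh.structureModule X) (AmpleX.isQCoh_one X)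
    (hV x) (c x) (show Γ(Coh.structureModule X, X.basicOpen (c x)) from AModX.resR (hD x) b)
  let m := Finset.univ.sup nx + 1
  obtain ⟨d, hd⟩ : ∃ d : ∀ x, Γ(X, V x), ∀ x, AModX.resR (X.basicOpen_le (c x)) (d x) =
      AModX.resR (X.basicOpen_le (c x)) (c x) ^ m * AModX.resR (hD x) b := by
    refine ⟨fun x => c x ^ (m - nx x) * (show Γ(X, V x) from d₀ x), fun x => ?_⟩
    rw [map_mul, map_pow]
    refine (congrArg (_ * ·) (show AModX.resR (X.basicOpen_le (c x)) (show Γ(X, V x) from d₀ x) =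
      AModX.resR (X.basicOpen_le (c x)) (c x) ^ nx x * AModX.resR (hD x) b from hd₀ x)).trans ?_
    rw [← mul_assoc, ← pow_add, Nat.sub_add_cancel]
    exact (Finset.le_sup (f := nx) (Finset.mem_univ x)).trans (Nat.le_succ _)
  obtain ⟨τ₀, hτdef⟩ : ∃ τ₀ : ∀ x, 𝒮L.presheaf.obj (op (V x)), ∀ x, τ₀ x =
      (𝒮L.str.app (op (V x))).hom (d x) * (show 𝒮L.presheaf.obj (op (V x)) from j.app (V x) (e x)) ^ (m * n) :=
    ⟨_, fun _ => rfl⟩
  have hτ₀ : ∀ x (U : X.Opens) (h : U ≤ V x) (h' : U ≤ AmpleX.locus a),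
      (𝒮L.presheaf.map (homOfLE h).op).hom (τ₀ x) = (𝒮L.str.app (op U)).hom (AModX.resR h' b) *
        (𝒮L.presheaf.map (homOfLE (h'.trans (AmpleX.locus_le a))).op).hom (elt j a) ^ m := by
    intro x U h h'
    have hU : U ≤ X.basicOpen (c x) := (le_inf h' h).trans (hDV x).le
    have e1 : AModX.resR h (d x) = AModX.resR h (c x) ^ m * AModX.resR h' b := by
      have := congrArg (AModX.resR hU) (hd x)
      rwa [map_mul, map_pow, AModX.resR_resR, AModX.resR_resR, AModX.resR_resR] at this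
    have e2 : (𝒮L.presheaf.map (homOfLE (h'.trans (AmpleX.locus_le a))).op).hom (elt j a) =
        (𝒮L.str.app (op U)).hom (AModX.resR h (c x)) *
          (𝒮L.presheaf.map (homOfLE h).op).hom (show 𝒮L.presheaf.obj (op (V x)) from j.app (V x) (e x)) ^ n := by
      rw [← map_map (i x) h (h'.trans (AmpleX.locus_le a)), res_elt_of_coord hj (i x) (hc x), map_mul, map_str,
        map_pow]
    rw [hτdef, map_mul, map_str, map_pow, e1, e2, map_mul, map_pow, mul_pow, ← pow_mul, mul_comm n m]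
    ring
  have hhom : ∀ x, IsHomOn 𝒮L (V x) (m * n) (τ₀ x) := fun x U hU k => by
    have hmem : τ₀ x ∈ 𝒮L.deg (V x) (hV x) (m * n) := by
      rw [hτdef]
      simpa only [zero_add, smul_eq_mul, mul_one] using
        SetLike.mul_mem_graded (𝒮L.str_mem (V x) (hV x) (d x))
          (SetLike.pow_mem_graded (m * n) (hj.2 (V x) (hV x) (e x)))
    exact 𝒮L.map_mem (hV x) hU k hmem
  have hdiff : ∀ x y, ∃ k : ℕ,
      (𝒮L.presheaf.map (homOfLE ((inf_le_left : V x ⊓ V y ≤ V x).trans (i x))).op).hom (elt j a) ^ k *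
        ((𝒮L.presheaf.map (homOfLE (inf_le_left : V x ⊓ V y ≤ V x)).op).hom (τ₀ x) -
          (𝒮L.presheaf.map (homOfLE (inf_le_right : V x ⊓ V y ≤ V y)).op).hom (τ₀ y)) = 0 := by
    intro x y
    let U := V x ⊓ V y
    have hU : IsCompact (U : Set X) := hWs (V x) (V y) (fun p hp => i x hp) (V x).2 (hV x).isCompact
      (fun p hp => i y hp) (V y).2 (hV y).isCompact
    have hUW : U ≤ W := (inf_le_left : U ≤ V x).trans (i x)
    obtain ⟨k, hk⟩ := exists_pow_mul_eq_zero hL hLq hj hU (AModX.res _ hUW a) _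
      (((hhom x).res (inf_le_left : U ≤ V x)).sub ((hhom y).res (inf_le_right : U ≤ V y))) (by
      have hl : AmpleX.locus (AModX.res _ hUW a) ≤ AmpleX.locus a := by
        rw [AmpleX.locus_res]; exact inf_le_left
      rw [map_sub, map_map _ _ ((AmpleX.locus_le _).trans inf_le_left),
        map_map _ _ ((AmpleX.locus_le _).trans inf_le_right), hτ₀ x _ _ hl, hτ₀ y _ _ hl, sub_self])
    refine ⟨k, ?_⟩
    rw [elt_res] at hk
    exact hk
  choose k hk using hdiff
  let K := (Finset.univ : Finset (ι × ι)).sup fun p => k p.1 p.2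
  obtain ⟨τ, hτ, -⟩ := AModX.existsUnique_glue (M := 𝒮L.toQCAlg.toModule) (V := W) V i hcov
    (fun x => ofA (A := 𝒮L.toQCAlg) ((𝒮L.presheaf.map (homOfLE (i x)).op).hom (elt j a) ^ K * τ₀ x))
    (fun x y => by
      show (𝒮L.presheaf.map (homOfLE (inf_le_left : V x ⊓ V y ≤ V x)).op).hom _ =
        (𝒮L.presheaf.map (homOfLE (inf_le_right : V x ⊓ V y ≤ V y)).op).hom _
      obtain ⟨l, hl⟩ := Nat.exists_eq_add_of_le (Finset.le_sup (f := fun p : ι × ι => k p.1 p.2)
        (Finset.mem_univ (x, y)))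
      rw [map_mul, map_mul, map_pow, map_pow, map_map (i x) _ ((inf_le_left : V x ⊓ V y ≤ V x).trans (i x)),
        map_map (i y) _ ((inf_le_left : V x ⊓ V y ≤ V x).trans (i x)), ← sub_eq_zero, ← mul_sub]
      show _ ^ K * _ = 0
      rw [show K = k x y + l from hl, pow_add, mul_comm (_ ^ k x y) (_ ^ l), mul_assoc, hk x y, mul_zero])
  have hτ' : ∀ x, (𝒮L.presheaf.map (homOfLE (i x)).op).hom τ =
      (𝒮L.presheaf.map (homOfLE (i x)).op).hom (elt j a) ^ K * τ₀ x := hτ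
  refine ⟨m + K, Nat.add_pos_left (Nat.succ_pos _) _, τ, fun U hU hUW => ?_, ?_⟩
  · refine mem_deg_of_cover 𝒮L hU _ _ fun p hp => ?_
    obtain ⟨x, hpx⟩ := hcov p (hUW hp)
    obtain ⟨_, ⟨Q, hQ, rfl⟩, hpQ, hQsub⟩ := X.isBasis_affineOpens.exists_subset_of_mem_open
      (a := p) (u := ((U ⊓ V x : X.Opens) : Set X)) ⟨hp, hpx⟩ (U ⊓ V x).isOpen
    have iU : Q ≤ U := fun y hy => (hQsub hy).1
    have iV : Q ≤ V x := fun y hy => (hQsub hy).2
    refine ⟨Q, hQ, iU, hpQ, ?_⟩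
    show (𝒮L.presheaf.map (homOfLE iU).op).hom _ ∈ _
    rw [map_map hUW iU (iV.trans (i x)), ← map_map (i x) iV (iV.trans (i x)), hτ' x, map_mul, map_pow,
      map_map (i x) iV (iV.trans (i x))]
    have h1 := SetLike.mul_mem_graded (SetLike.pow_mem_graded K (res_elt_mem hL hj hQ (iV.trans (i x)) a))
      (hhom x Q hQ iV)
    rwa [smul_eq_mul, show K * n + m * n = (m + K) * n by ring] at h1
  · refine toModule_ext (A := 𝒮L.toQCAlg) _ _ fun p hp => ?_
    obtain ⟨x, hpx⟩ := hcov p (AmpleX.locus_le a hp)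
    have h1 : AmpleX.locus a ⊓ V x ≤ V x := inf_le_right
    have h2 : AmpleX.locus a ⊓ V x ≤ AmpleX.locus a := inf_le_left
    refine ⟨AmpleX.locus a ⊓ V x, h2, ⟨hp, hpx⟩, ?_⟩
    show (𝒮L.presheaf.map (homOfLE h2).op).hom _ = (𝒮L.presheaf.map (homOfLE h2).op).hom _
    rw [map_map _ h2 (h2.trans (AmpleX.locus_le a)), ← map_map (i x) h1 (h2.trans (AmpleX.locus_le a)), hτ' x,
      map_mul, map_mul, map_pow, map_pow, map_str, map_map (i x) h1 (h2.trans (AmpleX.locus_le a)),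
      map_map (AmpleX.locus_le a) h2 (h2.trans (AmpleX.locus_le a)), hτ₀ x _ h1 h2, pow_add]
    ring

include hL hLq hj in
/-- The element determines the section. -/
theorem elt_injective {n : ℕ} {W : X.Opens} {a a' : Γ(CohB1.tensorPow L n, W)} (h : elt j a = elt j a') : a = a' := by
  rw [← sub_eq_zero]
  refine AModX.eq_of_locally _ _ fun p hp => ?_
  obtain ⟨V, hV, i, e, c, hpV, he, hc⟩ := exists_local_frame hj hL (a - a') hp
  refine ⟨V, i, hpV, ?_⟩
  have h1 := res_elt_of_coord hj i hc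
  rw [show elt j (a - a') = elt j a - elt j a' from map_sub ((powMap j n).app W).hom a a', h, sub_self, map_zero] at h1
  rw [hc, coeff_eq_zero hLq hj hV he h1.symm, zero_smul, map_zero]

include hL hLq hj in
/-- A homogeneous element is the element of a section. -/
theorem exists_elt_eq {n : ℕ} {W : X.Opens} (τ : 𝒮L.presheaf.obj (op W)) (hτ : IsHomOn 𝒮L W n τ) :
    ∃ a : Γ(CohB1.tensorPow L n, W), elt j a = τ := by
  have hloc : ∀ p : (W : Set X), ∃ (V : X.Opens) (i : V ≤ W) (_ : p.1 ∈ V) (a : Γ(CohB1.tensorPow L n, V)),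
      elt j a = (𝒮L.presheaf.map (homOfLE i).op).hom τ := fun p => by
    obtain ⟨U, hpU, e, he⟩ := InvX.exists_frame hL p.1
    obtain ⟨_, ⟨V, hV, rfl⟩, hpV, hVsub⟩ := X.isBasis_affineOpens.exists_subset_of_mem_open
      (a := p.1) (u := ((U ⊓ W : X.Opens) : Set X)) ⟨hpU, p.2⟩ (U ⊓ W).isOpen
    have iU : V ≤ U := fun y hy => (hVsub hy).1
    have iW : V ≤ W := fun y hy => (hVsub hy).2
    obtain ⟨r, hr⟩ := exists_coeff hLq hj hV (he.res iU) (hτ V hV iW)
    exact ⟨V, iW, hpV, r • AmpleX.powElt (AModX.res L iU e) n, by rw [elt_smul, elt_powElt, hr]⟩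
  choose V i hp a ha using hloc
  obtain ⟨T, hT, -⟩ := AModX.existsUnique_glue (M := CohB1.tensorPow L n) (V := W) V i
    (fun p hpW => ⟨⟨p, hpW⟩, hp ⟨p, hpW⟩⟩) a fun x y => elt_injective hL hLq hj (by
      rw [elt_res, elt_res, ha, ha,
        map_map (i x) (inf_le_left : V x ⊓ V y ≤ V x) ((inf_le_left : V x ⊓ V y ≤ V x).trans (i x)),
        map_map (i y) (inf_le_right : V x ⊓ V y ≤ V y) ((inf_le_left : V x ⊓ V y ≤ V x).trans (i x))])
  refine ⟨T, toModule_ext (A := 𝒮L.toQCAlg) _ _ fun p hpW => ⟨V ⟨p, hpW⟩, i _, hp _, ?_⟩⟩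
  show (𝒮L.presheaf.map (homOfLE (i _)).op).hom (elt j T) = _
  rw [← elt_res, hT, ha]

end Groth.Agent.SymX
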