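import Groth.Agent.SymX.ImmLocal
import Groth.Agent.VAmple.SectionsTensor
import Groth.Agent.AmpleX.Comp

/-!
# Large powers of relatively ample modules are very ample
-/

set_option linter.style.haveILetI false
set_option linter.unusedSectionVars false
set_option backward.isDefEq.respectTransparency false
set_option backward.isDefEq.respectTransparency.types false

noncomputable section

universe u

open CategoryTheory CategoryTheory.Limits AlgebraicGeometry TopologicalSpace Opposite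

namespace Groth.Agent.SymX

open Groth.Agent Groth.Agent.H23.PicMul

variable {X Y : Scheme.{u}} {E : Y.Modules} {g : X ⟶ Y} {L : X.Modules}
  {θ : E ⟶ (Scheme.Modules.pushforward g).obj L}

/-- Ratios generating the functions on an affine open embed it. -/
theorem immAt_of_eq_top {U : Y.Opens} (e : Γ(E, U)) (hT : IsAffineOpen (AmpleX.locus (th g θ e)))
    (h : Subring.closure (ratioSet g θ e) = ⊤) : ImmAt g θ e := by
  let T := AmpleX.locus (th g θ e)
  let R := Subring.closure (ratioSet g θ e)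
  haveI : IsIso T.toSpecΓ := hT.isoSpec_hom ▸ inferInstance
  have hb : Function.Bijective R.subtype :=
    ⟨Subtype.val_injective, fun a => ⟨⟨a, by simp only [R, h, Subring.mem_top]⟩, rfl⟩⟩
  haveI : IsIso (CommRingCat.ofHom R.subtype) := (ConcreteCategory.isIso_iff_bijective _).2 hb
  show IsImmersion (T.toSpecΓ ≫ Spec.map (CommRingCat.ofHom R.subtype))
  infer_instance

/-- Sections with generating ratios over an affine base make a module very ample. -/
theorem isRelVeryAmple_of_sections [IsAffine Y] [QuasiCompact g] [IsSeparated g] {M : X.Modules}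
    (hM : PicF.IsInvertible M) {κ : Type*} (s : κ → Γ(M, ⊤))
    (hs : ∀ x : X, ∃ (l : κ) (V : X.Opens), x ∈ V ∧ V = AmpleX.locus (s l) ∧ IsAffineOpen V ∧
      Subring.closure (Set.range ((AModX.resR (le_top : V ≤ ⊤)).comp g.appTop.hom) ∪
        {v : Γ(X, V) | ∃ i, AModX.res _ (le_top : V ≤ ⊤) (s i) = v • AModX.res _ (le_top : V ≤ ⊤) (s l)}) = ⊤) :
    RelProj.IsRelVeryAmple g M := by
  refine isRelVeryAmple_of_immPoints (QCoh.isQCoh_pushforward g (ProjUPX.isQCoh_of_isInvertible hM))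
    (θ := 𝟙 _) fun x => ?_
  obtain ⟨l, V, hxV, rfl, hV, hcl⟩ := hs x
  let e : Γ((Scheme.Modules.pushforward g).obj M, (⊤ : Y.Opens)) := s l
  have hth : th g (𝟙 ((Scheme.Modules.pushforward g).obj M)) e = s l := rfl
  refine ⟨⊤, isAffineOpen_top Y, e, (show x ∈ AmpleX.locus (th g (𝟙 _) e) from hxV), ?_⟩
  refine immAt_of_eq_top (θ := 𝟙 ((Scheme.Modules.pushforward g).obj M)) (U := ⊤) e hV ?_
  refine eq_top_iff.2 (hcl.ge.trans (Subring.closure_mono ?_))
  intro v hv
  rcases hv with hv | hv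
  · obtain ⟨c, hc⟩ := hv
    exact Or.inl ⟨c, hc.symm⟩
  · obtain ⟨i, hi⟩ := hv
    exact Or.inr ⟨s i, hi⟩

/-- Large powers of a relatively ample module, twisted by an invertible module, are very ample. -/
theorem eventually_isRelVeryAmple [CompactSpace Y] [QuasiCompact g] [LocallyOfFiniteType g] {L' : X.Modules}
    (hL : PicF.IsInvertible L) (hL' : PicF.IsInvertible L') (h : RelAmple.IsRelAmple g L) :
    ∃ n₀ : ℕ, ∀ n : ℕ, n₀ ≤ n → RelProj.IsRelVeryAmple g (CohB1.tensorMod (CohB1.tensorPow L n) L') := by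
  classical
  haveI : IsSeparated g := AmpleX.isSeparated_of_ampleOn fun x => AmpleX.ampleOn_of_isRelAmple h (g x)
  have key : ∀ V : Y.affineOpens, ∃ n₀ : ℕ, ∀ n : ℕ, n₀ ≤ n → RelProj.IsRelVeryAmple (g ∣_ V.1)
      ((CohB1.tensorMod (CohB1.tensorPow L n) L').restrict (g ⁻¹ᵁ V.1).ι) := by
    intro V
    let j := (g ⁻¹ᵁ V.1).ι
    let q := g ∣_ V.1
    haveI : IsAffine V.1.toScheme := V.2
    haveI : CompactSpace V.1.toScheme := inferInstance
    haveI : CompactSpace (g ⁻¹ᵁ V.1).toScheme := QuasiCompact.compactSpace_of_compactSpace q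
    haveI : (g ⁻¹ᵁ V.1).toScheme.IsSeparated := ⟨by
      rw [show terminal.from (g ⁻¹ᵁ V.1).toScheme = q ≫ terminal.from V.1.toScheme from terminal.hom_ext _ _]
      infer_instance⟩
    obtain ⟨n₀, hn⟩ := VAmple.exists_sections_tensor (q ≫ V.1.toScheme.isoSpec.hom) (h.2 V)
      (AmpleX.isInvertible_restrict j hL')
    refine ⟨n₀, fun n hn' => ?_⟩
    obtain ⟨κ, _, s, hs⟩ := hn n hn'
    have hcl : PicF.cl (CohB1.tensorMod (CohB1.tensorPow (L.restrict j) n) (L'.restrict j)) =
        PicF.cl ((CohB1.tensorMod (CohB1.tensorPow L n) L').restrict j) := by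
      rw [cl_tensor, cl_tensorPow, AmpleX.cl_restrict, AmpleX.cl_restrict, AmpleX.cl_restrict, cl_tensor,
        cl_tensorPow, pullCl_mul, pullCl_pow]
    refine isRelVeryAmple_of_iso (cl_eq_iff.1 hcl).some (isRelVeryAmple_of_sections
      (InvX.isInvertible_tensorMod (InvX.isInvertible_tensorPow (AmpleX.isInvertible_restrict j hL) n)
        (AmpleX.isInvertible_restrict j hL')) s fun x => ?_)
    obtain ⟨l, W, hx, hW, hWa, hg⟩ := hs x
    refine ⟨l, W, hx, hW, hWa, ?_⟩
    rw [eq_top_iff, ← hg, Subring.closure_le]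
    rintro v (⟨c, rfl⟩ | ⟨i, hi⟩)
    · exact Subring.subset_closure (Or.inl ⟨V.1.toScheme.isoSpec.hom.appTop
        ((Scheme.ΓSpecIso (CommRingCat.of Γ(V.1.toScheme, ⊤))).inv c), rfl⟩)
    · exact Subring.subset_closure (Or.inr ⟨i, hi⟩)
  choose n₀ hn₀ using key
  obtain ⟨S, hS⟩ := isCompact_univ.elim_finite_subcover (fun V : Y.affineOpens => (V.1 : Set Y))
    (fun V => V.1.2) fun y _ => by
      obtain ⟨W, hW, hy, -⟩ := exists_isAffineOpen_mem_and_subset (x := y) (U := (⊤ : Y.Opens)) trivial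
      exact Set.mem_iUnion.2 ⟨⟨W, hW⟩, hy⟩
  refine ⟨S.sup n₀, fun n hn => ?_⟩
  refine (isRelVeryAmple_iff_restrict (ι := S) (fun V => V.1.1) ?_
    (InvX.isInvertible_tensorMod (InvX.isInvertible_tensorPow hL n) hL')).2
    fun V => hn₀ V.1 n ((Finset.le_sup V.2).trans hn)
  rw [eq_top_iff]
  intro y _
  obtain ⟨V, hV, hy⟩ := Set.mem_iUnion₂.1 (hS (Set.mem_univ y))
  exact Opens.mem_iSup.2 ⟨⟨V, hV⟩, hy⟩

/-- Large powers of a relatively ample module are very ample. -/
theorem eventually_isRelVeryAmple_pow [CompactSpace Y] [QuasiCompact g] [LocallyOfFiniteType g]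
    (hL : PicF.IsInvertible L) (h : RelAmple.IsRelAmple g L) :
    ∃ n₀ : ℕ, 0 < n₀ ∧ ∀ n : ℕ, n₀ ≤ n → RelProj.IsRelVeryAmple g (CohB1.tensorPow L n) := by
  obtain ⟨n₀, hn⟩ := eventually_isRelVeryAmple hL InvX.isInvertible_structureModule h
  exact ⟨n₀ + 1, Nat.succ_pos _, fun n h' =>
    isRelVeryAmple_of_iso (unit _).some (hn n (Nat.le_of_succ_le h'))⟩

end Groth.Agent.SymX
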