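import Groth.Agent.SymX.ProjectiveClosed
import Groth.Agent.SymX.AmplePower
import Groth.Agent.QCoh.Qcqs
import Groth.Agent.PnCoh.Unit

/-!
# Finite morphisms are projective
-/

set_option linter.style.haveILetI false
set_option linter.unusedSectionVars false
set_option backward.isDefEq.respectTransparency false
set_option backward.isDefEq.respectTransparency.types false
set_option maxHeartbeats 800000

universe u

open CategoryTheory CategoryTheory.Limits AlgebraicGeometry TopologicalSpace Opposite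

noncomputable section

namespace Groth.Agent.SymX

open Groth.Agent

variable {X Y : Scheme.{u}}

theorem immPoints_of_isAffineHom (f : X ⟶ Y) [IsAffineHom f] :
    ImmPoints f (𝟙 ((Scheme.Modules.pushforward f).obj (Coh.structureModule X))) := by
  intro x
  obtain ⟨_, ⟨U, hU : IsAffineOpen U, rfl⟩, hxU, -⟩ :=
    Y.isBasis_affineOpens.exists_subset_of_mem_open (Set.mem_univ (f x)) isOpen_univ
  let e : Γ((Scheme.Modules.pushforward f).obj (Coh.structureModule X), U) :=
    (show Γ(Coh.structureModule X, f ⁻¹ᵁ U) from (1 : Γ(X, f ⁻¹ᵁ U)))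
  have hfr : InvX.IsFrame (th f (𝟙 _) e) := InvX.isFrame_one (f ⁻¹ᵁ U)
  have htop : AmpleX.locus (th f (𝟙 _) e) = f ⁻¹ᵁ U :=
    le_antisymm (AmpleX.locus_le _) (AmpleX.le_locus _ le_rfl (by rw [AModX.res_self]; exact hfr))
  refine ⟨U, hU, e, htop.ge hxU, immAt_of_eq_top e (by rw [htop]; exact hU.preimage f) ?_⟩
  refine eq_top_iff.2 fun a _ => Subring.subset_closure (Or.inr ?_)
  let ā : Γ(X, f ⁻¹ᵁ U) := AModX.resR htop.ge a
  refine ⟨(show Γ((Scheme.Modules.pushforward f).obj (Coh.structureModule X), U) from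
    (show Γ(Coh.structureModule X, f ⁻¹ᵁ U) from ā)), ?_⟩
  show AModX.resR (AmpleX.locus_le (th f (𝟙 _) e)) ā =
    a * AModX.resR (AmpleX.locus_le (th f (𝟙 _) e)) (1 : Γ(X, f ⁻¹ᵁ U))
  rw [map_one, mul_one, AModX.resR_resR, AModX.resR_self]

theorem isFT_pushforward_of_isFinite (f : X ⟶ Y) [IsFinite f]
    (hO : Coh.IsQCoh (Coh.structureModule X)) :
    CohB1.IsFT ((Scheme.Modules.pushforward f).obj (Coh.structureModule X)) := by
  refine QCoh.isFT_of_finite (QCoh.isQCoh_pushforward f hO) (fun U : Y.affineOpens => U.1)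
    (iSup_affineOpens_eq_top Y) (fun U => U.2) fun U => ?_
  letI := (f.app U.1).hom.toAlgebra
  have hfin : (f.app U.1).hom.Finite := f.finite_app U.1 U.2
  haveI : Module.Finite Γ(Y, U.1) Γ(X, f ⁻¹ᵁ U.1) := hfin
  exact Module.Finite.of_surjective
    ({ toFun := fun a => (show Γ((Scheme.Modules.pushforward f).obj (Coh.structureModule X), U.1) from
          (show Γ(Coh.structureModule X, f ⁻¹ᵁ U.1) from a))
       map_add' := fun _ _ => rfl
       map_smul' := fun r a => rfl } :
      Γ(X, f ⁻¹ᵁ U.1) →ₗ[Γ(Y, U.1)] Γ((Scheme.Modules.pushforward f).obj (Coh.structureModule X), U.1))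
    fun b => ⟨b, rfl⟩

theorem isProjective_of_isFinite (f : X ⟶ Y) [IsFinite f] : RelProj.IsProjective f := by
  have hO : Coh.IsQCoh (Coh.structureModule X) := PnCoh.isQCoh_structureModule X
  have hE := QCoh.isQCoh_pushforward f hO
  obtain ⟨A⟩ := nonempty_bundle hE
  obtain ⟨r, hr, hrp, -⟩ := exists_immersion_of_immPoints hE (immPoints_of_isAffineHom f) A
  exact isProjective_of_immersion A hE (isFT_pushforward_of_isFinite f hO) r hrp

end Groth.Agent.SymX
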