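import Groth.Agent.SymX.ImmPoint

/-!
# Immersions into spectra of rings of functions, on basic opens
-/

set_option linter.style.haveILetI false
set_option linter.unusedSectionVars false
set_option backward.isDefEq.respectTransparency false
set_option backward.isDefEq.respectTransparency.types false

noncomputable section

universe u

open CategoryTheory CategoryTheory.Limits AlgebraicGeometry TopologicalSpace Opposite

namespace Groth.Agent.SymX

open Groth.Agent

theorem exists_finite_mem_closure {R : Type*} [Ring R] {S : Set R} {a : R} (ha : a ∈ Subring.closure S) :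
    ∃ t : Set R, t.Finite ∧ t ⊆ S ∧ a ∈ Subring.closure t := by
  induction ha using Subring.closure_induction with
  | mem z hz => exact ⟨{z}, Set.finite_singleton z, by simpa using hz, Subring.subset_closure rfl⟩
  | zero => exact ⟨∅, Set.finite_empty, Set.empty_subset S, zero_mem _⟩
  | one => exact ⟨∅, Set.finite_empty, Set.empty_subset S, one_mem _⟩
  | add x y _ _ hx hy =>
    obtain ⟨t, ht, htS, hxt⟩ := hx
    obtain ⟨t', ht', htS', hyt⟩ := hy
    exact ⟨t ∪ t', ht.union ht', Set.union_subset htS htS',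
      add_mem (Subring.closure_mono Set.subset_union_left hxt) (Subring.closure_mono Set.subset_union_right hyt)⟩
  | neg x _ hx =>
    obtain ⟨t, ht, htS, hxt⟩ := hx
    exact ⟨t, ht, htS, neg_mem hxt⟩
  | mul x y _ _ hx hy =>
    obtain ⟨t, ht, htS, hxt⟩ := hx
    obtain ⟨t', ht', htS', hyt⟩ := hy
    exact ⟨t ∪ t', ht.union ht', Set.union_subset htS htS',
      mul_mem (Subring.closure_mono Set.subset_union_left hxt) (Subring.closure_mono Set.subset_union_right hyt)⟩

variable {X : Scheme.{u}} (T : X.Opens)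

/-- Near the point the functions are fractions of elements of the ring. -/
def FracAt (R : Subring Γ(X, T)) (h : Γ(X, T)) : Prop :=
  IsAffineOpen (X.basicOpen h) ∧
    ∀ z : Γ(X, X.basicOpen h), ∃ r ∈ R, ∃ k : ℕ,
      z * AModX.resR (X.basicOpen_le h) h ^ k = AModX.resR (X.basicOpen_le h) r

variable (R : Subring Γ(X, T))

lemma subSpec_appTop (r : R) :
    (show Γ(X, T.ι ''ᵁ ⊤) from (subSpec T R).appTop ((Scheme.ΓSpecIso (CommRingCat.of R)).inv r)) =
      AModX.resR T.ι_image_top.le r.1 := by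
  have : (subSpec T R).appTop = Scheme.Hom.appTop (Spec.map (CommRingCat.ofHom R.subtype)) ≫ T.toSpecΓ.appTop :=
    Scheme.Hom.comp_appTop _ _
  have h2 : (Scheme.ΓSpecIso (CommRingCat.of R)).inv ≫ (subSpec T R).appTop =
      CommRingCat.ofHom R.subtype ≫ T.topIso.inv := by
    rw [this, ← Scheme.ΓSpecIso_inv_naturality_assoc, Scheme.Opens.toSpecΓ_appTop]
    erw [Iso.inv_hom_id_assoc]
  exact congr($(h2).hom r)

lemma preimage_basicOpen_subSpec (h : R) :
    T.ι ''ᵁ ((subSpec T R) ⁻¹ᵁ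
      (Spec (CommRingCat.of R)).basicOpen ((Scheme.ΓSpecIso (CommRingCat.of R)).inv h)) = X.basicOpen h.1 := by
  rw [Scheme.preimage_basicOpen, Scheme.image_basicOpen, Scheme.Opens.ι_appIso]
  have : X.basicOpen (show Γ(X, T.ι ''ᵁ ⊤) from (subSpec T R).appTop ((Scheme.ΓSpecIso (CommRingCat.of R)).inv h)) =
      X.basicOpen h.1 := by
    rw [subSpec_appTop, AModX.resR, Scheme.basicOpen_res, Scheme.Opens.ι_image_top]
    exact inf_eq_right.2 (X.basicOpen_le h.1)
  exact this

lemma app_subSpec_res (D : (Spec (CommRingCat.of R)).Opens) (r : R) :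
    (show Γ(X, T.ι ''ᵁ ((subSpec T R) ⁻¹ᵁ D)) from
        (subSpec T R).app D (AModX.resR (le_top : D ≤ ⊤) ((Scheme.ΓSpecIso (CommRingCat.of R)).inv r))) =
      AModX.resR (T.ι_image_le _) r.1 := by
  have h1 : (subSpec T R).app D (AModX.resR (le_top : D ≤ ⊤) ((Scheme.ΓSpecIso (CommRingCat.of R)).inv r)) =
      T.toScheme.presheaf.map (homOfLE (le_top : (subSpec T R) ⁻¹ᵁ D ≤ ⊤)).op
        ((subSpec T R).appTop ((Scheme.ΓSpecIso (CommRingCat.of R)).inv r)) :=
    congr($((subSpec T R).naturality (homOfLE (le_top : D ≤ ⊤)).op).hom ((Scheme.ΓSpecIso (CommRingCat.of R)).inv r))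
  rw [h1]
  refine (toScheme_res (Z := T) le_top _).trans ?_
  refine (congrArg (AModX.resR _) (subSpec_appTop T R r)).trans ?_
  exact AModX.resR_resR _ _ _

lemma resR_injective_of_eq {U V : X.Opens} (h : U = V) (h' : U ≤ V) {a b : Γ(X, V)}
    (e : AModX.resR h' a = AModX.resR h' b) : a = b := by
  subst h
  simpa using e

/-- An immersion into the spectrum gives fractions near every point. -/
theorem exists_fracAt [hR : IsImmersion (subSpec T R)] {x : X} (hx : x ∈ T) :
    ∃ h ∈ R, x ∈ X.basicOpen h ∧ FracAt T R h := by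
  let φ := subSpec T R
  let x' : T.toScheme := ⟨x, hx⟩
  obtain ⟨_, ⟨h, rfl⟩, hxh, hle⟩ := PrimeSpectrum.isTopologicalBasis_basic_opens.exists_subset_of_mem_open
    (show φ x' ∈ φ.coborderRange from subset_coborder ⟨x', rfl⟩) φ.coborderRange.2
  let h₀ := (Scheme.ΓSpecIso (CommRingCat.of R)).inv h
  let D := (Spec (CommRingCat.of R)).basicOpen h₀
  have hDeq : D = PrimeSpectrum.basicOpen h := basicOpen_eq_of_affine (R := CommRingCat.of R) h
  have hD : IsAffineOpen D := (isAffineOpen_top (Spec (CommRingCat.of R))).basicOpen h₀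
  have hDO : D ≤ φ.coborderRange.ι.opensRange := by
    rw [Scheme.Opens.opensRange_ι, hDeq]; exact hle
  haveI : IsClosedImmersion (φ ∣_ D) := by
    have e : φ.liftCoborder ≫ φ.coborderRange.ι = φ := φ.liftCoborder_ι
    haveI : IsClosedImmersion (φ.coborderRange.ι ∣_ D) := by
      haveI : Surjective (φ.coborderRange.ι ∣_ D) := ⟨fun y => by
        obtain ⟨z, hz⟩ := hDO y.2
        refine ⟨⟨z, (show φ.coborderRange.ι z ∈ D from hz ▸ y.2)⟩, Subtype.ext ?_⟩
        refine Eq.trans ?_ hz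
        exact congrArg (fun χ : (φ.coborderRange.ι ⁻¹ᵁ D).toScheme ⟶ Spec (CommRingCat.of R) => χ ⟨z, _⟩)
          (morphismRestrict_ι φ.coborderRange.ι D)⟩
      haveI : IsIso (φ.coborderRange.ι ∣_ D) :=
        (isIso_iff_isOpenImmersion_and_surjective _).2 ⟨inferInstance, inferInstance⟩
      infer_instance
    have key : ∀ ψ : T.toScheme ⟶ Spec (CommRingCat.of R), ψ = φ.liftCoborder ≫ φ.coborderRange.ι →
        IsClosedImmersion (ψ ∣_ D) := by
      rintro _ rfl
      rw [morphismRestrict_comp]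
      haveI : IsClosedImmersion (φ.liftCoborder ∣_ (φ.coborderRange.ι ⁻¹ᵁ D)) :=
        IsZariskiLocalAtTarget.restrict (P := @IsClosedImmersion) inferInstance _
      infer_instance
    exact key φ e.symm
  haveI : IsAffine D.toScheme := hD
  obtain ⟨haff, hsurj⟩ := IsClosedImmersion.isAffine_surjective_of_isAffine (φ ∣_ D)
  have hV : IsAffineOpen (φ ⁻¹ᵁ D) := haff
  have hTh : T.ι ''ᵁ (φ ⁻¹ᵁ D) = X.basicOpen h.1 := preimage_basicOpen_subSpec T R h
  refine ⟨h.1, h.2, ?_, hTh ▸ hV.image_of_isOpenImmersion T.ι, fun z => ?_⟩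
  · rw [← hTh]
    exact ⟨x', (show φ x' ∈ D from hDeq ▸ hxh), rfl⟩
  · obtain ⟨w, hw⟩ : ∃ w, (show Γ(X, T.ι ''ᵁ (φ ⁻¹ᵁ D)) from φ.app D w) = AModX.resR hTh.le z := by
      have h2 : Function.Surjective (φ.app D) := by
        rw [morphismRestrict_appTop] at hsurj
        have hc : ∀ O', O' = D → Function.Surjective (φ.app (D.ι ''ᵁ ⊤)) → Function.Surjective (φ.app O') := by
          intro O' hO' hs
          have key : ∀ O₁, D.ι ''ᵁ ⊤ = O₁ → Function.Surjective (φ.app O₁) := by rintro _ rfl; exact hs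
          exact key O' (D.ι_image_top.trans hO'.symm)
        refine hc D rfl fun y => ?_
        obtain ⟨w, hw⟩ := hsurj (T.toScheme.presheaf.map (eqToHom (image_morphismRestrict_preimage φ D ⊤)).op y)
        exact ⟨w, (ConcreteCategory.isIso_iff_bijective
          (T.toScheme.presheaf.map (eqToHom (image_morphismRestrict_preimage φ D ⊤)).op)).1 inferInstance |>.1 hw⟩
      exact h2 _
    obtain ⟨k, r, hr⟩ : ∃ k : ℕ, ∃ r : R, w * AModX.resR (le_top : D ≤ ⊤) h₀ ^ k =
        AModX.resR (le_top : D ≤ ⊤) ((Scheme.ΓSpecIso (CommRingCat.of R)).inv r) := by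
      haveI := (isAffineOpen_top (Spec (CommRingCat.of R))).isLocalization_basicOpen h₀
      obtain ⟨k, y, hy⟩ := IsLocalization.Away.surj h₀ w
      obtain ⟨r, rfl⟩ : ∃ r : R, (Scheme.ΓSpecIso (CommRingCat.of R)).inv r = y :=
        ((ConcreteCategory.isIso_iff_bijective (Scheme.ΓSpecIso (CommRingCat.of R)).inv).1 inferInstance).2 y
      exact ⟨k, r, hy⟩
    refine ⟨r.1, r.2, k, resR_injective_of_eq hTh hTh.le ?_⟩
    have h3 := congrArg (fun q => (show Γ(X, T.ι ''ᵁ (φ ⁻¹ᵁ D)) from φ.app D q)) hr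
    simp only [map_mul, map_pow] at h3
    rw [map_mul, map_pow, AModX.resR_resR, AModX.resR_resR, ← hw]
    refine Eq.trans ?_ (h3.trans (app_subSpec_res T R D r))
    exact congrArg (fun q => (show Γ(X, T.ι ''ᵁ (φ ⁻¹ᵁ D)) from φ.app D w) * q ^ k) (app_subSpec_res T R D h).symm

/-- Fractions near every point give an immersion into the spectrum. -/
theorem isImmersion_subSpec_of_fracAt (hcov : ∀ x ∈ T, ∃ h ∈ R, x ∈ X.basicOpen h ∧ FracAt T R h) :
    IsImmersion (subSpec T R) := by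
  refine isImmersion_of_locally _ fun x' => ?_
  obtain ⟨h, hh, hxh, haff, hfr⟩ := hcov x'.1 x'.2
  let φ := subSpec T R
  let h₀ := (Scheme.ΓSpecIso (CommRingCat.of R)).inv ⟨h, hh⟩
  let D := (Spec (CommRingCat.of R)).basicOpen h₀
  have hTh : T.ι ''ᵁ (φ ⁻¹ᵁ D) = X.basicOpen h := preimage_basicOpen_subSpec T R ⟨h, hh⟩
  refine ⟨D, ?_, ?_⟩
  · obtain ⟨z, hz, hzx⟩ := hTh.ge hxh
    obtain rfl : z = x' := Subtype.ext hzx
    exact hz
  have hD : IsAffineOpen D := (isAffineOpen_top (Spec (CommRingCat.of R))).basicOpen h₀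
  haveI : IsAffine D.toScheme := hD
  have hVaff : IsAffineOpen (φ ⁻¹ᵁ D) := by
    have := (hTh ▸ haff : IsAffineOpen (T.ι ''ᵁ (φ ⁻¹ᵁ D)))
    exact T.ι.isAffineOpen_iff_of_isOpenImmersion.1 this
  haveI : IsAffine (φ ⁻¹ᵁ D).toScheme := hVaff
  have hsurj : Function.Surjective (φ.app D) := by
    intro v
    obtain ⟨r, hr, k, hk⟩ := hfr (AModX.resR hTh.ge (show Γ(X, T.ι ''ᵁ (φ ⁻¹ᵁ D)) from v))
    have hu : IsUnit (AModX.resR (le_top : D ≤ ⊤) h₀) := AModX.isUnit_resR _ _ le_rfl
    refine ⟨AModX.resR (le_top : D ≤ ⊤) ((Scheme.ΓSpecIso (CommRingCat.of R)).inv ⟨r, hr⟩) *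
      ↑(hu.pow k).unit⁻¹, ?_⟩
    have h1 := congrArg (AModX.resR hTh.le) hk
    rw [map_mul, map_pow, AModX.resR_resR, AModX.resR_resR, AModX.resR_resR, AModX.resR_self,
      ← app_subSpec_res T R D ⟨r, hr⟩, ← app_subSpec_res T R D ⟨h, hh⟩] at h1
    have h2 : φ.app D (AModX.resR (le_top : D ≤ ⊤) ((Scheme.ΓSpecIso (CommRingCat.of R)).inv ⟨r, hr⟩)) =
        v * φ.app D (AModX.resR (le_top : D ≤ ⊤) h₀ ^ k) := by
      rw [map_pow]; exact h1.symm
    rw [map_mul, h2, mul_assoc, ← map_mul, IsUnit.mul_val_inv, map_one, mul_one]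
  haveI : IsClosedImmersion (φ ∣_ D) := by
    refine IsClosedImmersion.of_surjective_of_isAffine _ ?_
    rw [morphismRestrict_appTop]
    have key : ∀ O', O' = D → Function.Surjective (φ.app O') := by rintro _ rfl; exact hsurj
    exact ((ConcreteCategory.isIso_iff_bijective
      (T.toScheme.presheaf.map (eqToHom (image_morphismRestrict_preimage φ D ⊤)).op)).1 inferInstance).2.comp
      (key _ D.ι_image_top)
  rw [← morphismRestrict_ι]
  infer_instance

end Groth.Agent.SymX
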