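import Groth.Agent.SymX.AmplePower
import Groth.Agent.SymX.SubSpecCover
import Groth.Agent.AmpleX.Basis
import Groth.Agent.AmpleX.RelAffine
import Groth.Agent.AmpleX.ExtendQS
import Groth.Agent.S5721

/-!
# Affine loci with functions generated by ratios, on a source with a very ample module
-/

set_option linter.style.haveILetI false
set_option linter.unusedSectionVars false
set_option backward.isDefEq.respectTransparency false
set_option backward.isDefEq.respectTransparency.types false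

noncomputable section

universe u

open CategoryTheory CategoryTheory.Limits AlgebraicGeometry TopologicalSpace Opposite

namespace Groth.Agent.SymX

open Groth.Agent

variable {X Y : Scheme.{u}}

/-- A very ample module has embedding sections over every affine open of the base. -/
theorem exists_point_over {g : X ⟶ Y} {L : X.Modules} (hva : RelProj.IsRelVeryAmple g L) :
    ∃ (E : Y.Modules) (θ : E ⟶ (Scheme.Modules.pushforward g).obj L),
      ∀ (U : Y.Opens) (_ : IsAffineOpen U) (x : X), g x ∈ U →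
        ∃ e : Γ(E, U), x ∈ AmpleX.locus (th g θ e) ∧ ImmAt g θ e := by
  obtain ⟨E, hE, A, i, θ, hii, hi, hic, hgen⟩ := exists_theta_of_isRelVeryAmple hva
  refine ⟨E, θ, fun U hU x hx => ?_⟩
  obtain ⟨y, hy⟩ : i x ∈ (RelProj.emb A.p A.chart U hU).opensRange := by
    rw [RelTildeX.opensRange_emb]
    show A.p (i x) ∈ U
    rw [show A.p (i x) = g x from congrArg (fun ψ : X ⟶ Y => ψ x) hi]
    exact hx
  obtain ⟨f, hfy⟩ := Opens.mem_iSup.1 ((ProjX.iSup_basicOpen_deg_one A.C.isGenDegOne U hU _ Ideal.subset_span).ge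
    (trivial : y ∈ (⊤ : (Proj (A.𝒮.deg U hU)).Opens)))
  obtain ⟨e, he⟩ := exists_j_eq A.C U hU f.2
  refine ⟨e, ?_, immAt_of_immersion A hi hic hU e⟩
  have hgen' : ∀ x : X, ∃ (U : Y.Opens) (_ : IsAffineOpen U) (e : Γ(E, U)), x ∈ AmpleX.locus (th g θ e) :=
    (immPoints_of_immersion A hi hic hgen).gen
  exact hic.le_locus A.C A.isRelTwist A.isTaut hi hgen' U hU e
    (le_locus_taut A.isRelTwist A.C.isGrSymAlg.2 U hU e _ (A.isTaut U hU e)
      ⟨y, (congrArg (Proj.basicOpen (A.𝒮.deg U hU)) he).ge hfy, hy⟩)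

/-- The scalars on an open, over the whole base. -/
def scalSet (g : X ⟶ Y) (W : X.Opens) : Set Γ(X, W) :=
  Set.range ((AModX.resR (le_top : W ≤ ⊤)).comp g.appTop.hom)

/-- The ratios of global sections with a fixed one, on an open. -/
def glRatio {K : X.Modules} (b : Γ(K, ⊤)) (W : X.Opens) : Set Γ(X, W) :=
  {c | ∃ s : Γ(K, ⊤), AModX.res K (le_top : W ≤ ⊤) s = c • AModX.res K (le_top : W ≤ ⊤) b}

/-- Affine loci of powers whose functions are generated by ratios and finitely many functions. -/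
theorem exists_nice_locus [IsAffine Y] (g : X ⟶ Y) [QuasiCompact g] {K : X.Modules}
    (hK : PicF.IsInvertible K) (hva : RelProj.IsRelVeryAmple g K) (x : X) :
    ∃ (m : ℕ) (a : Γ(CohB1.tensorPow K m, ⊤)) (b : Γ(K, ⊤)) (F : Set Γ(X, AmpleX.locus a)),
      F.Finite ∧ x ∈ AmpleX.locus a ∧ IsAffineOpen (AmpleX.locus a) ∧ AmpleX.locus a ≤ AmpleX.locus b ∧
        Subring.closure (scalSet g (AmpleX.locus a) ∪ glRatio b (AmpleX.locus a) ∪ F) = ⊤ := by
  haveI : IsSeparated g := isSeparated_of_isRelVeryAmple hva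
  haveI : CompactSpace X := QuasiCompact.compactSpace_of_compactSpace g
  haveI : X.IsSeparated := ⟨by
    rw [show terminal.from X = g ≫ terminal.from Y from terminal.hom_ext _ _]; infer_instance⟩
  obtain ⟨E, θ, hE⟩ := exists_point_over hva
  obtain ⟨e, hxe, himm⟩ := hE ⊤ (isAffineOpen_top Y) x trivial
  let b : Γ(K, ⊤) := th g θ e
  let T := AmpleX.locus (th g θ e)
  let R := Subring.closure (ratioSet g θ e)
  haveI : IsImmersion (subSpec T R) := himm
  obtain ⟨h, hhR, hxh, hTh, hfrac⟩ := exists_fracAt T R hxe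
  have hamp : CohB1.IsAmple K := (AmpleX.isRelAmple_iff_isAmple g K).1 (Groth.Agent.S5721.result g K hK hva)
  obtain ⟨m, hm, σ, hxσ, hle, hWaff⟩ := AmpleX.exists_genLocus_le hamp hxh
  rw [AmpleX.genLocus_eq_locus] at hxσ hle hWaff
  let a := InvX.one σ
  let Th := X.basicOpen h
  let W := AmpleX.locus a
  have hThT : Th ≤ T := X.basicOpen_le h
  have hWT : W ≤ T := hle.trans hThT
  have hfr : InvX.IsFrame (AmpleX.powElt (AModX.res K (le_top : Th ≤ ⊤) b) m) :=
    AmpleX.isFrame_powElt (AmpleX.isFrame_res_of_le (th g θ e) hThT) m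
  obtain ⟨c, hc⟩ := hfr.exists_coord le_rfl (AModX.res _ (le_top : Th ≤ ⊤) a)
  rw [AModX.res_self] at hc
  have hWeq : W = X.basicOpen c := by
    rw [← AmpleX.locus_inf a le_top hfr hc]
    exact (inf_eq_left.2 hle).symm
  have huh : IsUnit (AModX.resR hWT h) := AModX.isUnit_resR _ _ hle
  have huc : IsUnit (AModX.resR hle c) := AModX.isUnit_resR _ _ hWeq.le
  refine ⟨m, a, b, {(↑huh.unit⁻¹ : Γ(X, W)), (↑huc.unit⁻¹ : Γ(X, W))}, Set.toFinite _, hxσ, hWaff, hWT, ?_⟩
  let S := Subring.closure (scalSet g W ∪ glRatio b W ∪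
    {(↑huh.unit⁻¹ : Γ(X, W)), (↑huc.unit⁻¹ : Γ(X, W))})
  have hRS : R ≤ S.comap (AModX.resR hWT) := by
    refine Subring.closure_le.2 ?_
    rintro v (⟨r, hr⟩ | ⟨s, hs⟩)
    · refine Subring.subset_closure (Or.inl (Or.inl ⟨r, ?_⟩))
      rw [hr]
      exact (AModX.resR_resR _ _ _).symm
    · refine Subring.subset_closure (Or.inl (Or.inr ⟨th g θ s, ?_⟩))
      have := congrArg (AModX.res K hWT) hs
      rw [AModX.res_smul] at this
      exact (AModX.res_res _ hWT _).symm.trans (this.trans (congrArg (AModX.resR hWT v • ·) (AModX.res_res _ hWT _)))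
  refine eq_top_iff.2 fun z _ => ?_
  haveI := hTh.isLocalization_of_eq_basicOpen c (homOfLE hle) hWeq
  letI : Algebra Γ(X, Th) Γ(X, W) := (X.presheaf.map (homOfLE hle).op).hom.toAlgebra
  haveI : IsLocalization.Away c Γ(X, W) := hTh.isLocalization_of_eq_basicOpen c (homOfLE hle) hWeq
  obtain ⟨N, y, hy⟩ := IsLocalization.Away.surj c z
  obtain ⟨r, hr, k, hk⟩ := hfrac y
  have hr' : AModX.resR hle y * AModX.resR hWT h ^ k = AModX.resR hWT r := by
    have := congrArg (AModX.resR hle) hk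
    rwa [map_mul, map_pow, AModX.resR_resR, AModX.resR_resR] at this
  have hy' : z * (huc.unit : Γ(X, W)) ^ N = AModX.resR hle y := by rw [IsUnit.unit_spec]; exact hy
  have hz : z = AModX.resR hWT r * (↑huh.unit⁻¹ : Γ(X, W)) ^ k * (↑huc.unit⁻¹ : Γ(X, W)) ^ N := by
    rw [← hr', mul_assoc (AModX.resR hle y), ← mul_pow, IsUnit.mul_val_inv, one_pow, mul_one, ← hy', mul_assoc,
      ← mul_pow, Units.mul_inv, one_pow, mul_one]
  have huhS : (↑huh.unit⁻¹ : Γ(X, W)) ∈ S := Subring.subset_closure (Or.inr (Set.mem_insert _ _))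
  have hucS : (↑huc.unit⁻¹ : Γ(X, W)) ∈ S := Subring.subset_closure (Or.inr (Set.mem_insert_of_mem _ rfl))
  have hrS : AModX.resR hWT r ∈ S := hRS hr
  rw [hz]
  exact mul_mem (mul_mem hrS (pow_mem huhS k)) (pow_mem hucS N)

/-- Finitely many ratios already embed, over an affine base and for a morphism of finite type. -/
theorem exists_finite_immAt {g : X ⟶ Y} [QuasiCompact g] [LocallyOfFiniteType g] {L : X.Modules}
    (hL : PicF.IsInvertible L) {E : Y.Modules} {θ : E ⟶ (Scheme.Modules.pushforward g).obj L}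
    {U : Y.Opens} (hU : IsAffineOpen U) (e : Γ(E, U)) (himm : ImmAt g θ e) :
    ∃ S ⊆ ratioSet g θ e, S.Finite ∧ IsImmersion (subSpec (AmpleX.locus (th g θ e)) (Subring.closure
      (Set.range ((AModX.resR (AmpleX.locus_le (th g θ e))).comp (g.app U).hom) ∪ S))) := by
  classical
  let T := AmpleX.locus (th g θ e)
  have hTU : T ≤ g ⁻¹ᵁ U := AmpleX.locus_le _
  let R := Subring.closure (ratioSet g θ e)
  haveI : IsImmersion (subSpec T R) := himm
  have hcpt : IsCompact (T : Set X) := by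
    obtain ⟨s, hs⟩ := (g.isCompact_preimage hU.isCompact).elim_finite_subcover
      (fun V : {V : X.affineOpens // V.1 ≤ g ⁻¹ᵁ U} => (V.1.1 : Set X)) (fun V => V.1.1.2) fun x hx => by
        obtain ⟨V, hV, hxV, hle⟩ := exists_isAffineOpen_mem_and_subset (x := x) (U := g ⁻¹ᵁ U) hx
        exact Set.mem_iUnion.2 ⟨⟨⟨V, hV⟩, hle⟩, hxV⟩
    have : (T : Set X) = ⋃ V ∈ s, ((V.1.1 ⊓ T : X.Opens) : Set X) := by
      ext x
      refine ⟨fun hx => ?_, fun hx => ?_⟩
      · obtain ⟨V, hV, hxV⟩ := Set.mem_iUnion₂.1 (hs (hTU hx))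
        exact Set.mem_iUnion₂.2 ⟨V, hV, hxV, hx⟩
      · obtain ⟨V, -, -, hx⟩ := Set.mem_iUnion₂.1 hx
        exact hx
    rw [this]
    exact s.finite_toSet.isCompact_biUnion fun V _ =>
      (AmpleX.isAffineOpen_inf_locus hL V.1.2 (th g θ e) V.2).isCompact
  have hpt : ∀ x : T, ∃ (h : Γ(X, T)) (S : Set Γ(X, T)), x.1 ∈ X.basicOpen h ∧ S.Finite ∧ S ⊆ ratioSet g θ e ∧
      ∀ (R₀ : Subring Γ(X, T)), S ⊆ R₀ → (∀ r, AModX.resR hTU (g.app U r) ∈ R₀) → h ∈ R₀ ∧ FracAt T R₀ h := by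
    intro x
    obtain ⟨h, hh, hxh, hTh, hfrac⟩ := exists_fracAt T R x.2
    have hle : X.basicOpen h ≤ g ⁻¹ᵁ U := (X.basicOpen_le h).trans hTU
    let ψ := g.appLE U (X.basicOpen h) hle
    letI : Algebra Γ(Y, U) Γ(X, X.basicOpen h) := ψ.hom.toAlgebra
    have hft : Algebra.FiniteType Γ(Y, U) Γ(X, X.basicOpen h) := g.finiteType_appLE hU hTh hle
    obtain ⟨s, hs⟩ := hft.out
    choose r hr k hk using hfrac
    have hgen : ∀ a ∈ insert h ((s.image r : Finset _) : Set Γ(X, T)), a ∈ R := by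
      intro a ha
      rcases Set.mem_insert_iff.1 ha with rfl | ha
      · exact hh
      · obtain ⟨z, -, rfl⟩ := Finset.mem_image.1 ha
        exact hr z
    choose t htfin htsub hat using fun a : (insert h ((s.image r : Finset _) : Set Γ(X, T)) : Set _) =>
      exists_finite_mem_closure (hgen a.1 a.2)
    haveI : Finite (insert h ((s.image r : Finset _) : Set Γ(X, T)) : Set _) :=
      ((s.image r).finite_toSet.insert h).to_subtype
    refine ⟨h, ⋃ a, t a, hxh, Set.finite_iUnion htfin, Set.iUnion_subset htsub, fun R₀ hS hscal => ?_⟩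
    have hmem : ∀ a ∈ insert h ((s.image r : Finset _) : Set Γ(X, T)), a ∈ R₀ := fun a ha =>
      (Subring.closure_le.2 ((Set.subset_iUnion t ⟨a, ha⟩).trans hS)) (hat ⟨a, ha⟩)
    refine ⟨hmem h (Set.mem_insert _ _), hTh, ?_⟩
    let res₀ := AModX.resR (X.basicOpen_le h)
    have hh₀ : h ∈ R₀ := hmem h (Set.mem_insert _ _)
    intro z
    have hz : z ∈ Algebra.adjoin Γ(Y, U) (s : Set Γ(X, X.basicOpen h)) := hs ▸ Algebra.mem_top
    induction hz using Algebra.adjoin_induction with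
    | mem z hz => exact ⟨r z, hmem _ (Set.mem_insert_of_mem _ (Finset.mem_image_of_mem r hz)), k z, hk z⟩
    | algebraMap a =>
      refine ⟨AModX.resR hTU (g.app U a), hscal a, 0, ?_⟩
      rw [pow_zero, mul_one, AModX.resR_resR]
      rfl
    | add z w _ _ hz hw =>
      obtain ⟨p, hp, i, hi⟩ := hz
      obtain ⟨q, hq, j, hj⟩ := hw
      refine ⟨p * h ^ j + q * h ^ i, add_mem (mul_mem hp (pow_mem hh₀ j)) (mul_mem hq (pow_mem hh₀ i)), i + j, ?_⟩
      rw [map_add, map_mul, map_mul, map_pow, map_pow, ← hi, ← hj]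
      ring
    | mul z w _ _ hz hw =>
      obtain ⟨p, hp, i, hi⟩ := hz
      obtain ⟨q, hq, j, hj⟩ := hw
      refine ⟨p * q, mul_mem hp hq, i + j, ?_⟩
      rw [map_mul, ← hi, ← hj]
      ring
  choose h S hxh hSfin hSsub hS using hpt
  obtain ⟨pts, hpts⟩ := hcpt.elim_finite_subcover (fun x : T => (X.basicOpen (h x) : Set X))
    (fun x => (X.basicOpen (h x)).2) fun x hx => Set.mem_iUnion.2 ⟨⟨x, hx⟩, hxh ⟨x, hx⟩⟩
  refine ⟨⋃ x ∈ pts, S x, Set.iUnion₂_subset fun x _ => hSsub x,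
    pts.finite_toSet.biUnion fun x _ => hSfin x, isImmersion_subSpec_of_fracAt T _ fun x hx => ?_⟩
  obtain ⟨y, hy, hxy⟩ := Set.mem_iUnion₂.1 (hpts hx)
  obtain ⟨h1, h2⟩ := hS y (Subring.closure (Set.range ((AModX.resR hTU).comp (g.app U).hom) ∪ ⋃ x ∈ pts, S x))
    ((Set.subset_biUnion_of_mem (u := fun x => S x) hy).trans
      (Set.subset_union_right.trans Subring.subset_closure))
    fun r => Subring.subset_closure (Or.inl ⟨r, rfl⟩)
  exact ⟨h y, h1, hxy, h2⟩

end Groth.Agent.SymX
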