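import Groth.Agent.SymX.VeryAmpleBC
import Groth.Agent.AmpleX.Sect
import Groth.Agent.KFlatLib.Scheme.PullTensor
import Groth.Agent.KFlatLib.Scheme.QCohTensor

/-!
# Sections generating a tensor product
-/

set_option linter.style.haveILetI false
set_option linter.unusedSectionVars false
set_option backward.isDefEq.respectTransparency false
set_option backward.isDefEq.respectTransparency.types false

noncomputable section

universe u

open CategoryTheory CategoryTheory.Limits AlgebraicGeometry TopologicalSpace Opposite MonoidalCategory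

namespace Groth.Agent.SymX

open Groth.Agent

variable {X Y : Scheme.{u}}

lemma tmul_add_left {M N : X.Modules} {U : X.Opens} (a a' : Γ(M, U)) (b : Γ(N, U)) :
    InvX.tmul (a + a') b = InvX.tmul a b + InvX.tmul a' b :=
  (congrArg _ (KFlatLib.tm_add_left (P := CohB1.toPMod M) (Q := CohB1.toPMod N) a a' b)).trans (map_add _ _ _)

lemma tmul_add_right {M N : X.Modules} {U : X.Opens} (a : Γ(M, U)) (b b' : Γ(N, U)) :
    InvX.tmul a (b + b') = InvX.tmul a b + InvX.tmul a b' :=
  (congrArg _ (KFlatLib.tm_add_right (P := CohB1.toPMod M) (Q := CohB1.toPMod N) a b b')).trans (map_add _ _ _)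

lemma isQCoh_tensorMod {E E' : Y.Modules} (hE : Coh.IsQCoh E) (hE' : Coh.IsQCoh E') :
    Coh.IsQCoh (CohB1.tensorMod E E') :=
  KFlatLib.isQCoh_tensor hE hE'

variable {E E' : Y.Modules} {g : X ⟶ Y} {L L' : X.Modules}

lemma th_add (θ : E ⟶ (Scheme.Modules.pushforward g).obj L) {U : Y.Opens} (e e₁ : Γ(E, U)) :
    th g θ (e + e₁) = th g θ e + th g θ e₁ :=
  map_add (θ.app U).hom e e₁

lemma th_smul (θ : E ⟶ (Scheme.Modules.pushforward g).obj L) {U : Y.Opens} (a : Γ(Y, U)) (e : Γ(E, U)) :
    th g θ (a • e) = g.app U a • th g θ e :=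
  Scheme.Modules.Hom.app_smul θ a e

lemma th_res (θ : E ⟶ (Scheme.Modules.pushforward g).obj L) {U V : Y.Opens} (h : V ≤ U) (e : Γ(E, U)) :
    th g θ (AModX.res E h e) = AModX.res L (g.preimage_mono h) (th g θ e) :=
  AModX.app_res θ h e

lemma th_comp {M : X.Modules} (θ : E ⟶ (Scheme.Modules.pushforward g).obj L) (u : L ⟶ M) {U : Y.Opens}
    (e : Γ(E, U)) : th g (θ ≫ (Scheme.Modules.pushforward g).map u) e = u.app (g ⁻¹ᵁ U) (th g θ e) :=
  rfl

/-- The products of sections, before sheafification. -/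
def tensorThetaPre (θ : E ⟶ (Scheme.Modules.pushforward g).obj L)
    (θ' : E' ⟶ (Scheme.Modules.pushforward g).obj L') :
    DCoh.toP.obj E ⊗ DCoh.toP.obj E' ⟶
      DCoh.toP.obj ((Scheme.Modules.pushforward g).obj (CohB1.tensorMod L L')) where
  app U := ModuleCat.MonoidalCategory.tensorLift
    (fun s t => InvX.tmul (th g θ (U := U.unop) s) (th g θ' (U := U.unop) t))
    (fun s s' t => (congrArg (fun z => InvX.tmul z (th g θ' (U := U.unop) t))
      (th_add θ (U := U.unop) s s')).trans (tmul_add_left _ _ _))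
    (fun r s t => (congrArg (fun z => InvX.tmul z (th g θ' (U := U.unop) t))
      (th_smul θ (U := U.unop) r s)).trans (InvX.tmul_smul_left _ _ _))
    (fun s t t' => (congrArg (InvX.tmul (th g θ (U := U.unop) s))
      (th_add θ' (U := U.unop) t t')).trans (tmul_add_right _ _ _))
    (fun r s t => (congrArg (InvX.tmul (th g θ (U := U.unop) s))
      (th_smul θ' (U := U.unop) r t)).trans (InvX.tmul_smul_right _ _ _))
  naturality {U V} i := by
    refine ModuleCat.MonoidalCategory.tensor_ext fun s t => ?_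
    refine Eq.trans (congrArg₂ InvX.tmul (th_res θ i.unop.le s) (th_res θ' i.unop.le t)) ?_
    exact (InvX.res_tmul (g.preimage_mono i.unop.le) _ _).symm

/-- The products of sections of two modules. -/
def tensorTheta (θ : E ⟶ (Scheme.Modules.pushforward g).obj L)
    (θ' : E' ⟶ (Scheme.Modules.pushforward g).obj L') :
    CohB1.tensorMod E E' ⟶ (Scheme.Modules.pushforward g).obj (CohB1.tensorMod L L') :=
  ((PresheafOfModules.sheafificationAdjunction (𝟙 Y.ringCatSheaf.obj)).homEquiv _ _).symm
    (tensorThetaPre θ θ')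

lemma th_tensorTheta (θ : E ⟶ (Scheme.Modules.pushforward g).obj L)
    (θ' : E' ⟶ (Scheme.Modules.pushforward g).obj L') {U : Y.Opens} (e : Γ(E, U)) (e' : Γ(E', U)) :
    th g (tensorTheta θ θ') (InvX.tmul e e') = InvX.tmul (th g θ e) (th g θ' e') := by
  have h := ((PresheafOfModules.sheafificationAdjunction (𝟙 Y.ringCatSheaf.obj)).homEquiv _
    _).apply_symm_apply (tensorThetaPre θ θ')
  exact congrArg (fun w : DCoh.toP.obj E ⊗ DCoh.toP.obj E' ⟶ _ => w.app (op U) (KFlatLib.tm e e')) h

end Groth.Agent.SymX
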