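import Groth.Agent.SymX.SectLocus
import Groth.Agent.SymX.TensorTheta

/-!
# The degree one part of the symmetric algebra of an invertible module
-/

set_option linter.style.haveILetI false
set_option linter.unusedSectionVars false
set_option backward.isDefEq.respectTransparency false
set_option backward.isDefEq.respectTransparency.types false

noncomputable section

universe u

open CategoryTheory CategoryTheory.Limits AlgebraicGeometry TopologicalSpace Opposite

namespace Groth.Agent.SymX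

open Groth.Agent

variable {X Y : Scheme.{u}} {q : X ⟶ Y} {L : X.Modules} {𝒮L : RelProj.QCGrAlg X} {j : L ⟶ 𝒮L.toModule}
  (hL : PicF.IsInvertible L) (hLq : Coh.IsQCoh L) (hj : RelProj.IsGrSymAlg L 𝒮L j)

include hL hLq hj in
/-- The structure map is injective on sections. -/
theorem j_app_injective (W : X.Opens) : Function.Injective (j.app W) := by
  intro a a' h
  rw [← sub_eq_zero]
  refine AModX.eq_of_locally _ _ fun p hp => ?_
  obtain ⟨U, hpU, e, he⟩ := InvX.exists_frame hL p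
  obtain ⟨_, ⟨V, hV, rfl⟩, hpV, hVsub⟩ := X.isBasis_affineOpens.exists_subset_of_mem_open
    (a := p) (u := ((U ⊓ W : X.Opens) : Set X)) ⟨hpU, hp⟩ (U ⊓ W).isOpen
  have iW : V ≤ W := fun y hy => (hVsub hy).2
  refine ⟨V, iW, hpV, ?_⟩
  have he' := he.res (fun y hy => (hVsub hy).1 : V ≤ U)
  obtain ⟨r, hr⟩ := he'.exists_coord le_rfl (AModX.res L iW (a - a'))
  rw [AModX.res_self] at hr
  have h0 : (show 𝒮L.presheaf.obj (op V) from j.app V (AModX.res L iW (a - a'))) = 0 := by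
    rw [← map_j iW, show (show 𝒮L.presheaf.obj (op W) from j.app W (a - a')) = 0 from
      (map_sub (j.app W).hom a a').trans (sub_eq_zero.mpr h), map_zero]
  rw [map_zero, hr, coeff_eq_zero hLq hj hV he' (r := r) (N := 1) (by
    rw [pow_one, ← j_smul _, ← hr]; exact h0), zero_smul]

include hL hLq hj in
/-- Sections of degree one come from the module. -/
theorem exists_j_app_eq {W : X.Opens} (τ : 𝒮L.presheaf.obj (op W)) (hτ : IsHomOn 𝒮L W 1 τ) :
    ∃ a : Γ(L, W), (show 𝒮L.presheaf.obj (op W) from j.app W a) = τ := by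
  have hloc : ∀ p : (W : Set X), ∃ (V : X.Opens) (i : V ≤ W) (_ : p.1 ∈ V) (a : Γ(L, V)),
      (show 𝒮L.presheaf.obj (op V) from j.app V a) = (𝒮L.presheaf.map (homOfLE i).op).hom τ := fun p => by
    obtain ⟨U, hpU, e, he⟩ := InvX.exists_frame hL p.1
    obtain ⟨_, ⟨V, hV, rfl⟩, hpV, hVsub⟩ := X.isBasis_affineOpens.exists_subset_of_mem_open
      (a := p.1) (u := ((U ⊓ W : X.Opens) : Set X)) ⟨hpU, p.2⟩ (U ⊓ W).isOpen
    have iW : V ≤ W := fun y hy => (hVsub hy).2
    obtain ⟨r, hr⟩ := exists_coeff hLq hj hV (he.res (fun y hy => (hVsub hy).1 : V ≤ U)) (hτ V hV iW)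
    exact ⟨V, iW, hpV, r • AModX.res L _ e, by rw [j_smul _, hr, pow_one]⟩
  choose V i hp a ha using hloc
  obtain ⟨T, hT, -⟩ := AModX.existsUnique_glue (M := L) (V := W) V i
    (fun p hpW => ⟨⟨p, hpW⟩, hp ⟨p, hpW⟩⟩) a fun x y => j_app_injective hL hLq hj _ (by
      show (show 𝒮L.presheaf.obj (op (V x ⊓ V y)) from _) = (show 𝒮L.presheaf.obj (op (V x ⊓ V y)) from _)
      rw [← map_j, ← map_j, ha, ha,
        map_map (i x) (inf_le_left : V x ⊓ V y ≤ V x) ((inf_le_left : V x ⊓ V y ≤ V x).trans (i x)),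
        map_map (i y) (inf_le_right : V x ⊓ V y ≤ V y) ((inf_le_left : V x ⊓ V y ≤ V x).trans (i x))])
  refine ⟨T, toModule_ext (A := 𝒮L.toQCAlg) _ _ fun p hpW => ⟨V ⟨p, hpW⟩, i _, hp _, ?_⟩⟩
  show (𝒮L.presheaf.map (homOfLE (i _)).op).hom (show 𝒮L.presheaf.obj (op W) from j.app W T) = _
  rw [map_j, hT, ha]

include hL hLq hj in
/-- The homomorphism into the direct image given by a graded morphism in degree one. -/
theorem exists_theta {F : Y.Modules} {𝒯 : RelProj.QCGrAlg Y} {jF : F ⟶ 𝒯.toModule}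
    (hdeg : ∀ (U : Y.Opens) (hU : IsAffineOpen U) (x : Γ(F, U)), jF.app U x ∈ 𝒯.deg U hU 1)
    (u : RelProj.QGrHom q 𝒯 𝒮L) :
    ∃ θ : F ⟶ (Scheme.Modules.pushforward q).obj L, ∀ (U : Y.Opens) (x : Γ(F, U)),
      (u.app U).hom (jF.app U x) = (show 𝒮L.presheaf.obj (op (q ⁻¹ᵁ U)) from j.app (q ⁻¹ᵁ U) (th q θ x)) := by
  classical
  have hpre : ∀ (a : Y.AffineZariskiSite) (x : Γ(F, a.1)), ∃ y : Γ(L, q ⁻¹ᵁ a.1),
      (show 𝒮L.presheaf.obj (op (q ⁻¹ᵁ a.1)) from j.app (q ⁻¹ᵁ a.1) y) = (u.app a.1).hom (jF.app a.1 x) :=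
    fun a x => exists_j_app_eq hL hLq hj _ fun V hV i => u.map_mem a.1 a.2 V hV i (hdeg a.1 a.2 x)
  choose g hg using hpre
  let f : ∀ a : Y.AffineZariskiSite, Γ(F, a.1) →ₗ[Γ(Y, a.1)] Γ((Scheme.Modules.pushforward q).obj L, a.1) := fun a =>
    { toFun := g a
      map_add' := fun x y => j_app_injective hL hLq hj _ (by
        show (show 𝒮L.presheaf.obj (op (q ⁻¹ᵁ a.1)) from j.app _ (g a (x + y))) =
          (show 𝒮L.presheaf.obj (op (q ⁻¹ᵁ a.1)) from j.app _ (g a x + g a y))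
        rw [hg, map_add]
        refine (map_add (u.app a.1).hom _ _).trans ?_
        rw [← hg, ← hg]
        exact (map_add (j.app (q ⁻¹ᵁ a.1)).hom (g a x) (g a y)).symm)
      map_smul' := fun r x => j_app_injective hL hLq hj _ (by
        show (show 𝒮L.presheaf.obj (op (q ⁻¹ᵁ a.1)) from j.app _ (g a (r • x))) =
          (show 𝒮L.presheaf.obj (op (q ⁻¹ᵁ a.1)) from j.app _ (q.app a.1 r • g a x))
        rw [hg, j_smul _, hg,
          show jF.app a.1 (r • x) = (𝒯.str.app (op a.1)).hom r * (show 𝒯.presheaf.obj (op a.1) from jF.app a.1 x) from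
            Scheme.Modules.Hom.app_smul jF r x, map_mul]
        exact congrArg (· * _) (ConcreteCategory.congr_hom (u.str_app a.1) r)) }
  obtain ⟨θ, hθ⟩ := exists_homModule F ((Scheme.Modules.pushforward q).obj L) f fun {a b} h x => by
    refine j_app_injective hL hLq hj _ ?_
    show (show 𝒮L.presheaf.obj (op (q ⁻¹ᵁ b.1)) from j.app _ (g b _)) =
      (show 𝒮L.presheaf.obj (op (q ⁻¹ᵁ b.1)) from j.app _ (AModX.res L (q.preimage_mono (Scheme.AffineZariskiSite.toOpens_mono h)) (g a x)))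
    rw [hg, ← map_j, hg]
    refine Eq.trans (congrArg (u.app b.1).hom (AModX.app_res jF _ x)) ?_
    exact (ConcreteCategory.congr_hom (u.naturality (Scheme.AffineZariskiSite.toOpens_mono h)) _).symm
  refine ⟨θ, fun U x => ?_⟩
  refine toModule_ext (A := 𝒮L.toQCAlg) _ _ fun p hp => ?_
  obtain ⟨_, ⟨W, hW, rfl⟩, hpW, hWU⟩ := Y.isBasis_affineOpens.exists_subset_of_mem_open
    (show q p ∈ U from hp) U.2
  refine ⟨q ⁻¹ᵁ W, q.preimage_mono hWU, hpW, ?_⟩
  show (𝒮L.presheaf.map (homOfLE (q.preimage_mono hWU)).op).hom ((u.app U).hom (jF.app U x)) =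
    (𝒮L.presheaf.map (homOfLE (q.preimage_mono hWU)).op).hom
      (show 𝒮L.presheaf.obj (op (q ⁻¹ᵁ U)) from j.app (q ⁻¹ᵁ U) (th q θ x))
  rw [map_j, ← th_res θ hWU]
  refine Eq.trans (ConcreteCategory.congr_hom (u.naturality hWU) _) ?_
  show (u.app W).hom ((𝒯.presheaf.map (homOfLE hWU).op).hom (jF.app U x)) = _
  refine Eq.trans (congrArg (u.app W).hom (AModX.app_res jF hWU x).symm) ?_
  rw [← hg ⟨W, hW⟩]
  exact congrArg (fun z => (show 𝒮L.presheaf.obj (op (q ⁻¹ᵁ W)) from j.app (q ⁻¹ᵁ W) z)) (hθ ⟨W, hW⟩ _).symm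

end Groth.Agent.SymX
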