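import Groth.Agent.SymX.SymAlg
import Groth.Prelude.Def_RelProj4

/-!
# Graded morphisms over a morphism of schemes out of a symmetric algebra
-/

set_option linter.style.haveILetI false
set_option linter.unusedSectionVars false
set_option backward.isDefEq.respectTransparency false
set_option backward.isDefEq.respectTransparency.types false

noncomputable section

universe u

open CategoryTheory CategoryTheory.Limits AlgebraicGeometry TopologicalSpace Opposite

namespace Groth.Agent.SymX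

open Groth.Agent

variable {X Y : Scheme.{u}} {q : X ⟶ Y}

/-- A morphism of algebras over a morphism of schemes from ring maps on the affine opens. -/
theorem exists_qHom (A : RelSpec.QCAlg Y) (B : RelSpec.QCAlg X)
    (f : ∀ a : Y.AffineZariskiSite, A.presheaf.obj (op a.1) ⟶ B.presheaf.obj (op (q ⁻¹ᵁ a.1)))
    (hf : ∀ {a b : Y.AffineZariskiSite} (h : b ≤ a),
      A.presheaf.map (homOfLE (Scheme.AffineZariskiSite.toOpens_mono h)).op ≫ f b =
        f a ≫ B.presheaf.map (homOfLE (q.preimage_mono (Scheme.AffineZariskiSite.toOpens_mono h))).op)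
    (hstr : ∀ a : Y.AffineZariskiSite, A.str.app (op a.1) ≫ f a = q.app a.1 ≫ B.str.app (op (q ⁻¹ᵁ a.1))) :
    ∃ u : RelSpec.QHom q A B, ∀ a : Y.AffineZariskiSite, u.app a.1 = f a := by
  let G := Scheme.AffineZariskiSite.toOpensFunctor Y
  let F' : TopCat.Sheaf CommRingCat.{u} Y.carrier :=
    (TopCat.Sheaf.pushforward CommRingCat.{u} q.base).obj ⟨B.presheaf, B.isSheaf⟩
  let α : G.op ⋙ A.presheaf ⟶ G.op ⋙ F'.1 :=
    { app := fun a => f a.unop
      naturality := fun a b i => hf (leOfHom i.unop) }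
  let e := Functor.IsCoverDense.restrictHomEquivHom (G := G) (K := Opens.grothendieckTopology Y)
    (ℱ := A.presheaf) (ℱ' := F')
  have hψ : ∀ a : Y.AffineZariskiSite, (e α).app (op a.1) = f a := fun a =>
    NatTrans.congr_app (e.symm_apply_apply α) (op a)
  let β : Y.presheaf ⟶ F'.1 :=
    { app := fun U => q.app U.unop ≫ B.str.app (op (q ⁻¹ᵁ U.unop))
      naturality := fun U V i => by
        refine Eq.trans ?_ (Category.assoc _ _ _).symm
        erw [Scheme.Hom.naturality_assoc]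
        exact congrArg (q.app U.unop ≫ ·) (B.str.naturality _) }
  have hcomp : A.str ≫ e α = β := by
    refine (Functor.IsCoverDense.restrictHomEquivHom (G := G) (K := Opens.grothendieckTopology Y)
      (ℱ := Y.presheaf) (ℱ' := F')).symm.injective ?_
    ext a : 2
    show A.str.app (op a.unop.1) ≫ (e α).app (op a.unop.1) = _
    rw [hψ]
    exact hstr a.unop
  exact ⟨⟨fun U => (e α).app (op U), fun i => ((e α).naturality (homOfLE i).op).symm,
    fun U => NatTrans.congr_app hcomp (op U)⟩, hψ⟩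

/-- A graded morphism out of a symmetric algebra from sections of degree one. -/
theorem exists_symQGrHom {E : Y.Modules} {𝒯 : RelProj.QCGrAlg Y} {jE : E ⟶ 𝒯.toModule} (C : Chartwise E 𝒯 jE)
    (𝒮' : RelProj.QCGrAlg X) (f : E ⟶ (Scheme.Modules.pushforward q).obj 𝒮'.toModule)
    (hf : ∀ (U : Y.Opens) (_ : IsAffineOpen U) (V : X.Opens) (hV : IsAffineOpen V) (hle : V ≤ q ⁻¹ᵁ U)
      (x : Γ(E, U)), (𝒮'.presheaf.map (homOfLE hle).op).hom
        (show 𝒮'.presheaf.obj (op (q ⁻¹ᵁ U)) from f.app U x) ∈ 𝒮'.deg V hV 1) :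
    ∃ u : RelProj.QGrHom q 𝒯 𝒮', ∀ (U : Y.Opens) (x : Γ(E, U)),
      (u.app U).hom (jE.app U x) = (show 𝒮'.presheaf.obj (op (q ⁻¹ᵁ U)) from f.app U x) := by
  classical
  have hlift : ∀ a : Y.AffineZariskiSite,
      ∃ L : SymmetricAlgebra Γ(Y, a.1) Γ(E, a.1) →+* 𝒮'.presheaf.obj (op (q ⁻¹ᵁ a.1)),
      (∀ r, L (algebraMap _ _ r) = (𝒮'.str.app (op (q ⁻¹ᵁ a.1))).hom (q.app a.1 r)) ∧
      ∀ x, L (SymmetricAlgebra.ι _ _ x) = f.app a.1 x := fun a => by
    letI : Algebra Γ(Y, a.1) (𝒮'.presheaf.obj (op (q ⁻¹ᵁ a.1))) :=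
      ((𝒮'.str.app (op (q ⁻¹ᵁ a.1))).hom.comp (q.app a.1).hom).toAlgebra
    let l : Γ(E, a.1) →ₗ[Γ(Y, a.1)] 𝒮'.presheaf.obj (op (q ⁻¹ᵁ a.1)) :=
      { toFun := fun x => f.app a.1 x
        map_add' := fun x y => map_add _ x y
        map_smul' := fun r x => Scheme.Modules.Hom.app_smul f r x }
    exact ⟨(SymmetricAlgebra.lift l).toRingHom, fun r => AlgHom.commutes _ r,
      fun x => SymmetricAlgebra.lift_ι_apply l x⟩
  choose L hL0 hL1 using hlift
  obtain ⟨v, hv⟩ := exists_qHom 𝒯.toQCAlg 𝒮'.toQCAlg (q := q) (fun a => (C.φ a).hom ≫ CommRingCat.ofHom (L a))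
    (fun {a b} h => by
      rw [← Category.assoc, ← C.natural a b (homOfLE h), Category.assoc, Category.assoc]
      congr 1
      refine CommRingCat.hom_ext (ringHom_ext (fun r => ?_) fun x => ?_)
      · show L b (symMap (resLin E h) (algebraMap _ _ r)) = (𝒮'.presheaf.map _).hom (L a (algebraMap _ _ r))
        rw [symMap_algebraMap, hL0, hL0]
        refine Eq.trans (congrArg _ ?_) (ConcreteCategory.congr_hom (𝒮'.str.naturality _) _)
        exact ConcreteCategory.congr_hom (q.naturality (homOfLE (Scheme.AffineZariskiSite.toOpens_mono h)).op) r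
      · show L b (symMap (resLin E h) (SymmetricAlgebra.ι _ _ x)) = (𝒮'.presheaf.map _).hom (L a (SymmetricAlgebra.ι _ _ x))
        rw [symMap_ι, hL1, hL1]
        exact AModX.app_res f _ x)
    (fun a => by
      rw [← Category.assoc, C.str]
      exact CommRingCat.hom_ext (RingHom.ext fun r => hL0 a r))
  have hgen : ∀ (a : Y.AffineZariskiSite) (x : Γ(E, a.1)), (v.app a.1).hom (jE.app a.1 x) =
      (show 𝒮'.presheaf.obj (op (q ⁻¹ᵁ a.1)) from f.app a.1 x) := fun a x => by
    rw [hv]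
    show L a ((C.φ a).hom (jE.app a.1 x)) = _
    rw [C.j_app, hL1]
  refine ⟨⟨v, fun U hU V hV hle d z hz => ?_⟩, fun U x => ?_⟩
  · let a : Y.AffineZariskiSite := ⟨U, hU⟩
    show (𝒮'.presheaf.map (homOfLE hle).op).hom ((v.app a.1).hom z) ∈ _
    replace hz : (C.φ a).hom z ∈ symDeg Γ(Y, a.1) Γ(E, a.1) d := (C.deg_iff a d z).1 hz
    rw [show z = (C.φ a).inv ((C.φ a).hom z) from (Iso.hom_inv_id_apply (C.φ a) z).symm]
    revert hz
    generalize (C.φ a).hom z = w
    intro hw
    induction hw using Submodule.pow_induction_on_left' with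
    | algebraMap r =>
      erw [show algebraMap _ (SymmetricAlgebra Γ(Y, a.1) Γ(E, a.1)) r = (C.φ a).hom ((𝒯.str.app (op a.1)).hom r) from
          congr($(C.str a).hom r).symm]
      rw [Iso.hom_inv_id_apply]
      erw [ConcreteCategory.congr_hom (v.str_app a.1) r]
      rw [CommRingCat.comp_apply]
      erw [← ConcreteCategory.congr_hom (𝒮'.str.naturality (homOfLE hle).op)]
      exact 𝒮'.str_mem V hV _
    | add x y i hx hy ihx ihy =>
      rw [map_add, map_add, map_add]
      exact add_mem ihx ihy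
    | mem_mul m hm i x hx ih =>
      obtain ⟨m, rfl⟩ := hm
      rw [map_mul, map_mul, map_mul, ← C.j_app, Iso.hom_inv_id_apply, Nat.succ_eq_add_one, add_comm i 1, hgen]
      exact SetLike.mul_mem_graded (hf a.1 a.2 V hV hle m) ih
  · show (v.app U).hom (jE.app U x) = _
    refine AModX.eq_of_locally (M := 𝒮'.toModule) (V := q ⁻¹ᵁ U) _ _ fun p hp => ?_
    obtain ⟨_, ⟨W, hW, rfl⟩, hpW, hWU⟩ := Y.isBasis_affineOpens.exists_subset_of_mem_open
      (show q p ∈ U from hp) U.2
    refine ⟨q ⁻¹ᵁ W, q.preimage_mono hWU, hpW, ?_⟩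
    show (𝒮'.presheaf.map (homOfLE (q.preimage_mono hWU)).op).hom ((v.app U).hom (jE.app U x)) = _
    refine Eq.trans (ConcreteCategory.congr_hom (v.naturality hWU) _) ?_
    show (v.app W).hom ((𝒯.presheaf.map (homOfLE hWU).op).hom (jE.app U x)) = _
    refine Eq.trans (congrArg (v.app W).hom (AModX.app_res jE hWU x).symm) ?_
    exact (hgen ⟨W, hW⟩ _).trans (AModX.app_res f hWU x)

end Groth.Agent.SymX
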