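import Groth.Agent.SymX.LineBundle
import Groth.Agent.RelTildeX.SheafCrit
import Groth.Agent.DivX.MeroMod
import Groth.Agent.Proj16.RelExist
import Groth.Agent.ProjUPX.Affine

/-!
# The tautological quotient on a projective bundle
-/

set_option linter.style.haveILetI false
set_option linter.unusedSectionVars false
set_option backward.isDefEq.respectTransparency false
set_option backward.isDefEq.respectTransparency.types false

noncomputable section

universe u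

open CategoryTheory CategoryTheory.Limits AlgebraicGeometry TopologicalSpace Opposite HomogeneousLocalization
open scoped HomogeneousIdeal

namespace Groth.Agent.SymX

open Groth.Agent

section ring

variable {R A σ : Type u} [CommRing R] [CommRing A] [SetLike σ A] [AddSubgroupClass σ A]
  {𝒜 : ℕ → σ} [GradedRing 𝒜]

/-- The structure map of `Proj` over the degree zero scalars, on a basic open. -/
theorem appLE_toSpecZero (str : CommRingCat.of R ⟶ CommRingCat.of (𝒜 0)) {g : A} {d : ℕ} (hg : g ∈ 𝒜 d) (hd : 0 < d) (c : R) :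
    (Proj.toSpecZero 𝒜 ≫ Spec.map str).appLE ⊤ (Proj.basicOpen 𝒜 g) le_top
      ((Scheme.ΓSpecIso (CommRingCat.of R)).inv c) =
    (Proj.awayToSection 𝒜 g).hom (fromZeroRingHom 𝒜 _ (str.hom c)) := by
  set f := Proj.toSpecZero 𝒜 ≫ Spec.map str with hf
  let D := Proj.basicOpen 𝒜 g
  have hι : D.ι ≫ f = Proj.basicOpenToSpec 𝒜 g ≫
      Spec.map (str ≫ CommRingCat.ofHom (fromZeroRingHom 𝒜 _)) := by
    show (Proj.basicOpen 𝒜 g).ι ≫ f = _
    rw [hf, ← Proj.basicOpenIsoSpec_hom 𝒜 g hg hd, Spec.map_comp,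
      ← Proj.awayι_toSpecZero_assoc 𝒜 g hg hd, ← Proj.basicOpenIsoSpec_inv_ι 𝒜 g hg hd,
      Category.assoc, Iso.hom_inv_id_assoc]
  clear_value f
  have h : (Scheme.ΓSpecIso (CommRingCat.of R)).inv ≫ f.appLE ⊤ D le_top ≫ D.topIso.inv =
      (str ≫ CommRingCat.ofHom (fromZeroRingHom 𝒜 _)) ≫ Proj.awayToSection 𝒜 g ≫ D.topIso.inv := by
    have h1 : (D.ι ≫ f).appTop = (Proj.basicOpenToSpec 𝒜 g ≫
        Spec.map (str ≫ CommRingCat.ofHom (fromZeroRingHom 𝒜 _))).appTop := by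
      rw [hι]
    rw [Scheme.Hom.comp_appTop, Scheme.Hom.comp_appTop, show (Proj.basicOpenToSpec 𝒜 g).appTop = _ from
      Proj.basicOpenToSpec_app_top 𝒜 g] at h1
    have h2 := congrArg ((Scheme.ΓSpecIso (CommRingCat.of R)).inv ≫ ·) h1
    dsimp at h2
    rw [← Scheme.ΓSpecIso_inv_naturality_assoc, Iso.inv_hom_id_assoc] at h2
    refine Eq.trans ?_ h2
    congr 1
  simp only [← Category.assoc, cancel_mono] at h
  exact congrArg (fun φ => φ.hom c) h

end ring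

variable {Y P : Scheme.{u}} {E : Y.Modules} {𝒮 : RelProj.QCGrAlg Y} {p : P ⟶ Y}
  {chart : ∀ (U : Y.Opens) (hU : IsAffineOpen U), (((p ⁻¹ᵁ U : P.Opens) : Scheme.{u}) ≅ Proj (𝒮.deg U hU))}

lemma emb_comp (hP : RelProj.IsRelProj 𝒮 p chart) (U : Y.Opens) (hU : IsAffineOpen U) :
    RelProj.emb p chart U hU ≫ p =
      (Proj.toSpecZero (𝒮.deg U hU) ≫ Spec.map (𝒮.strZero U hU)) ≫ hU.fromSpec := by
  rw [RelProj.emb, Category.assoc, ← hP.chart_over, Iso.inv_hom_id_assoc, Category.assoc]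

/-- The pullback of a function from the base, read in a chart. -/
lemma emb_app_val (hP : RelProj.IsRelProj 𝒮 p chart) (U : Y.Opens) (hU : IsAffineOpen U) (r : Γ(Y, U))
    (y : (RelProj.emb p chart U hU ⁻¹ᵁ (p ⁻¹ᵁ U) : (Proj (𝒮.deg U hU)).Opens)) :
    (((RelProj.emb p chart U hU).app (p ⁻¹ᵁ U) (p.app U r)).1 y : GrTwist.A0 (𝒮.deg U hU) y.1).val =
      algebraMap (𝒮.presheaf.obj (op U)) (GrTwist.Loc (𝒮.deg U hU) y.1) ((𝒮.str.app (op U)).hom r) := by
  obtain ⟨f, hd, hf⟩ : ∃ (f : 𝒮.presheaf.obj (op U)), (∃ d, 0 < d ∧ f ∈ 𝒮.deg U hU d) ∧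
      y.1 ∈ Proj.basicOpen (𝒮.deg U hU) f := by
    by_contra! h
    refine y.1.not_irrelevant_le ?_
    rw [HomogeneousIdeal.irrelevant_le]
    intro i hi b hb
    exact not_not.1 (h b ⟨i, hi, hb⟩)
  obtain ⟨d, hd0, hfd⟩ := hd
  have hle : Proj.basicOpen (𝒮.deg U hU) f ≤ RelProj.emb p chart U hU ⁻¹ᵁ (p ⁻¹ᵁ U) := fun z _ => by
    show RelProj.emb p chart U hU z ∈ p ⁻¹ᵁ U
    rw [← RelTildeX.opensRange_emb p chart U hU]
    exact ⟨z, rfl⟩
  have h1 : (RelProj.emb p chart U hU ≫ p).appLE U (Proj.basicOpen (𝒮.deg U hU) f) hle r =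
      (Proj.awayToSection (𝒮.deg U hU) f).hom (fromZeroRingHom (𝒮.deg U hU) _ ((𝒮.strZero U hU).hom r)) := by
    simp only [emb_comp hP U hU]
    rw [← Scheme.Hom.appLE_comp_appLE _ _ U ⊤ _ hU.fromSpec_preimage_self.ge le_top, CommRingCat.comp_apply,
      ← appLE_toSpecZero (𝒮.strZero U hU) hfd hd0 r]
    congr 1
    rw [Scheme.Hom.appLE, IsAffineOpen.fromSpec_app_self, CommRingCat.comp_apply, CommRingCat.comp_apply,
      ← CommRingCat.comp_apply ((Spec Γ(Y, U)).presheaf.map _), ← Functor.map_comp]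
    erw [(Spec Γ(Y, U)).presheaf.map_id]
    rfl
  have h2 : ((RelProj.emb p chart U hU).app (p ⁻¹ᵁ U) (p.app U r)).1 y =
      ((RelProj.emb p chart U hU ≫ p).appLE U (Proj.basicOpen (𝒮.deg U hU) f) hle r).1 ⟨y.1, hf⟩ := rfl
  rw [h2, h1]
  exact (ProjectiveSpectrum.Proj.awayToSection_apply (𝒜 := 𝒮.deg U hU) f _ ⟨y.1, hf⟩).trans
    ((congrArg _ (show (fromZeroRingHom (𝒮.deg U hU) (Submonoid.powers f) ((𝒮.strZero U hU).hom r)).val =
      algebraMap _ _ ((𝒮.str.app (op U)).hom r) from Localization.mk_one_eq_algebraMap _)).trans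
      (IsLocalization.map_eq _ _))

variable {O1 : P.Modules} {lam : ∀ (U : Y.Opens) (hU : IsAffineOpen U),
    O1 ⟶ (Scheme.Modules.pushforward (RelProj.emb p chart U hU)).obj (GrTwist.twist (𝒮.deg U hU) 1)}
  {j : E ⟶ 𝒮.toModule}

/-- The section of `O(1)` given by a section of the module. -/
lemma exists_tautSect (hO1 : RelProj.IsRelTwist 𝒮 p chart 1 O1 lam)
    (hj : ∀ (U : Y.Opens) (hU : IsAffineOpen U) (x : Γ(E, U)), (j.app U) x ∈ 𝒮.deg U hU 1)
    (U : Y.Opens) (hU : IsAffineOpen U) (e : Γ(E, U)) :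
    ∃ s : Γ(O1, p ⁻¹ᵁ U), ∀ y, ProjX.cval lam U hU s y =
      algebraMap (𝒮.presheaf.obj (op U)) (GrTwist.Loc (𝒮.deg U hU) y.1) (show 𝒮.presheaf.obj (op U) from j.app U e) := by
  obtain ⟨s, hs⟩ := (hO1.bijective U hU (p ⁻¹ᵁ U) le_rfl).2
    ((GrTwist.twist (𝒮.deg U hU) 1).presheaf.map
      (homOfLE (le_top : RelProj.emb p chart U hU ⁻¹ᵁ (p ⁻¹ᵁ U) ≤ ⊤)).op
      (ProjX.degSec (𝒮.deg U hU) (hj U hU e) : Γ(GrTwist.twist (𝒮.deg U hU) ((1 : ℕ) : ℤ), ⊤)))
  refine ⟨s, fun y => ?_⟩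
  rw [ProjX.cval, hs]
  exact Localization.mk_one_eq_algebraMap _

/-- The canonical map from a module into the direct image of `O(1)` of its projective bundle. -/
theorem exists_tautMap (hP : RelProj.IsRelProj 𝒮 p chart) (hO1 : RelProj.IsRelTwist 𝒮 p chart 1 O1 lam)
    (hj : ∀ (U : Y.Opens) (hU : IsAffineOpen U) (x : Γ(E, U)), (j.app U) x ∈ 𝒮.deg U hU 1) :
    ∃ φ : E ⟶ (Scheme.Modules.pushforward p).obj O1,
      ∀ (U : Y.Opens) (hU : IsAffineOpen U) (e : Γ(E, U))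
        (y : ↥(RelProj.emb p chart U hU ⁻¹ᵁ (p ⁻¹ᵁ U))),
        GrTwist.val (V := RelProj.emb p chart U hU ⁻¹ᵁ (p ⁻¹ᵁ U))
            ((lam U hU).app (p ⁻¹ᵁ U) ((φ.app U) e)) y =
          algebraMap (𝒮.presheaf.obj (op U)) (GrTwist.Loc (𝒮.deg U hU) y.1)
            ((j.app U) e : 𝒮.presheaf.obj (op U)) := by
  choose σ hσ using fun (a : Y.AffineZariskiSite) (e : Γ(E, a.1)) => exists_tautSect hO1 hj a.1 a.2 e
  have key : ∀ (a : Y.AffineZariskiSite) (s s' : Γ(O1, p ⁻¹ᵁ a.1)),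
      (∀ y, ProjX.cval lam a.1 a.2 s y = ProjX.cval lam a.1 a.2 s' y) → s = s' := fun a s s' h =>
    (hO1.bijective a.1 a.2 _ le_rfl).1 (ProjX.twist_ext h)
  let f : ∀ a : Y.AffineZariskiSite, Γ(E, a.1) →ₗ[Γ(Y, a.1)] Γ((Scheme.Modules.pushforward p).obj O1, a.1) :=
    fun a =>
    { toFun := σ a
      map_add' := fun x x' => key a (σ a (x + x')) (σ a x + σ a x' : Γ(O1, p ⁻¹ᵁ a.1)) fun y => by
        rw [hσ]
        refine Eq.trans ?_ ((congrArg (fun z => GrTwist.val (V := RelProj.emb p chart a.1 a.2 ⁻¹ᵁ (p ⁻¹ᵁ a.1)) z y)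
          (map_add ((lam a.1 a.2).app (p ⁻¹ᵁ a.1)).hom (σ a x) (σ a x'))).trans
          (congr_arg₂ (· + ·) (hσ a x y) (hσ a x' y))).symm
        rw [← map_add]
        exact congrArg _ (map_add (j.app a.1).hom x x')
      map_smul' := fun r x => key a (σ a (r • x)) (p.app a.1 r • σ a x : Γ(O1, p ⁻¹ᵁ a.1)) fun y => by
        rw [hσ, ProjX.cval_smul, emb_app_val hP, hσ, ← map_mul]
        exact congrArg _ (j_smul a.1 r x) }
  have hres : ∀ (a : Y.AffineZariskiSite) (D : Y.Opens) (hD : IsAffineOpen D) (r : Γ(Y, a.1))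
      (_ : D = Y.basicOpen r) (hle : D ≤ a.1) (x : Γ(E, a.1)),
      f ⟨D, hD⟩ (AModX.res E hle x) = AModX.res ((Scheme.Modules.pushforward p).obj O1) hle (f a x) := by
    intro a D hD r e hle x
    subst e
    refine key ⟨_, hD⟩ (σ ⟨_, hD⟩ (AModX.res E hle x)) (AModX.res O1 (p.preimage_mono hle) (σ a x)) ?_
    rintro ⟨y, hy⟩
    rw [hσ]
    refine Eq.trans ?_ (hO1.compat a.1 a.2 r _ (AModX.res O1 (p.preimage_mono hle) (σ a x)) y hy
      (ProjX.mem_comap_of_mem hP a.2 r hy)).symm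
    rw [ProjX.val_lam_res, ← ProjX.cval, hσ, ← Localization.mk_one_eq_algebraMap, ← Localization.mk_one_eq_algebraMap,
      GrTwist.locMap_mk]
    refine congr_arg₂ Localization.mk ?_ (Subtype.ext (map_one (𝒮.res a.2 hD hle)).symm)
    exact AModX.app_res j hle x
  obtain ⟨φ, hφ⟩ := exists_homModule E _ f fun {a b} h x => by
    obtain ⟨r, hr⟩ := h
    exact hres a b.1 b.2 r hr.symm _ x
  refine ⟨φ, fun U hU e y => ?_⟩
  rw [hφ ⟨U, hU⟩ e]
  exact hσ ⟨U, hU⟩ e y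

/-- The tautological section frames `O(1)` where it does not vanish. -/
lemma le_locus_taut (hO1 : RelProj.IsRelTwist 𝒮 p chart 1 O1 lam)
    (hj : ∀ (U : Y.Opens) (hU : IsAffineOpen U) (x : Γ(E, U)), (j.app U) x ∈ 𝒮.deg U hU 1)
    (U : Y.Opens) (hU : IsAffineOpen U) (e : Γ(E, U)) (s : Γ(O1, p ⁻¹ᵁ U))
    (hs : ∀ y, ProjX.cval lam U hU s y =
      algebraMap (𝒮.presheaf.obj (op U)) (GrTwist.Loc (𝒮.deg U hU) y.1) (show 𝒮.presheaf.obj (op U) from j.app U e)) :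
    RelProj.emb p chart U hU ''ᵁ Proj.basicOpen (𝒮.deg U hU) (show 𝒮.presheaf.obj (op U) from j.app U e) ≤
      AmpleX.locus s := by
  refine le_trans ?_ (inf_le_left (b := p ⁻¹ᵁ U))
  rw [ProjX.locus_inf_preimage s U hU hO1]
  refine Scheme.Hom.image_mono _ ?_
  have hd : (show 𝒮.presheaf.obj (op U) from j.app U e) ∈ 𝒮.deg U hU 1 := hj U hU e
  have hle : Proj.basicOpen (𝒮.deg U hU) (show 𝒮.presheaf.obj (op U) from j.app U e) ≤
      RelProj.emb p chart U hU ⁻¹ᵁ (p ⁻¹ᵁ U) := fun z _ => by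
    show RelProj.emb p chart U hU z ∈ p ⁻¹ᵁ U
    rw [← RelTildeX.opensRange_emb p chart U hU]
    exact ⟨z, rfl⟩
  refine AmpleX.le_locus _ hle ?_
  have heq : AModX.res (GrTwist.twist (𝒮.deg U hU) 1) hle ((lam U hU).app (p ⁻¹ᵁ U) s) =
      AModX.res (GrTwist.twist (𝒮.deg U hU) ((1 : ℕ) : ℤ)) le_top
        (ProjX.degSec (𝒮.deg U hU) (a := (show 𝒮.presheaf.obj (op U) from j.app U e)) hd) := by
    refine ProjX.twist_ext fun ⟨y, hy⟩ => (hs ⟨y, hle hy⟩).trans ?_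
    exact (Localization.mk_one_eq_algebraMap _).symm
  rw [heq]
  exact ProjX.isFrame_degSec (𝒮.deg U hU) (a := (show 𝒮.presheaf.obj (op U) from j.app U e)) hd

/-- Every point of a projective bundle is in the locus of a tautological section. -/
lemma exists_taut_point (C : Chartwise E 𝒮 j) (hP : RelProj.IsRelProj 𝒮 p chart)
    (hO1 : RelProj.IsRelTwist 𝒮 p chart 1 O1 lam) (φ : E ⟶ (Scheme.Modules.pushforward p).obj O1)
    (hφ : ∀ (U : Y.Opens) (hU : IsAffineOpen U) (e : Γ(E, U))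
        (y : ↥(RelProj.emb p chart U hU ⁻¹ᵁ (p ⁻¹ᵁ U))),
        GrTwist.val (V := RelProj.emb p chart U hU ⁻¹ᵁ (p ⁻¹ᵁ U))
            ((lam U hU).app (p ⁻¹ᵁ U) ((φ.app U) e)) y =
          algebraMap (𝒮.presheaf.obj (op U)) (GrTwist.Loc (𝒮.deg U hU) y.1)
            ((j.app U) e : 𝒮.presheaf.obj (op U))) (x : P) :
    ∃ (U : Y.Opens) (_ : IsAffineOpen U) (e : Γ(E, U)),
      x ∈ AmpleX.locus (show Γ(O1, p ⁻¹ᵁ U) from φ.app U e) := by
  obtain ⟨U, hU, y, hy⟩ := ProjX.exists_chart_point (p := p) (chart := chart) x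
  obtain ⟨a, ha⟩ := Opens.mem_iSup.1 ((ProjX.iSup_basicOpen_deg_one C.isGenDegOne U hU
    (𝒮.deg U hU 1 : Set _) Ideal.subset_span).ge (trivial : y ∈ (⊤ : (Proj (𝒮.deg U hU)).Opens)))
  obtain ⟨e, he⟩ := exists_j_eq C U hU a.2
  refine ⟨U, hU, e, le_locus_taut hO1 C.isGrSymAlg.2 U hU e _ (hφ U hU e) ⟨y, ?_, hy⟩⟩
  have heq : Proj.basicOpen (𝒮.deg U hU) (show 𝒮.presheaf.obj (op U) from j.app U e) =
      Proj.basicOpen (𝒮.deg U hU) a.1 := congrArg _ he
  exact heq.ge ha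

/-- The adjoint of the canonical map, on the image of the unit. -/
lemma adj_app {F : P.Modules} (φ : E ⟶ (Scheme.Modules.pushforward p).obj F) (U : Y.Opens) (e : Γ(E, U)) :
    (((Scheme.Modules.pullbackPushforwardAdjunction p).homEquiv E F).symm φ).app (p ⁻¹ᵁ U)
      (((Scheme.Modules.pullbackPushforwardAdjunction p).unit.app E).app U e) =
      (show Γ(F, p ⁻¹ᵁ U) from φ.app U e) := by
  have h := ((Scheme.Modules.pullbackPushforwardAdjunction p).homEquiv E F).apply_symm_apply φ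
  rw [Adjunction.homEquiv_unit] at h
  exact congrArg (fun χ : E ⟶ (Scheme.Modules.pushforward p).obj F => χ.app U e) h

/-- The canonical map `p^*E ⟶ O(1)` is an epimorphism. -/
theorem epi_taut (C : Chartwise E 𝒮 j) (hP : RelProj.IsRelProj 𝒮 p chart)
    (hO1 : RelProj.IsRelTwist 𝒮 p chart 1 O1 lam) (φ : E ⟶ (Scheme.Modules.pushforward p).obj O1)
    (hφ : ∀ (U : Y.Opens) (hU : IsAffineOpen U) (e : Γ(E, U))
        (y : ↥(RelProj.emb p chart U hU ⁻¹ᵁ (p ⁻¹ᵁ U))),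
        GrTwist.val (V := RelProj.emb p chart U hU ⁻¹ᵁ (p ⁻¹ᵁ U))
            ((lam U hU).app (p ⁻¹ᵁ U) ((φ.app U) e)) y =
          algebraMap (𝒮.presheaf.obj (op U)) (GrTwist.Loc (𝒮.deg U hU) y.1)
            ((j.app U) e : 𝒮.presheaf.obj (op U))) :
    Epi (((Scheme.Modules.pullbackPushforwardAdjunction p).homEquiv E O1).symm φ) := by
  refine RelTildeX.epi_of_locally _ fun W s x hx => ?_
  obtain ⟨U, hU, e, hxl⟩ := exists_taut_point C hP hO1 φ hφ x
  let σ : Γ(O1, p ⁻¹ᵁ U) := φ.app U e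
  have hV : W ⊓ AmpleX.locus σ ≤ p ⁻¹ᵁ U := inf_le_right.trans (AmpleX.locus_le _)
  obtain ⟨c, hc⟩ := (AmpleX.isFrame_res_of_le σ (inf_le_right : W ⊓ AmpleX.locus σ ≤ _)).exists_coord le_rfl
    (AModX.res O1 inf_le_left s)
  rw [AModX.res_self] at hc
  refine ⟨W ⊓ AmpleX.locus σ, inf_le_left, ⟨hx, hxl⟩, c • AModX.res ((Scheme.Modules.pullback p).obj E) hV
    (show Γ((Scheme.Modules.pullback p).obj E, p ⁻¹ᵁ U) from
      ((Scheme.Modules.pullbackPushforwardAdjunction p).unit.app E).app U e), ?_⟩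
  rw [Scheme.Modules.Hom.app_smul, AModX.app_res, adj_app]
  exact hc.symm

/-- The direct image along an isomorphism is the inverse image along the inverse. -/
def pullbackInvIso (q : P ⟶ Y) [IsIso q] :
    Scheme.Modules.pullback (inv q) ≅ Scheme.Modules.pushforward q :=
  ((Scheme.Modules.pullbackPushforwardAdjunction (inv q)).leftAdjointUniq
    (CategoryTheory.Equivalence.mk (Scheme.Modules.pushforward q) (Scheme.Modules.pushforward (inv q))
      ((Scheme.Modules.pushforwardId P).symm ≪≫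
        Scheme.Modules.pushforwardCongr (IsIso.hom_inv_id q).symm ≪≫
        (Scheme.Modules.pushforwardComp q (inv q)).symm)
      (Scheme.Modules.pushforwardComp (inv q) q ≪≫
        Scheme.Modules.pushforwardCongr (IsIso.inv_hom_id q) ≪≫
        Scheme.Modules.pushforwardId Y)).toAdjunction)

/-- An invertible module is very ample relative to the identity. -/
theorem isRelVeryAmple_id {L : Y.Modules} (hL : PicF.IsInvertible L) :
    RelProj.IsRelVeryAmple (𝟙 Y) L := by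
  have hLq : Coh.IsQCoh L := ProjUPX.isQCoh_of_isInvertible hL
  obtain ⟨𝒮, j, hj, hgen⟩ := exists_isGrSymAlg hLq
  obtain ⟨P, p, chart, hP⟩ := Proj16.exists_isRelProj 𝒮
  haveI := isIso_relProj hL hLq hj p chart hP
  obtain ⟨O1, lam, hO1⟩ := ProjX.exists_isRelTwist hP 1
  obtain ⟨φ, hφ⟩ := exists_tautMap hP hO1 hj.2
  let C := (nonempty_chartwise hLq hj).some
  haveI : IsIso φ := DivX.isIso_of_frames φ fun x => by
    obtain ⟨V, hx, e, he⟩ := InvX.exists_frame hL x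
    obtain ⟨_, ⟨U, hU, rfl⟩, hxU, hUV⟩ := Y.isBasis_affineOpens.exists_subset_of_mem_open hx V.2
    refine ⟨U, hxU, AModX.res L hUV e, he.res hUV, ?_⟩
    have hle : p ⁻¹ᵁ U ≤ AmpleX.locus (show Γ(O1, p ⁻¹ᵁ U) from φ.app U (AModX.res L hUV e)) := by
      refine le_trans ?_ (le_locus_taut hO1 C.isGrSymAlg.2 U hU _ _ (hφ U hU _))
      rw [basicOpen_frame_eq_top C U hU (he.res hUV), Scheme.Hom.image_top_eq_opensRange,
        RelTildeX.opensRange_emb]
    have hf := AmpleX.isFrame_res_of_le _ hle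
    rw [AModX.res_self] at hf
    intro W hW
    exact (hf (p ⁻¹ᵁ W) (p.preimage_mono hW)).comp
      ((ConcreteCategory.isIso_iff_bijective (p.app W)).1 inferInstance)
  exact ⟨L, hLq, 𝒮, j, hj, P, p, chart, hP, O1, lam, hO1, inv p, inferInstance, IsIso.inv_hom_id p,
    ⟨asIso φ ≪≫ ((pullbackInvIso p).app O1).symm⟩⟩

end Groth.Agent.SymX
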