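import Groth.Agent.SymX.UPGlobal
import Groth.Agent.QCoh.Qcqs
import Groth.Agent.Proj16.RelExist

/-!
# Very ample modules and the universal property of projective bundles
-/

set_option linter.style.haveILetI false
set_option linter.unusedSectionVars false
set_option backward.isDefEq.respectTransparency false
set_option backward.isDefEq.respectTransparency.types false

noncomputable section

universe u

open CategoryTheory CategoryTheory.Limits AlgebraicGeometry TopologicalSpace Opposite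

namespace Groth.Agent.SymX

open Groth.Agent

variable {X Y P : Scheme.{u}} {E : Y.Modules} {𝒮 : RelProj.QCGrAlg Y} {p : P ⟶ Y}
  {chart : ∀ (U : Y.Opens) (hU : IsAffineOpen U), (((p ⁻¹ᵁ U : P.Opens) : Scheme.{u}) ≅ Proj (𝒮.deg U hU))}
  {O1 : P.Modules} {lam : ∀ (U : Y.Opens) (hU : IsAffineOpen U),
    O1 ⟶ (Scheme.Modules.pushforward (RelProj.emb p chart U hU)).obj (GrTwist.twist (𝒮.deg U hU) 1)}
  {j : E ⟶ 𝒮.toModule} {φ : E ⟶ (Scheme.Modules.pushforward p).obj O1} {g : X ⟶ Y} {L : X.Modules}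
  {θ : E ⟶ (Scheme.Modules.pushforward g).obj L}

/-- The morphism of an invertible quotient pulls `O(1)` back to it. -/
theorem nonempty_iso_of_isCompat' (C : Chartwise E 𝒮 j) (hO1 : RelProj.IsRelTwist 𝒮 p chart 1 O1 lam)
    (hP : RelProj.IsRelProj 𝒮 p chart) (hφ : IsTaut lam j φ) {r : X ⟶ P} (hr : r ≫ p = g)
    (hc : IsCompat' φ g θ r)
    (hgenθ : ∀ x : X, ∃ (U : Y.Opens) (_ : IsAffineOpen U) (e : Γ(E, U)), x ∈ AmpleX.locus (th g θ e)) :
    Nonempty ((Scheme.Modules.pullback r).obj O1 ≅ L) := by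
  let A := Σ U : Y.affineOpens, Γ(E, U.1)
  let Wf : A → P.Opens := fun a => AmpleX.locus (ph φ a.2)
  have hW : ∀ a : A, Wf a ≤ p ⁻¹ᵁ a.1.1 := fun a => AmpleX.locus_le _
  let ee : ∀ a, Γ(O1, Wf a) := fun a => AModX.res O1 (hW a) (ph φ a.2)
  have hee : ∀ a, InvX.IsFrame (ee a) := fun a => AmpleX.isFrame_res_locus _
  have hWg : ∀ a : A, r ⁻¹ᵁ Wf a ≤ g ⁻¹ᵁ a.1.1 := fun a x hx => by
    show g x ∈ a.1.1
    rw [← hr]
    exact hW a hx
  let nn : ∀ a, Γ((Scheme.Modules.pushforward r).obj L, Wf a) := fun a =>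
    AModX.res L (hWg a) (th g θ a.2)
  have hcov : ∀ y : P, ∃ a, y ∈ Wf a := fun y => by
    obtain ⟨U, hU, e, he⟩ := exists_taut_point C hP hO1 φ hφ y
    exact ⟨⟨⟨U, hU⟩, e⟩, he⟩
  have hcc : ∀ (a b : A) (W : P.Opens) (h : W ≤ Wf a) (h' : W ≤ Wf b) (c : Γ(P, W)),
      AModX.res O1 h' (ee b) = c • AModX.res O1 h (ee a) →
        AModX.res ((Scheme.Modules.pushforward r).obj L) h' (nn b) =
          c • AModX.res ((Scheme.Modules.pushforward r).obj L) h (nn a) := by
    intro a b W h h' c hce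
    simp only [ee, AModX.res_res] at hce
    have := hc a.1.1 b.1.1 a.1.2 b.1.2 a.2 b.2 W _ _ c hce (r ⁻¹ᵁ W) le_rfl
      ((r.preimage_mono h).trans (hWg a)) ((r.preimage_mono h').trans (hWg b))
    rw [AModX.resR_self] at this
    refine (AModX.res_res (M := L) (hWg b) (r.preimage_mono h') _).trans (this.trans ?_)
    exact congrArg (r.app W c • ·) (AModX.res_res (M := L) (hWg a) (r.preimage_mono h) _).symm
  let τ' : O1 ⟶ (Scheme.Modules.pushforward r).obj L := InvX.ofFrames hcov hee hcc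
  let t := ((Scheme.Modules.pullbackPushforwardAdjunction r).homEquiv O1 L).symm τ'
  haveI : IsIso t := DivX.isIso_of_frames t fun x => by
    obtain ⟨a, ha⟩ := hcov (r x)
    refine ⟨r ⁻¹ᵁ Wf a, ha, InvX.pullElt r (ee a), InvX.isFrame_pullElt r (hee a), ?_⟩
    have h := ((Scheme.Modules.pullbackPushforwardAdjunction r).homEquiv O1 L).apply_symm_apply τ'
    rw [Adjunction.homEquiv_unit] at h
    rw [show t.app (r ⁻¹ᵁ Wf a) (InvX.pullElt r (ee a)) = nn a from
      (congrArg (fun χ : O1 ⟶ (Scheme.Modules.pushforward r).obj L => χ.app (Wf a) (ee a)) h).trans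
        (InvX.ofFrames_app hcov hee hcc a)]
    exact AmpleX.isFrame_res_of_le _ (hc.le_locus C hO1 hφ hr hgenθ a.1.1 a.1.2 a.2)
  exact ⟨asIso t⟩

/-- An immersion with sections of a quasi-coherent module generating `L` makes `L` very ample. -/
theorem isRelVeryAmple_of_theta [IsImmersion g] (hE : Coh.IsQCoh E)
    (θ : E ⟶ (Scheme.Modules.pushforward g).obj L)
    (hgenθ : ∀ x : X, ∃ (U : Y.Opens) (_ : IsAffineOpen U) (e : Γ(E, U)), x ∈ AmpleX.locus (th g θ e)) :
    RelProj.IsRelVeryAmple g L := by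
  obtain ⟨𝒮, j, hj, -⟩ := exists_isGrSymAlg hE
  obtain ⟨P, p, chart, hP⟩ := Proj16.exists_isRelProj 𝒮
  obtain ⟨O1, lam, hO1⟩ := ProjX.exists_isRelTwist hP 1
  obtain ⟨φ, hφ⟩ := exists_tautMap hP hO1 hj.2
  let C := (nonempty_chartwise hE hj).some
  obtain ⟨r, ⟨hr, hc⟩, -⟩ := existsUnique_isCompat' C hO1 hP hE hφ (θ := θ) hgenθ
  obtain ⟨t⟩ := nonempty_iso_of_isCompat' C hO1 hP hφ hr hc hgenθ
  haveI : IsImmersion (r ≫ p) := hr ▸ ‹IsImmersion g›
  exact ⟨E, hE, 𝒮, j, hj, P, p, chart, hP, O1, lam, hO1, r, IsImmersion.of_comp r p, hr, ⟨t.symm⟩⟩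

/-- An invertible module on an open, quasi-compact subscheme is very ample. -/
theorem isRelVeryAmple_of_isOpenImmersion [IsOpenImmersion g] [QuasiCompact g] (hL : PicF.IsInvertible L) :
    RelProj.IsRelVeryAmple g L := by
  refine isRelVeryAmple_of_theta (QCoh.isQCoh_pushforward g (ProjUPX.isQCoh_of_isInvertible hL)) (𝟙 _) fun x => ?_
  obtain ⟨U₀, hx, e₀, he₀⟩ := InvX.exists_frame hL x
  obtain ⟨_, ⟨V, hV, rfl⟩, hxV, hVU⟩ := Y.isBasis_affineOpens.exists_subset_of_mem_open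
    (show g x ∈ g ''ᵁ U₀ from ⟨x, hx, rfl⟩) (g ''ᵁ U₀).2
  have hle : g ⁻¹ᵁ V ≤ U₀ := (g.preimage_mono hVU).trans (g.preimage_image_eq U₀).le
  refine ⟨V, hV, AModX.res L hle e₀, ?_⟩
  refine AmpleX.le_locus (M := L) (U := g ⁻¹ᵁ V) _ le_rfl ?_ hxV
  rw [AModX.res_self]
  exact he₀.res hle

/-- Sections generating an invertible module make the counit an epimorphism. -/
theorem epi_counit_of_frames
    (h : ∀ x : X, ∃ (U : Y.Opens) (e : Γ(L, g ⁻¹ᵁ U)), x ∈ AmpleX.locus e) :
    Epi ((Scheme.Modules.pullbackPushforwardAdjunction g).counit.app L) := by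
  refine RelTildeX.epi_of_locally _ fun W s x hx => ?_
  obtain ⟨U, e, hxe⟩ := h x
  let V := W ⊓ AmpleX.locus e
  have hVU : V ≤ g ⁻¹ᵁ U := inf_le_right.trans (AmpleX.locus_le _)
  obtain ⟨c, hc⟩ := (AmpleX.isFrame_res_of_le e (inf_le_right : V ≤ _)).exists_coord le_rfl
    (AModX.res L (inf_le_left : V ≤ W) s)
  rw [AModX.res_self] at hc
  have htri : ((Scheme.Modules.pullbackPushforwardAdjunction g).counit.app L).app (g ⁻¹ᵁ U)
      (InvX.pullElt g (M := (Scheme.Modules.pushforward g).obj L) (U := U) e) = e :=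
    congrArg (fun χ : (Scheme.Modules.pushforward g).obj L ⟶ (Scheme.Modules.pushforward g).obj L => χ.app U e)
      ((Scheme.Modules.pullbackPushforwardAdjunction g).right_triangle_components L)
  refine ⟨V, inf_le_left, ⟨hx, hxe⟩,
    c • AModX.res ((Scheme.Modules.pullback g).obj ((Scheme.Modules.pushforward g).obj L)) hVU
      (InvX.pullElt g (M := (Scheme.Modules.pushforward g).obj L) (U := U) e), ?_⟩
  refine (Scheme.Modules.Hom.app_smul ((Scheme.Modules.pullbackPushforwardAdjunction g).counit.app L) c _).trans ?_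
  exact (congrArg (fun z : Γ(L, V) => c • z)
    ((AModX.app_res ((Scheme.Modules.pullbackPushforwardAdjunction g).counit.app L) hVU _).trans
      (congrArg (AModX.res L hVU) htri))).trans hc.symm

end Groth.Agent.SymX
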