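import Groth.Agent.AmpleX.Generated
import Groth.Agent.QCoh.Stalk
import Groth.Agent.SymX.TensorTheta
import Groth.Agent.S2297

/-!
# Finitely many global sections generating the sections over every affine open
-/

set_option linter.style.haveILetI false
set_option linter.unusedSectionVars false
set_option maxHeartbeats 800000
set_option backward.isDefEq.respectTransparency false
set_option backward.isDefEq.respectTransparency.types false

universe u

open CategoryTheory AlgebraicGeometry TopologicalSpace Opposite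

noncomputable section

namespace Groth.Agent.SymX

open Groth.Agent

variable {Y : Scheme.{u}} {G : Y.Modules}

/-- Sections over an affine open whose germs generate all stalks generate. -/
theorem span_eq_top_of_germs (hG : Coh.IsQCoh G) {U : Y.Opens} (hU : IsAffineOpen U) {ι : Type*}
    (t : ι → Γ(G, U))
    (h : ∀ (x : Y) (hx : x ∈ U), Submodule.span (Y.presheaf.stalk x)
      (Set.range fun i => G.presheaf.germ U x hx (t i)) = ⊤) :
    Submodule.span Γ(Y, U) (Set.range t) = ⊤ := by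
  refine eq_top_iff.2 fun m _ => ?_
  let I : Ideal Γ(Y, U) := (Submodule.span Γ(Y, U) (Set.range t)).colon ({m} : Set Γ(G, U))
  suffices hI : I = ⊤ by
    have := Submodule.mem_colon_singleton.1 (show (1 : Γ(Y, U)) ∈ I by rw [hI]; trivial)
    rwa [one_smul] at this
  by_contra hne
  obtain ⟨P, hP, hle⟩ := I.exists_le_maximal hne
  let x : Y := (hU.isoSpec.inv (⟨P, hP.isPrime⟩ : PrimeSpectrum Γ(Y, U))).1
  have hx : x ∈ U := (hU.isoSpec.inv (⟨P, hP.isPrime⟩ : PrimeSpectrum Γ(Y, U))).2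
  have hPx : (hU.primeIdealOf ⟨x, hx⟩).asIdeal = P := by
    have e : hU.primeIdealOf ⟨x, hx⟩ = ⟨P, hP.isPrime⟩ := by
      show hU.isoSpec.hom (hU.isoSpec.inv _) = _
      rw [← Scheme.Hom.comp_apply, Iso.inv_hom_id]
      rfl
    rw [e]
  letI := QCoh.stalkAlg (X := Y) hx
  letI := QCoh.stalkModule G hx
  haveI := QCoh.isScalarTower_stalk G hx
  haveI := QCoh.isLocalization_stalk' hU hx
  haveI := QCoh.isLocalizedModule_germLin hG hU hx
  have h1 : Submodule.localized' (Y.presheaf.stalk x) (hU.primeIdealOf ⟨x, hx⟩).asIdeal.primeCompl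
      (QCoh.germLin G hx) (Submodule.span Γ(Y, U) (Set.range t)) = ⊤ := by
    rw [Submodule.localized'_span, ← Set.range_comp]
    exact h x hx
  have h2 : QCoh.germLin G hx m ∈ Submodule.localized' (Y.presheaf.stalk x)
      (hU.primeIdealOf ⟨x, hx⟩).asIdeal.primeCompl (QCoh.germLin G hx) (Submodule.span Γ(Y, U) (Set.range t)) := by
    rw [h1]; trivial
  obtain ⟨a, ha, s, e⟩ := h2
  rw [← IsLocalizedModule.mk'_one (hU.primeIdealOf ⟨x, hx⟩).asIdeal.primeCompl,
    IsLocalizedModule.mk'_eq_mk'_iff] at e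
  obtain ⟨c, hc⟩ := e
  simp_rw [smul_smul] at hc
  have hmem : ((c * s : (hU.primeIdealOf ⟨x, hx⟩).asIdeal.primeCompl) : Γ(Y, U)) ∈ I := by
    refine Submodule.mem_colon_singleton.2 ?_
    show (c * s) • m ∈ _
    rw [hc]
    exact Submodule.smul_mem _ _ ha
  exact (c * s).2 (hPx.ge (hle hmem))

/-- A generated module of finite type on a quasi-compact scheme has finitely many generators over all affines. -/
theorem exists_fin_generators [CompactSpace Y] (hG : Coh.IsQCoh G) (hft : CohB1.IsFT G) {ι : Type*}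
    (s : ι → Γ(G, ⊤)) (hs : ProjUP.GeneratedBy G s) :
    ∃ (r : ℕ) (e : Fin (r + 1) → Γ(G, ⊤)),
      ∀ (U : Y.Opens), IsAffineOpen U → Submodule.span Γ(Y, U)
        (Set.range fun i => AModX.res _ (le_top : U ≤ ⊤) (e i)) = ⊤ := by
  classical
  have hspan : ∀ U : Y.Opens, IsAffineOpen U →
      Submodule.span Γ(Y, U) (Set.range fun i => AModX.res G (le_top : U ≤ ⊤) (s i)) = ⊤ := by
    intro U hU
    refine span_eq_top_of_germs hG hU (fun i => AModX.res G (le_top : U ≤ ⊤) (s i)) fun x hx => ?_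
    refine top_le_iff.1 ((hs x).ge.trans (Submodule.span_le.2 ?_))
    rintro _ ⟨i, rfl⟩
    exact Submodule.subset_span ⟨i, InvX.germ_res' le_top hx (s i)⟩
  obtain ⟨S, hS⟩ := isCompact_univ.elim_finite_subcover (fun U : Y.affineOpens => (U.1 : Set Y))
    (fun U => U.1.2) (fun x _ => by
      obtain ⟨_, ⟨U, hU, rfl⟩, hxU, -⟩ :=
        Y.isBasis_affineOpens.exists_subset_of_mem_open (Set.mem_univ x) isOpen_univ
      exact Set.mem_iUnion.2 ⟨⟨U, hU⟩, hxU⟩)
  have hfin : ∀ U : Y.affineOpens, ∃ K : Finset ι,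
      Submodule.span Γ(Y, U.1) ((fun i => AModX.res G (le_top : U.1 ≤ ⊤) (s i)) '' (K : Set ι)) = ⊤ := fun U => by
    haveI := QCoh.finite_of_isFT hG hft U.2
    obtain ⟨t, ht, heq⟩ := (Submodule.fg_span_iff_fg_span_finset_subset _).1
      (show (Submodule.span Γ(Y, U.1) (Set.range fun i => AModX.res G (le_top : U.1 ≤ ⊤) (s i))).FG by
        rw [hspan U.1 U.2]; exact Module.Finite.fg_top)
    rw [← Set.image_univ] at ht
    obtain ⟨K, -, rfl⟩ := Finset.subset_set_image_iff.1 ht
    exact ⟨K, by rw [← Finset.coe_image, ← heq, hspan U.1 U.2]⟩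
  choose K hK using hfin
  refine ⟨(S.biUnion K).card, Fin.cons 0 fun j => s ((S.biUnion K).equivFin.symm j), fun V hV => ?_⟩
  refine span_eq_top_of_germs hG hV _ fun x hx => ?_
  obtain ⟨U, hUS, hxU⟩ := Set.mem_iUnion₂.1 (hS (Set.mem_univ x))
  letI := QCoh.stalkAlg (X := Y) hxU
  letI := QCoh.stalkModule G hxU
  haveI := QCoh.isScalarTower_stalk G hxU
  haveI := QCoh.isLocalization_stalk' U.2 hxU
  haveI := QCoh.isLocalizedModule_germLin hG U.2 hxU
  have h1 : Submodule.localized' (Y.presheaf.stalk x) (U.2.primeIdealOf ⟨x, hxU⟩).asIdeal.primeCompl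
      (QCoh.germLin G hxU) (Submodule.span Γ(Y, U.1)
        ((fun i => AModX.res G (le_top : U.1 ≤ ⊤) (s i)) '' (K U : Set ι))) = ⊤ := by
    rw [hK U, Submodule.localized'_top]
  rw [Submodule.localized'_span, ← Set.image_comp] at h1
  refine top_le_iff.1 (h1.ge.trans (Submodule.span_le.2 ?_))
  rintro _ ⟨i, hi, rfl⟩
  refine Submodule.subset_span ⟨((S.biUnion K).equivFin ⟨i, Finset.mem_biUnion.2 ⟨U, hUS, hi⟩⟩).succ, ?_⟩
  show G.presheaf.germ V x hx (AModX.res G _ _) = G.presheaf.germ U.1 x hxU (AModX.res G _ (s i))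
  simp only [Fin.cons_succ, Equiv.symm_apply_apply]
  rw [InvX.germ_res', InvX.germ_res']

/-- A twist of a module of finite type by a power of an ample module has finitely many global sections
generating the sections over every affine open. -/
theorem exists_twist_generators [CompactSpace Y] [Y.IsSeparated] {M F : Y.Modules} (hM : CohB1.IsAmple M)
    (hq : Coh.IsQCoh F) (hft : CohB1.IsFT F) :
    ∃ (n : ℕ) (E : Y.Modules) (_ : Coh.IsQCoh E) (_ : CohB1.IsFT E) (_ : E ≅ CohB1.tensorMod F (CohB1.tensorPow M n))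
      (r : ℕ) (e : Fin (r + 1) → Γ(E, ⊤)),
      ∀ (U : Y.Opens), IsAffineOpen U → Submodule.span Γ(Y, U)
        (Set.range fun i => AModX.res _ (le_top : U ≤ ⊤) (e i)) = ⊤ := by
  obtain ⟨n₀, h⟩ := AmpleX.eventually_generated hM hq hft
  obtain ⟨G, iso, ι, s, hs⟩ := h n₀ le_rfl
  have hMn : PicF.IsInvertible (CohB1.tensorPow M n₀) := InvX.isInvertible_tensorPow hM.1 n₀
  have hMq : Coh.IsQCoh (CohB1.tensorPow M n₀) := ProjUPX.isQCoh_of_isInvertible hMn
  have hMft : CohB1.IsFT (CohB1.tensorPow M n₀) :=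
    QCoh.isFT_of_isFP (QCoh.isFP_of_isFinLocFree (H23.PullPush.isFinLocFree_of_isInvertible hMn))
  have hTft : CohB1.IsFT (CohB1.tensorMod F (CohB1.tensorPow M n₀)) := by
    haveI : Coh.IsQCoh F := hq
    haveI : Coh.IsQCoh (CohB1.tensorPow M n₀) := hMq
    exact (S2297.result F (CohB1.tensorPow M n₀)).2 hft hMft
  have hG : Coh.IsQCoh G := (QCoh.isQCoh_iff_iso iso).2 (isQCoh_tensorMod hq hMq)
  have hGft : CohB1.IsFT G := (QCoh.isFT_iff hG).2 fun U => by
    haveI := QCoh.finite_of_isFT (isQCoh_tensorMod hq hMq) hTft U.2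
    exact Module.Finite.of_surjective
      ({ toFun := iso.inv.app U.1
         map_add' := map_add _
         map_smul' := Scheme.Modules.Hom.app_smul _ } :
        Γ(CohB1.tensorMod F (CohB1.tensorPow M n₀), U.1) →ₗ[Γ(Y, U.1)] Γ(G, U.1))
      fun y => ⟨iso.hom.app U.1 y, congr(($(iso.hom_inv_id)).app U.1 y)⟩
  obtain ⟨r, e, he⟩ := exists_fin_generators hG hGft s hs
  exact ⟨n₀, G, hG, hGft, iso, r, e, he⟩

end Groth.Agent.SymX
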