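import Groth.Agent.SymX.ToProjSpace
import Groth.Agent.SymX.GlobalGen
import Groth.Agent.SymX.ProjectiveStable
import Groth.Agent.ChowX.QuasiProj

/-!
# Over a base with an ample module, immersions into bundles give immersions into projective space
-/

set_option linter.style.haveILetI false
set_option linter.unusedSectionVars false
set_option backward.isDefEq.respectTransparency false
set_option backward.isDefEq.respectTransparency.types false
set_option maxHeartbeats 800000

universe u

open CategoryTheory CategoryTheory.Limits AlgebraicGeometry TopologicalSpace Opposite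

noncomputable section

namespace Groth.Agent.SymX

open Groth.Agent

variable {X Y : Scheme.{u}}

theorem exists_immersion_projSpaceOver [CompactSpace Y] [Y.IsSeparated] {M : Y.Modules} (hM : CohB1.IsAmple M)
    {E : Y.Modules} (A : Bundle E) (hE : Coh.IsQCoh E) (hft : CohB1.IsFT E) (i : X ⟶ A.P) [IsImmersion i] :
    ∃ (r : ℕ) (j : X ⟶ CohB1.ProjSpaceOver r Y), IsImmersion j ∧ j ≫ CohB1.ProjSpaceOver.toBase r Y = i ≫ A.p := by
  obtain ⟨n, G, -, -, iso, r, e, he⟩ := exists_twist_generators hM hE hft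
  let g := i ≫ A.p
  let K := CohB1.tensorPow M n
  have hK : PicF.IsInvertible K := InvX.isInvertible_tensorPow hM.1 n
  obtain ⟨θ, hc, hgen⟩ := exists_theta_of_bundle A i (rfl : i ≫ A.p = g) (Iso.refl ((Scheme.Modules.pullback i).obj A.O1))
  let θ' : K ⟶ (Scheme.Modules.pushforward g).obj ((Scheme.Modules.pullback g).obj K) :=
    (Scheme.Modules.pullbackPushforwardAdjunction g).unit.app K
  have hgen' : ∀ x : X, ∃ (U : Y.Opens) (a : Γ(K, U)), x ∈ AmpleX.locus (th g θ' a) := fun x => by
    obtain ⟨U, hxU, a, ha⟩ := InvX.exists_frame hK (g x)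
    refine ⟨U, a, AmpleX.le_locus (th g θ' a) le_rfl ?_ hxU⟩
    rw [AModX.res_self]
    exact InvX.isFrame_pullElt g ha
  have hL : PicF.IsInvertible ((Scheme.Modules.pullback i).obj A.O1) :=
    PicClLib.isInvertible_pullback i (RelTildeX.isInvertible_twist A.C.isGenDegOne A.isRelTwist)
  obtain ⟨B, s, hs, -, hloc⟩ := exists_tensor_map hL (PicClLib.isInvertible_pullback g hK) hE
    (ProjUPX.isQCoh_of_isInvertible hK) θ θ' (genPair_of_gen hgen hgen')
  haveI : IsImmersion s := isImmersion_of_locally s fun x => by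
    obtain ⟨D, hD, h1, -⟩ := hloc x
    obtain ⟨σ, hσ⟩ := h1 A i rfl hc
    exact ⟨D, hD, isImmersion_ι_comp_of_refine s D i σ hσ⟩
  obtain ⟨c, hc', hcb⟩ := exists_closedImmersion_projSpace B (fun j => iso.hom.app ⊤ (e j)) fun U hU => by
    let l : Γ(G, U) →ₗ[Γ(Y, U)] Γ(CohB1.tensorMod E K, U) :=
      { toFun := iso.hom.app U
        map_add' := map_add _
        map_smul' := Scheme.Modules.Hom.app_smul _ }
    refine eq_top_iff.2 fun y _ => ?_
    obtain ⟨z, rfl⟩ : ∃ z, l z = y := ⟨iso.inv.app U y, congr(($(iso.inv_hom_id)).app U y)⟩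
    have hz : z ∈ Submodule.span Γ(Y, U) (Set.range fun i => AModX.res G (le_top : U ≤ ⊤) (e i)) :=
      (he U hU) ▸ trivial
    refine Submodule.span_le.2 ?_ (Submodule.apply_mem_span_image_of_mem_span l hz)
    rintro _ ⟨_, ⟨k, rfl⟩, rfl⟩
    exact Submodule.subset_span ⟨k, (AModX.app_res iso.hom le_top (e k)).symm⟩
  exact ⟨r, s ≫ c, inferInstance, by rw [Category.assoc, hcb, hs]⟩

end Groth.Agent.SymX
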