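import Groth.Agent.SymX.ProjectiveClosed
import Groth.Agent.ProjX.TwistPull
import Groth.Agent.ProjX.RelTwist

/-!
# Dense open immersions into relative `Proj`s, from immersions into projective bundles
-/

set_option linter.style.haveILetI false
set_option linter.unusedSectionVars false
set_option backward.isDefEq.respectTransparency false
set_option backward.isDefEq.respectTransparency.types false
set_option maxHeartbeats 800000

universe u

open CategoryTheory CategoryTheory.Limits AlgebraicGeometry TopologicalSpace Opposite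
open scoped HomogeneousIdeal

noncomputable section

namespace Groth.Agent.SymX

variable {X Y : Scheme.{u}}

/-- An immersion into the bundle of a module of finite type is dense open in a relative `Proj`, compatibly with `O(1)`. -/
theorem exists_dense_openImmersion {E : Y.Modules} (A : Bundle E) (hE : Coh.IsQCoh E) (hft : CohB1.IsFT E)
    (r : X ⟶ A.P) [IsImmersion r] [QuasiCompact r] :
    ∃ (𝒮 : RelProj.QCGrAlg Y) (P : Scheme.{u}) (p : P ⟶ Y)
      (chart : ∀ (U : Y.Opens) (hU : IsAffineOpen U), ((p ⁻¹ᵁ U : P.Opens) : Scheme.{u}) ≅ Proj (𝒮.deg U hU))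
      (O1 : P.Modules)
      (lam : ∀ (U : Y.Opens) (hU : IsAffineOpen U),
        O1 ⟶ (Scheme.Modules.pushforward (RelProj.emb p chart U hU)).obj (GrTwist.twist (𝒮.deg U hU) 1))
      (i : X ⟶ P),
      𝒮.IsGenDegOne ∧ 𝒮.IsFTDeg 1 ∧ RelProj.IsRelProj 𝒮 p chart ∧ RelProj.IsRelTwist 𝒮 p chart 1 O1 lam ∧
        IsOpenImmersion i ∧ Dense (Set.range i.base) ∧ i ≫ p = r ≫ A.p ∧
        Nonempty ((Scheme.Modules.pullback r).obj A.O1 ≅ (Scheme.Modules.pullback i).obj O1) := by
  haveI := (Proj16.locallyOfFiniteType_of_genDegOne A.isRelProj A.C.isGenDegOne (A.isFTDeg_one hE hft)).2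
  obtain ⟨𝒮, φ, hφ, hirr, chartS, hsurj, hS, hmap⟩ := ClosedQuot.exists_quot A.chart A.isRelProj r.imageι
  obtain ⟨O1, lam, hO1⟩ := ProjX.exists_isRelTwist hS 1
  obtain ⟨τ⟩ := ProjX.nonempty_pullback_relTwist_iso hmap A.isRelProj hS A.isRelTwist hO1 A.C.isGenDegOne
  refine ⟨𝒮, r.image, r.imageι ≫ A.p, chartS, O1, lam, r.toImage,
    isGenDegOne_of_surjective φ hφ hsurj A.C.isGenDegOne,
    isFTDeg_one_of_surjective φ hφ hsurj (A.isFTDeg_one hE hft), hS, hO1, inferInstance,
    r.toImage.denseRange, ?_, ⟨?_⟩⟩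
  · rw [← Category.assoc, Scheme.Hom.toImage_imageι]
  · exact (Scheme.Modules.pullbackCongr r.toImage_imageι.symm).app A.O1 ≪≫
      ((Scheme.Modules.pullbackComp r.toImage r.imageι).app A.O1).symm ≪≫
      (Scheme.Modules.pullback r.toImage).mapIso τ

end Groth.Agent.SymX
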