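import Groth.Agent.SymX.CompBase

/-!
# Composites of very ample modules
-/

set_option linter.style.haveILetI false
set_option linter.unusedSectionVars false
set_option backward.isDefEq.respectTransparency false
set_option backward.isDefEq.respectTransparency.types false

noncomputable section

universe u

open CategoryTheory CategoryTheory.Limits AlgebraicGeometry TopologicalSpace Opposite

namespace Groth.Agent.SymX

open Groth.Agent Groth.Agent.H23.PicMul

variable {X Y Z : Scheme.{u}}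

/-- A point at which a global section of a module embeds. -/
theorem immAt_id_of_ratios (g : X ⟶ Y) {M : X.Modules} (σ : Γ(M, ⊤)) (T : X.Opens)
    (hT : AmpleX.locus σ = T) (R₀ : Subring Γ(X, T)) [IsImmersion (subSpec T R₀)]
    (hR : R₀ ≤ Subring.closure (scalSet g T ∪ glRatio σ T)) :
    ImmAt g (𝟙 ((Scheme.Modules.pushforward g).obj M))
      (show Γ((Scheme.Modules.pushforward g).obj M, (⊤ : Y.Opens)) from σ) := by
  subst hT
  haveI := isImmersion_subSpec_of_le (AmpleX.locus σ) hR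
  refine isImmersion_subSpec_of_le (AmpleX.locus σ)
    (R' := Subring.closure (scalSet g (AmpleX.locus σ) ∪ glRatio σ (AmpleX.locus σ))) (Subring.closure_mono ?_)
  intro v hv
  rcases hv with ⟨c, hc⟩ | ⟨s, hs⟩
  · exact Or.inl ⟨c, hc.symm⟩
  · exact Or.inr ⟨s, hs⟩

lemma le_locus_powElt {L : X.Modules} {U : X.Opens} (a : Γ(L, U)) (n : ℕ) :
    AmpleX.locus a ≤ AmpleX.locus (AmpleX.powElt a n) := by
  refine AmpleX.le_locus _ (AmpleX.locus_le a) ?_
  rw [AmpleX.res_powElt]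
  exact AmpleX.isFrame_powElt (AmpleX.isFrame_res_locus a) n

lemma res_iso_tmul_left {N Q M : X.Modules} (Φ : CohB1.tensorMod N Q ≅ M) {U V : X.Opens} (h : V ≤ U)
    {u u₀ : Γ(N, U)} {v v₀ : Γ(Q, U)} {c : Γ(X, V)} (hu : AModX.res N h u = c • AModX.res N h u₀)
    (hv : AModX.res Q h v = AModX.res Q h v₀) :
    AModX.res M h (Φ.hom.app U (InvX.tmul u v)) = c • AModX.res M h (Φ.hom.app U (InvX.tmul u₀ v₀)) := by
  rw [← AModX.app_res, ← AModX.app_res, InvX.res_tmul, InvX.res_tmul, hu, hv, InvX.tmul_smul_left]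
  exact Scheme.Modules.Hom.app_smul Φ.hom _ _

lemma res_iso_tmul_right {N Q M : X.Modules} (Φ : CohB1.tensorMod N Q ≅ M) {U V : X.Opens} (h : V ≤ U)
    {u : Γ(N, U)} {v v₀ : Γ(Q, U)} {c : Γ(X, V)} (hv : AModX.res Q h v = c • AModX.res Q h v₀) :
    AModX.res M h (Φ.hom.app U (InvX.tmul u v)) = c • AModX.res M h (Φ.hom.app U (InvX.tmul u v₀)) := by
  rw [← AModX.app_res, ← AModX.app_res, InvX.res_tmul, InvX.res_tmul, hv, InvX.tmul_smul_right]
  exact Scheme.Modules.Hom.app_smul Φ.hom _ _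

lemma res_pullElt_ratio (f : X ⟶ Y) {K : Y.Modules} {U V : Y.Opens} (h : V ≤ U) {s b : Γ(K, U)} {c : Γ(Y, V)}
    (hs : AModX.res K h s = c • AModX.res K h b) {T : X.Opens} (hT : T ≤ f ⁻¹ᵁ V) :
    AModX.res ((Scheme.Modules.pullback f).obj K) (hT.trans (f.preimage_mono h)) (InvX.pullElt f s) =
      AModX.resR hT (f.app V c) •
        AModX.res ((Scheme.Modules.pullback f).obj K) (hT.trans (f.preimage_mono h)) (InvX.pullElt f b) := by
  have h1 := congrArg (fun z => AModX.res _ hT (InvX.pullElt f z)) hs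
  simp only [InvX.pullElt_smul, ← InvX.res_pullElt, AModX.res_smul, AModX.res_res] at h1
  exact h1

/-- Finitely many sections over the locus of a section extend after twisting. -/
theorem exists_extend_family [CompactSpace X] [QuasiSeparatedSpace X] {L P : X.Modules}
    (hL : PicF.IsInvertible L) (hP : PicF.IsInvertible P) (a : Γ(P, ⊤)) {ι : Type*} [Finite ι]
    (t : ι → Γ(L, AmpleX.locus a)) :
    ∃ n₀ : ℕ, ∀ n, n₀ ≤ n → ∃ T : ι → Γ(CohB1.tensorMod L (CohB1.tensorPow P n), ⊤),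
      ∀ i, AModX.res _ (le_top : AmpleX.locus a ≤ ⊤) (T i) =
        InvX.tmul (t i) (AmpleX.powElt (AModX.res P (le_top : AmpleX.locus a ≤ ⊤) a) n) := by
  classical
  cases nonempty_fintype ι
  let s := InvX.ofSect (M := P) a
  have hG : CohB1.genLocus P s = AmpleX.locus a := by rw [AmpleX.genLocus_eq_locus, InvX.one_ofSect]
  have h1 : ∀ i, ∃ n₀ : ℕ, ∀ n, n₀ ≤ n → ∃ T : Γ(CohB1.tensorMod L (CohB1.tensorPow P n), ⊤),
      AModX.res _ (le_top : AmpleX.locus a ≤ ⊤) T =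
        InvX.tmul (t i) (AmpleX.powElt (AModX.res P (le_top : AmpleX.locus a ≤ ⊤) a) n) := fun i => by
    obtain ⟨n₀, hn₀⟩ := AmpleX.exists_extend' (ProjUPX.isQCoh_of_isInvertible hL) hP s (AModX.res L hG.le (t i))
    refine ⟨n₀, fun n hn => ?_⟩
    obtain ⟨T, hT⟩ := hn₀ n hn
    refine ⟨T, ?_⟩
    have h2 := congrArg (AModX.res _ hG.ge) hT
    rw [InvX.res_tmul, AModX.res_res, AmpleX.res_powElt, AModX.res_res, AModX.res_res, AModX.res_self,
      InvX.one_ofSect] at h2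
    exact h2
  choose n₀ hn₀ using h1
  exact ⟨Finset.univ.sup n₀, fun n hn =>
    ⟨fun i => (hn₀ i n ((Finset.le_sup (Finset.mem_univ i)).trans hn)).choose,
      fun i => (hn₀ i n ((Finset.le_sup (Finset.mem_univ i)).trans hn)).choose_spec⟩⟩

/-- Over an affine base, large twists embed near every point. -/
theorem eventually_immAt_point [IsAffine Z] (f : X ⟶ Y) [QuasiCompact f] [LocallyOfFiniteType f] (g : Y ⟶ Z)
    [QuasiCompact g] {L : X.Modules} (hL : PicF.IsInvertible L) (hLva : RelProj.IsRelVeryAmple f L)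
    {K : Y.Modules} (hK : PicF.IsInvertible K) (hKva : RelProj.IsRelVeryAmple g K) (x : X) :
    ∃ (O : X.Opens) (_ : x ∈ O) (n₀ : ℕ), ∀ n, n₀ ≤ n →
      ∃ σ : Γ(CohB1.tensorMod L ((Scheme.Modules.pullback f).obj (CohB1.tensorPow K n)), ⊤),
        O ≤ AmpleX.locus σ ∧
          ImmAt (f ≫ g) (𝟙 ((Scheme.Modules.pushforward (f ≫ g)).obj _))
            (show Γ((Scheme.Modules.pushforward (f ≫ g)).obj
              (CohB1.tensorMod L ((Scheme.Modules.pullback f).obj (CohB1.tensorPow K n))), (⊤ : Z.Opens)) from σ) := by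
  classical
  haveI : IsSeparated f := isSeparated_of_isRelVeryAmple hLva
  haveI : IsSeparated g := isSeparated_of_isRelVeryAmple hKva
  haveI : CompactSpace X := QuasiCompact.compactSpace_of_compactSpace (f ≫ g)
  haveI : X.IsSeparated := ⟨by
    rw [show terminal.from X = (f ≫ g) ≫ terminal.from Z from terminal.hom_ext _ _]; infer_instance⟩
  obtain ⟨m, a, b, F, hF, hxW, hW, hWb, hgenW⟩ := exists_nice_locus g hK hKva (f x)
  let W := AmpleX.locus a
  obtain ⟨E, θ, hθ⟩ := exists_point_over hLva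
  obtain ⟨e, hxe, himm⟩ := hθ W hW x hxW
  obtain ⟨S, hSsub, hSfin, hSimm⟩ := exists_finite_immAt hL hW e himm
  let T := AmpleX.locus (th f θ e)
  have hTW : T ≤ f ⁻¹ᵁ W := AmpleX.locus_le _
  let Q := (Scheme.Modules.pullback f).obj K
  let P := (Scheme.Modules.pullback f).obj (CohB1.tensorPow K m)
  have hQ : PicF.IsInvertible Q := PicClLib.isInvertible_pullback f hK
  have hP : PicF.IsInvertible P := PicClLib.isInvertible_pullback f (InvX.isInvertible_tensorPow hK m)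
  let a' : Γ(P, ⊤) := InvX.pullElt f a
  let b' : Γ(Q, ⊤) := InvX.pullElt f b
  have hG : AmpleX.locus a' = f ⁻¹ᵁ W := AmpleX.locus_pullElt (InvX.isInvertible_tensorPow hK m) f a
  have hb' : AmpleX.locus b' = f ⁻¹ᵁ AmpleX.locus b := AmpleX.locus_pullElt hK f b
  -- the sections to extend
  let ι' := Option (S ⊕ F)
  haveI : Finite S := hSfin.to_subtype
  haveI : Finite F := hF.to_subtype
  have hsec : ∀ i : ι', ∃ t : Γ(L, f ⁻¹ᵁ W), (i = none → t = th f θ e) ∧ ∀ (c : Γ(X, T)),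
      (i = none ∧ c = 1) ∨ (∃ s : S, i = some (Sum.inl s) ∧ c = s.1) ∨
        (∃ s : F, i = some (Sum.inr s) ∧ c = AModX.resR hTW (f.app W s.1)) →
      AModX.res L hTW t = c • AModX.res L hTW (th f θ e) := by
    rintro (_ | ⟨s⟩ | ⟨s⟩)
    · refine ⟨th f θ e, fun _ => rfl, fun c hc => ?_⟩
      rcases hc with ⟨-, rfl⟩ | ⟨s, h, -⟩ | ⟨s, h, -⟩
      · exact (one_smul _ _).symm
      · exact nomatch h
      · exact nomatch h
    · have hs' : (∃ r : Γ(Y, W), s.1 = AModX.resR hTW (f.app W r)) ∨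
          ∃ m : Γ(E, W), AModX.res L hTW (th f θ m) = s.1 • AModX.res L hTW (th f θ e) := hSsub s.2
      obtain ⟨t, ht⟩ : ∃ t : Γ(L, f ⁻¹ᵁ W), AModX.res L hTW t = s.1 • AModX.res L hTW (th f θ e) := by
        rcases hs' with ⟨r, hr⟩ | ⟨m', hm'⟩
        · exact ⟨f.app W r • th f θ e, by rw [AModX.res_smul, ← hr]⟩
        · exact ⟨th f θ m', hm'⟩
      refine ⟨t, (fun h => nomatch h), fun c hc => ?_⟩
      rcases hc with ⟨h, -⟩ | ⟨s', h, rfl⟩ | ⟨s', h, -⟩
      · exact nomatch h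
      · obtain rfl : s = s' := Sum.inl.inj (Option.some.inj h)
        exact ht
      · exact nomatch h
    · refine ⟨f.app W s.1 • th f θ e, (fun h => nomatch h), fun c hc => ?_⟩
      rcases hc with ⟨h, -⟩ | ⟨s', h, -⟩ | ⟨s', h, rfl⟩
      · exact nomatch h
      · exact nomatch h
      · obtain rfl : s = s' := Sum.inr.inj (Option.some.inj h)
        rw [AModX.res_smul]
  choose t hnone ht using hsec
  obtain ⟨k₀, hk₀⟩ := exists_extend_family hL hP a' fun i => AModX.res L hG.le (t i)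
  obtain ⟨Tk, hTk⟩ := hk₀ k₀ le_rfl
  refine ⟨T, hxe, m * (k₀ + 1) + 1, fun n hn => ?_⟩
  obtain ⟨r, rfl⟩ := Nat.exists_eq_add_of_le hn
  let N₀ := CohB1.tensorMod (CohB1.tensorMod (CohB1.tensorMod L (CohB1.tensorPow P k₀)) P) (CohB1.tensorPow Q r)
  have hN₀ : PicF.IsInvertible N₀ := InvX.isInvertible_tensorMod (InvX.isInvertible_tensorMod
    (InvX.isInvertible_tensorMod hL (InvX.isInvertible_tensorPow hP k₀)) hP) (InvX.isInvertible_tensorPow hQ r)
  obtain ⟨Φ⟩ : Nonempty (CohB1.tensorMod N₀ Q ≅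
      CohB1.tensorMod L ((Scheme.Modules.pullback f).obj (CohB1.tensorPow K (m * (k₀ + 1) + 1 + r)))) :=
    cl_eq_iff.1 (by
      show PicF.cl (CohB1.tensorMod (CohB1.tensorMod (CohB1.tensorMod (CohB1.tensorMod L _) P) _) Q) =
        PicF.cl L * PicF.pullCl f (PicF.cl (CohB1.tensorPow K (m * (k₀ + 1) + 1 + r)))
      rw [cl_tensor, cl_tensor, cl_tensor, cl_tensor, cl_tensorPow, cl_tensorPow, cl_tensorPow,
        show PicF.cl P = PicF.pullCl f (PicF.cl (CohB1.tensorPow K m)) from rfl,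
        show PicF.cl Q = PicF.pullCl f (PicF.cl K) from rfl, cl_tensorPow, pullCl_pow, pullCl_pow,
        ← pow_mul, mul_assoc, mul_assoc, mul_assoc, ← pow_succ, ← pow_add, ← pow_add]
      congr 2
      ring)
  let s₀ : ι' → Γ(N₀, ⊤) := fun i => InvX.tmul (InvX.tmul (Tk i) a') (AmpleX.powElt b' r)
  let mk : Γ(N₀, ⊤) → Γ(Q, ⊤) → Γ(CohB1.tensorMod L
      ((Scheme.Modules.pullback f).obj (CohB1.tensorPow K (m * (k₀ + 1) + 1 + r))), ⊤) := fun u v =>
    Φ.hom.app ⊤ (InvX.tmul u v)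
  let σ := mk (s₀ none) b'
  have hres : ∀ (i : ι') (c : Γ(X, T)), (i = none ∧ c = 1) ∨ (∃ s : S, i = some (Sum.inl s) ∧ c = s.1) ∨
        (∃ s : F, i = some (Sum.inr s) ∧ c = AModX.resR hTW (f.app W s.1)) →
      AModX.res N₀ (le_top : T ≤ ⊤) (s₀ i) = c • AModX.res N₀ (le_top : T ≤ ⊤) (s₀ none) := by
    intro i c hc
    have hTG : T ≤ AmpleX.locus a' := hTW.trans hG.ge
    have h1 : ∀ j, AModX.res _ (le_top : T ≤ ⊤) (Tk j) =
        InvX.tmul (AModX.res L hTW (t j)) (AmpleX.powElt (AModX.res P (le_top : T ≤ ⊤) a') k₀) := fun j => by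
      have := congrArg (AModX.res _ hTG) (hTk j)
      rw [AModX.res_res, InvX.res_tmul, AModX.res_res, AmpleX.res_powElt, AModX.res_res] at this
      exact this
    simp only [s₀, N₀, InvX.res_tmul]
    rw [h1, h1, ht none 1 (Or.inl ⟨rfl, rfl⟩), one_smul, ht i c hc, InvX.tmul_smul_left, InvX.tmul_smul_left,
      InvX.tmul_smul_left]
  have hmk : ∀ (u : Γ(N₀, ⊤)) (v : Γ(Q, ⊤)) (c : Γ(X, T)), AModX.res N₀ (le_top : T ≤ ⊤) u = c • AModX.res N₀ (le_top : T ≤ ⊤) (s₀ none) →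
      AModX.res Q (le_top : T ≤ ⊤) v = AModX.res Q (le_top : T ≤ ⊤) b' →
      AModX.res _ (le_top : T ≤ ⊤) (mk u v) = c • AModX.res _ (le_top : T ≤ ⊤) σ := by
    intro u v c hu hv
    exact res_iso_tmul_left Φ _ hu hv
  have hmk' : ∀ (v : Γ(Q, ⊤)) (c : Γ(X, T)), AModX.res Q (le_top : T ≤ ⊤) v = c • AModX.res Q (le_top : T ≤ ⊤) b' →
      AModX.res _ (le_top : T ≤ ⊤) (mk (s₀ none) v) = c • AModX.res _ (le_top : T ≤ ⊤) σ := by
    intro v c hv
    exact res_iso_tmul_right Φ _ hv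
  have hTb' : T ≤ AmpleX.locus b' := hb' ▸ hTW.trans (f.preimage_mono hWb)
  have hlocT : AmpleX.locus (Tk none) ⊓ AmpleX.locus a' = T := by
    have h1 := congrArg AmpleX.locus (hTk none)
    rw [AmpleX.locus_res, AmpleX.locus_tmul hL (InvX.isInvertible_tensorPow hP k₀), AmpleX.locus_res] at h1
    rw [h1]
    rw [hnone none rfl]
    have h3 : AmpleX.locus a' ≤ AmpleX.locus (AmpleX.powElt (AModX.res P (le_top : AmpleX.locus a' ≤ ⊤) a') k₀) := by
      refine le_trans ?_ (le_locus_powElt _ k₀)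
      rw [AmpleX.locus_res]
      exact le_inf le_rfl le_rfl
    refine le_antisymm (inf_le_left.trans inf_le_left) ?_
    exact le_inf (le_inf le_rfl (hTW.trans hG.ge)) ((hTW.trans hG.ge).trans h3)
  have hlocσ : AmpleX.locus σ = T := by
    simp only [σ, mk, s₀, N₀] at *
    rw [AmpleX.locus_iso, AmpleX.locus_tmul hN₀ hQ,
      AmpleX.locus_tmul (InvX.isInvertible_tensorMod (InvX.isInvertible_tensorMod hL
        (InvX.isInvertible_tensorPow hP k₀)) hP) (InvX.isInvertible_tensorPow hQ r),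
      AmpleX.locus_tmul (InvX.isInvertible_tensorMod hL (InvX.isInvertible_tensorPow hP k₀)) hP, hlocT]
    exact le_antisymm (inf_le_left.trans inf_le_left) (le_inf (le_inf le_rfl (hTb'.trans (le_locus_powElt b' r))) hTb')
  refine ⟨σ, hlocσ.ge, ?_⟩
  haveI := hSimm
  refine immAt_id_of_ratios (f ≫ g) σ T hlocσ
    (Subring.closure (Set.range ((AModX.resR hTW).comp (f.app W).hom) ∪ S)) (Subring.closure_le.2 ?_)
  let R := Subring.closure (scalSet (f ≫ g) T ∪ glRatio σ T)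
  have hmem : ∀ (i : ι') (c : Γ(X, T)), (i = none ∧ c = 1) ∨ (∃ s : S, i = some (Sum.inl s) ∧ c = s.1) ∨
        (∃ s : F, i = some (Sum.inr s) ∧ c = AModX.resR hTW (f.app W s.1)) → c ∈ R := fun i c hc =>
    Subring.subset_closure (Or.inr ⟨mk (s₀ i) b', hmk _ _ c (hres i c hc) rfl⟩)
  have hWR : ⊤ ≤ R.comap ((AModX.resR hTW).comp (f.app W).hom) := by
    rw [← hgenW, Subring.closure_le]
    intro v hv
    rcases hv with (⟨c, rfl⟩ | ⟨s, hs⟩) | hv
    · refine Subring.subset_closure (Or.inl ⟨c, ?_⟩)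
      have h1 : f.app W (AModX.resR (le_top : W ≤ ⊤) (g.appTop c)) =
          AModX.resR (le_top : f ⁻¹ᵁ W ≤ ⊤) (f.appTop (g.appTop c)) :=
        congr($(f.naturality (homOfLE (le_top : W ≤ ⊤)).op).hom (g.appTop c))
      show AModX.resR (le_top : T ≤ ⊤) ((f ≫ g).appTop c) =
        AModX.resR hTW (f.app W (AModX.resR (le_top : W ≤ ⊤) (g.appTop c)))
      rw [h1, AModX.resR_resR, Scheme.Hom.comp_appTop]
      rfl
    · refine Subring.subset_closure (Or.inr ⟨mk (s₀ none) (InvX.pullElt f s), hmk' _ _ ?_⟩)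
      exact res_pullElt_ratio f (le_top : W ≤ ⊤) hs hTW
    · exact hmem (some (Sum.inr ⟨v, hv⟩)) _ (Or.inr (Or.inr ⟨⟨v, hv⟩, rfl, rfl⟩))
  intro v hv
  rcases hv with ⟨r', rfl⟩ | hv
  · exact hWR (Subring.mem_top r')
  · exact hmem (some (Sum.inl ⟨v, hv⟩)) _ (Or.inr (Or.inl ⟨⟨v, hv⟩, rfl, rfl⟩))

end Groth.Agent.SymX

namespace Groth.Agent.SymX

open Groth.Agent Groth.Agent.H23.PicMul

variable {X Y Z : Scheme.{u}}

/-- Very ampleness restricts to opens of the base. -/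
theorem isRelVeryAmple_morphismRestrict {g : X ⟶ Y} {L : X.Modules} (hva : RelProj.IsRelVeryAmple g L)
    (U : Y.Opens) : RelProj.IsRelVeryAmple (g ∣_ U) (L.restrict (g ⁻¹ᵁ U).ι) :=
  isRelVeryAmple_of_iso ((Scheme.Modules.restrictFunctorIsoPullback _).app L).symm
    (isRelVeryAmple_baseChange (isPullback_morphismRestrict g U).flip hva)

/-- Over an affine base large twists make the composite very ample. -/
theorem eventually_isRelVeryAmple_comp_affine [IsAffine Z] (f : X ⟶ Y) [QuasiCompact f] [LocallyOfFiniteType f]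
    (g : Y ⟶ Z) [QuasiCompact g] {L : X.Modules} (hL : PicF.IsInvertible L) (hLva : RelProj.IsRelVeryAmple f L)
    {K : Y.Modules} (hK : PicF.IsInvertible K) (hKva : RelProj.IsRelVeryAmple g K) :
    ∃ n₀ : ℕ, ∀ n, n₀ ≤ n → RelProj.IsRelVeryAmple (f ≫ g)
      (CohB1.tensorMod L ((Scheme.Modules.pullback f).obj (CohB1.tensorPow K n))) := by
  classical
  haveI : IsSeparated f := isSeparated_of_isRelVeryAmple hLva
  haveI : IsSeparated g := isSeparated_of_isRelVeryAmple hKva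
  haveI : CompactSpace X := QuasiCompact.compactSpace_of_compactSpace (f ≫ g)
  choose O hxO n₀ hn₀ using eventually_immAt_point f g hL hLva hK hKva
  obtain ⟨pts, hpts⟩ := isCompact_univ.elim_finite_subcover (fun x => (O x : Set X)) (fun x => (O x).2)
    fun x _ => Set.mem_iUnion.2 ⟨x, hxO x⟩
  refine ⟨pts.sup n₀, fun n hn => ?_⟩
  have hM := InvX.isInvertible_tensorMod hL (PicClLib.isInvertible_pullback f (InvX.isInvertible_tensorPow hK n))
  refine isRelVeryAmple_of_immPoints (QCoh.isQCoh_pushforward (f ≫ g) (ProjUPX.isQCoh_of_isInvertible hM))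
    (θ := 𝟙 _) fun x => ?_
  obtain ⟨y, hy, hxy⟩ := Set.mem_iUnion₂.1 (hpts (Set.mem_univ x))
  obtain ⟨σ, hσ, himm⟩ := hn₀ y n ((Finset.le_sup hy).trans hn)
  exact ⟨⊤, isAffineOpen_top Z, σ, hσ hxy, himm⟩

/-- Large twists make a composite very ample. -/
theorem eventually_isRelVeryAmple_comp [CompactSpace Z] (f : X ⟶ Y) [QuasiCompact f] [LocallyOfFiniteType f]
    (g : Y ⟶ Z) [QuasiCompact g] {L : X.Modules} (hL : PicF.IsInvertible L) (hLva : RelProj.IsRelVeryAmple f L)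
    {K : Y.Modules} (hK : PicF.IsInvertible K) (hKva : RelProj.IsRelVeryAmple g K) :
    ∃ n₀ : ℕ, 0 < n₀ ∧ ∀ n, n₀ ≤ n → RelProj.IsRelVeryAmple (f ≫ g)
      (CohB1.tensorMod L ((Scheme.Modules.pullback f).obj (CohB1.tensorPow K n))) := by
  classical
  have key : ∀ V : Z.affineOpens, ∃ n₀ : ℕ, ∀ n, n₀ ≤ n → RelProj.IsRelVeryAmple ((f ≫ g) ∣_ V.1)
      ((CohB1.tensorMod L ((Scheme.Modules.pullback f).obj (CohB1.tensorPow K n))).restrict
        ((f ≫ g) ⁻¹ᵁ V.1).ι) := by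
    intro V
    haveI : IsAffine V.1.toScheme := V.2
    let U := g ⁻¹ᵁ V.1
    obtain ⟨n₀, hn⟩ := eventually_isRelVeryAmple_comp_affine (f ∣_ U) (g ∣_ V.1)
      (AmpleX.isInvertible_restrict (f ⁻¹ᵁ U).ι hL) (isRelVeryAmple_morphismRestrict hLva U)
      (AmpleX.isInvertible_restrict U.ι hK) (isRelVeryAmple_morphismRestrict hKva V.1)
    refine ⟨n₀, fun n hn' => ?_⟩
    have h1 := hn n hn'
    rw [← morphismRestrict_comp] at h1
    refine isRelVeryAmple_of_iso (cl_eq_iff.1 ?_).some h1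
    show PicF.cl (CohB1.tensorMod (L.restrict (f ⁻¹ᵁ U).ι) ((Scheme.Modules.pullback (f ∣_ U)).obj
        (CohB1.tensorPow (K.restrict U.ι) n))) =
      PicF.cl ((CohB1.tensorMod L ((Scheme.Modules.pullback f).obj (CohB1.tensorPow K n))).restrict (f ⁻¹ᵁ U).ι)
    rw [cl_tensor, AmpleX.cl_restrict, AmpleX.cl_restrict, cl_tensor, pullCl_mul]
    show _ * PicF.pullCl (f ∣_ U) (PicF.cl (CohB1.tensorPow (K.restrict U.ι) n)) =
      _ * PicF.pullCl (f ⁻¹ᵁ U).ι (PicF.pullCl f (PicF.cl (CohB1.tensorPow K n)))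
    rw [cl_tensorPow, cl_tensorPow, AmpleX.cl_restrict, pullCl_pow, pullCl_pow, pullCl_pow,
      PicClLib.pullCl_comp, PicClLib.pullCl_comp, morphismRestrict_ι]
  choose n₀ hn₀ using key
  obtain ⟨S, hS⟩ := isCompact_univ.elim_finite_subcover (fun V : Z.affineOpens => (V.1 : Set Z))
    (fun V => V.1.2) fun y _ => by
      obtain ⟨W, hW, hy, -⟩ := exists_isAffineOpen_mem_and_subset (x := y) (U := (⊤ : Z.Opens)) trivial
      exact Set.mem_iUnion.2 ⟨⟨W, hW⟩, hy⟩
  refine ⟨S.sup n₀ + 1, Nat.succ_pos _, fun n hn => ?_⟩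
  refine (isRelVeryAmple_iff_restrict (ι := S) (fun V => V.1.1) ?_
    (InvX.isInvertible_tensorMod hL (PicClLib.isInvertible_pullback f (InvX.isInvertible_tensorPow hK n)))).2
    fun V => hn₀ V.1 n ((Finset.le_sup V.2).trans (Nat.le_of_succ_le hn))
  rw [eq_top_iff]
  intro y _
  obtain ⟨V, hV, hy⟩ := Set.mem_iUnion₂.1 (hS (Set.mem_univ y))
  exact Opens.mem_iSup.2 ⟨⟨V, hV⟩, hy⟩

end Groth.Agent.SymX
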