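import Groth.Agent.SymX.GlobalGen
import Groth.Agent.InvX.GenEpi
import Groth.Agent.AmpleX.Proj
import Groth.Agent.AmpleVan.Tw
import Groth.Agent.PnCoh.Finite.TwistInv

/-!
# Modules of finite type on `Proj` as quotients of twists
-/

set_option linter.style.haveILetI false
set_option linter.unusedSectionVars false
set_option backward.isDefEq.respectTransparency false
set_option backward.isDefEq.respectTransparency.types false
set_option maxHeartbeats 400000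

universe u

open CategoryTheory CategoryTheory.Limits AlgebraicGeometry TopologicalSpace Opposite

noncomputable section

namespace Groth.Agent.SymX

open Groth.Agent

/-- Spans over affines give spans of the stalks. -/
theorem generatedBy_of_span {Y : Scheme.{u}} {G : Y.Modules} (hG : Coh.IsQCoh G) {ι : Type*} (e : ι → Γ(G, ⊤))
    (he : ∀ U : Y.Opens, IsAffineOpen U →
      Submodule.span Γ(Y, U) (Set.range fun i => AModX.res G (le_top : U ≤ ⊤) (e i)) = ⊤) :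
    ProjUP.GeneratedBy G e := by
  intro x
  obtain ⟨_, ⟨U, hU, rfl⟩, hxU, -⟩ := Y.isBasis_affineOpens.exists_subset_of_mem_open (Set.mem_univ x) isOpen_univ
  letI := QCoh.stalkAlg (X := Y) hxU
  letI := QCoh.stalkModule G hxU
  haveI := QCoh.isScalarTower_stalk G hxU
  haveI := QCoh.isLocalization_stalk' hU hxU
  haveI := QCoh.isLocalizedModule_germLin hG hU hxU
  have h1 : Submodule.localized' (Y.presheaf.stalk x) (hU.primeIdealOf ⟨x, hxU⟩).asIdeal.primeCompl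
      (QCoh.germLin G hxU) (Submodule.span Γ(Y, U) (Set.range fun i => AModX.res G (le_top : U ≤ ⊤) (e i))) = ⊤ := by
    rw [he U hU, Submodule.localized'_top]
  rw [Submodule.localized'_span, ← Set.range_comp] at h1
  refine top_le_iff.1 (h1.ge.trans (Submodule.span_le.2 ?_))
  rintro _ ⟨i, rfl⟩
  exact Submodule.subset_span ⟨i, (InvX.germ_res' le_top hxU (e i)).symm⟩

/-- Large twists by an ample module are finitely generated. -/
theorem eventually_epi_freeMod {Y : Scheme.{u}} [CompactSpace Y] [Y.IsSeparated] {M F : Y.Modules}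
    (hM : CohB1.IsAmple M) (hq : Coh.IsQCoh F) (hft : CohB1.IsFT F) :
    ∃ n₀ : ℕ, ∀ n : ℕ, n₀ ≤ n →
      ∃ (k : ℕ) (p : FlatMod.freeMod Y k ⟶ CohB1.tensorMod F (CohB1.tensorPow M n)), Epi p := by
  obtain ⟨n₀, h⟩ := AmpleX.eventually_generated hM hq hft
  refine ⟨n₀, fun n hn => ?_⟩
  obtain ⟨G, iso, ι, s, hs⟩ := h n hn
  have hMq : Coh.IsQCoh (CohB1.tensorPow M n) := ProjUPX.isQCoh_of_isInvertible (InvX.isInvertible_tensorPow hM.1 n)
  have hTft : CohB1.IsFT (CohB1.tensorMod F (CohB1.tensorPow M n)) := by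
    haveI : Coh.IsQCoh F := hq
    haveI : Coh.IsQCoh (CohB1.tensorPow M n) := hMq
    exact (S2297.result F (CohB1.tensorPow M n)).2 hft
      (QCoh.isFT_of_isFP (QCoh.isFP_of_isFinLocFree
        (H23.PullPush.isFinLocFree_of_isInvertible (InvX.isInvertible_tensorPow hM.1 n))))
  have hG : Coh.IsQCoh G := (QCoh.isQCoh_iff_iso iso).2 (isQCoh_tensorMod hq hMq)
  have hGft : CohB1.IsFT G := (QCoh.isFT_iff hG).2 fun U => by
    haveI := QCoh.finite_of_isFT (isQCoh_tensorMod hq hMq) hTft U.2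
    exact Module.Finite.of_surjective
      ({ toFun := iso.inv.app U.1
         map_add' := map_add _
         map_smul' := Scheme.Modules.Hom.app_smul _ } :
        Γ(CohB1.tensorMod F (CohB1.tensorPow M n), U.1) →ₗ[Γ(Y, U.1)] Γ(G, U.1))
      fun y => ⟨iso.hom.app U.1 y, congr(($(iso.hom_inv_id)).app U.1 y)⟩
  obtain ⟨r, e, he⟩ := exists_fin_generators hG hGft s hs
  obtain ⟨p, hp⟩ := InvX.exists_epi_freeMod (generatedBy_of_span hG e he)
  haveI := hp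
  exact ⟨r + 1, p ≫ iso.hom, epi_comp _ _⟩

section Proj

variable {R A : Type u} [CommRing R] [CommRing A] [Algebra R A] (𝒜 : ℕ → Submodule R A) [GradedAlgebra 𝒜]
  (s : Finset A) (hs1 : ∀ f ∈ s, f ∈ 𝒜 1)
  (hs : (HomogeneousIdeal.irrelevant 𝒜).toIdeal = Ideal.span (s : Set A))

include hs1 hs

theorem proj_cover : ⨆ f : s, Proj.basicOpen 𝒜 (f : A) = ⊤ :=
  Proj.iSup_basicOpen_eq_top 𝒜 (fun f : s => (f : A)) (by rw [hs, Subtype.range_coe_subtype]; rfl)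

theorem proj_compact : CompactSpace (Proj 𝒜) := by
  refine ⟨?_⟩
  have h : (Set.univ : Set (Proj 𝒜)) = ⋃ f : s, (Proj.basicOpen 𝒜 (f : A) : Set (Proj 𝒜)) := by
    rw [← Opens.coe_iSup, proj_cover 𝒜 s hs1 hs]
    rfl
  rw [h]
  exact isCompact_iUnion fun f => (Proj.isAffineOpen_basicOpen 𝒜 (f : A) (hs1 _ f.2) one_pos).isCompact

theorem proj_quotient (F : (Proj 𝒜).Modules) (hF : Coh.IsQCoh F) (hFT : CohB1.IsFT F) :
    ∃ n₀ : ℕ, ∀ n : ℕ, n₀ ≤ n →
      ∃ (k : ℕ) (p : FlatMod.freeMod (Proj 𝒜) k ⟶ Twist.twistBy 𝒜 F (n : ℤ)), Epi p := by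
  haveI := proj_compact 𝒜 s hs1 hs
  haveI : (Proj 𝒜).IsSeparated := ⟨by
    rw [← terminal.comp_from (Proj.toSpecZero 𝒜)]; infer_instance⟩
  obtain ⟨n₀, h⟩ := eventually_epi_freeMod
    (AmpleX.isAmple_twist_one 𝒜 s hs1 (proj_cover 𝒜 s hs1 hs)) hF hFT
  refine ⟨n₀, fun n hn => ?_⟩
  obtain ⟨k, p, hp⟩ := h n hn
  obtain ⟨e⟩ := PnCoh.Finite.twist_tensorPow_iso (𝒜 := 𝒜) (fun f : ULift.{u} s => (f.down : A))
    (fun f => hs1 _ f.down.2) (top_le_iff.1 ((proj_cover 𝒜 s hs1 hs).ge.trans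
      (iSup_le fun f => le_iSup_of_le (ULift.up f) le_rfl))) n
  haveI := hp
  exact ⟨k, p ≫ ((DCoh.tensorBi.obj F).mapIso e.symm).hom, epi_comp _ _⟩

theorem proj_quotient_neg (F : (Proj 𝒜).Modules) (hF : Coh.IsQCoh F) (hFT : CohB1.IsFT F) :
    ∃ n₀ : ℕ, ∀ n : ℕ, n₀ ≤ n →
      ∃ (k : ℕ) (p : (∐ fun _ : Fin k => Twist.twist 𝒜 (-(n : ℤ))) ⟶ F), Epi p := by
  obtain ⟨n₀, h⟩ := proj_quotient 𝒜 s hs1 hs F hF hFT
  refine ⟨n₀, fun n hn => ?_⟩
  obtain ⟨k, p, hp⟩ := h n hn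
  let g : ULift.{u} s → A := fun f => (f.down : A)
  have hg : ∀ f, g f ∈ 𝒜 1 := fun f => hs1 _ f.down.2
  have hcov : ⨆ f, Proj.basicOpen 𝒜 (g f) = ⊤ := top_le_iff.1 ((proj_cover 𝒜 s hs1 hs).ge.trans
    (iSup_le fun f => le_iSup_of_le (ULift.up f) le_rfl))
  let T := Twist.twist 𝒜 (-(n : ℤ))
  haveI : (AmpleVan.tw T).IsEquivalence :=
    AmpleVan.isEquivalence_tw (PnCoh.Finite.isInvertible_twist g hg hcov _)
  obtain ⟨c⟩ := H23.PicMul.comm (Coh.structureModule (Proj 𝒜)) T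
  let e₁ : (AmpleVan.tw T).obj (FlatMod.freeMod (Proj 𝒜) k) ≅ ∐ fun _ : Fin k => T :=
    PreservesCoproduct.iso (AmpleVan.tw T) _ ≪≫ Sigma.mapIso fun _ => c ≪≫ AmpleVan.twUnit.app T
  obtain ⟨t⟩ := PnCoh.Finite.twist_tensor_iso g hg hcov (n : ℤ) (-(n : ℤ))
  obtain ⟨u⟩ := PnCoh.Finite.twist_tensorPow_iso g hg hcov 0
  let e₂ : (AmpleVan.tw T).obj (Twist.twistBy 𝒜 F (n : ℤ)) ≅ F :=
    (AmpleVan.twComp (Twist.twist 𝒜 (n : ℤ)) T).app F ≪≫
      (DCoh.tensorBi.obj F).mapIso (t ≪≫ eqToIso (by rw [add_neg_cancel]; rfl) ≪≫ u) ≪≫ AmpleVan.twUnit.app F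
  haveI := hp
  haveI : Epi ((AmpleVan.tw T).map p) := Functor.map_epi _ p
  exact ⟨k, e₁.inv ≫ (AmpleVan.tw T).map p ≫ e₂.hom, inferInstance⟩

end Proj

end Groth.Agent.SymX
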