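import Groth.Agent.SymX.VeryAmpleUP

/-!
# Base change of projective bundles
-/

set_option linter.style.haveILetI false
set_option linter.unusedSectionVars false
set_option backward.isDefEq.respectTransparency false
set_option backward.isDefEq.respectTransparency.types false

noncomputable section

universe u

open CategoryTheory CategoryTheory.Limits AlgebraicGeometry TopologicalSpace Opposite

namespace Groth.Agent.SymX

open Groth.Agent

variable {X Y P : Scheme.{u}} {E : Y.Modules} {p : P ⟶ Y} {O1 : P.Modules} {L : X.Modules}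

lemma preimage_eq_of_eq {g g' : X ⟶ Y} (h : g = g') (U : Y.Opens) : g' ⁻¹ᵁ U ≤ g ⁻¹ᵁ U := by
  subst h; exact le_rfl

/-- Transport of sections of a module along an equality of morphisms to the base. -/
def castTheta {g g' : X ⟶ Y} (h : g = g') (θ : E ⟶ (Scheme.Modules.pushforward g).obj L) :
    E ⟶ (Scheme.Modules.pushforward g').obj L :=
  θ ≫ (Scheme.Modules.pushforwardCongr h).hom.app L

lemma th_castTheta {g g' : X ⟶ Y} (h : g = g') (θ : E ⟶ (Scheme.Modules.pushforward g).obj L) {U : Y.Opens}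
    (e : Γ(E, U)) : th g' (castTheta h θ) e = AModX.res L (preimage_eq_of_eq h U) (th g θ e) :=
  rfl

/-- The pullback of the tautological sections along a morphism. -/
def pullTheta (φ : E ⟶ (Scheme.Modules.pushforward p).obj O1) (r : X ⟶ P) :
    E ⟶ (Scheme.Modules.pushforward (r ≫ p)).obj ((Scheme.Modules.pullback r).obj O1) :=
  φ ≫ (Scheme.Modules.pushforward p).map ((Scheme.Modules.pullbackPushforwardAdjunction r).unit.app O1) ≫
    (Scheme.Modules.pushforwardComp r p).hom.app _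

lemma th_pullTheta (φ : E ⟶ (Scheme.Modules.pushforward p).obj O1) (r : X ⟶ P) {U : Y.Opens} (e : Γ(E, U)) :
    th (r ≫ p) (pullTheta φ r) e = InvX.pullElt r (ph φ e) :=
  rfl

lemma th_cast_pullTheta (φ : E ⟶ (Scheme.Modules.pushforward p).obj O1) (r : X ⟶ P) {g : X ⟶ Y} (hr : r ≫ p = g)
    {U : Y.Opens} (e : Γ(E, U)) :
    th g (castTheta hr (pullTheta φ r)) e =
      AModX.res _ (preimage_eq_of_eq hr U) (InvX.pullElt r (ph φ e)) :=
  rfl

/-- A morphism is compatible with the pullback of the tautological sections. -/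
theorem isCompat'_pullTheta (φ : E ⟶ (Scheme.Modules.pushforward p).obj O1) (r : X ⟶ P) {g : X ⟶ Y}
    (hr : r ≫ p = g) : IsCompat' φ g (castTheta hr (pullTheta φ r)) r := by
  intro U U' hU hU' e e' W hW hW' c hc T hT h h'
  have k := congrArg (InvX.pullElt r) hc
  rw [InvX.pullElt_smul, ← InvX.res_pullElt, ← InvX.res_pullElt] at k
  have k2 := congrArg (AModX.res _ hT) k
  rw [AModX.res_smul, AModX.res_res, AModX.res_res] at k2
  rw [th_cast_pullTheta, th_cast_pullTheta, AModX.res_res, AModX.res_res]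
  exact k2

/-- The sections of the pulled back tautological sheaf have frames. -/
lemma le_locus_pullTheta (φ : E ⟶ (Scheme.Modules.pushforward p).obj O1) (r : X ⟶ P) {g : X ⟶ Y}
    (hr : r ≫ p = g) {U : Y.Opens} (e : Γ(E, U)) :
    r ⁻¹ᵁ AmpleX.locus (ph φ e) ≤ AmpleX.locus (th g (castTheta hr (pullTheta φ r)) e) := by
  have hle : r ⁻¹ᵁ AmpleX.locus (ph φ e) ≤ g ⁻¹ᵁ U := fun x hx => by
    show g x ∈ U
    rw [← hr]
    exact AmpleX.locus_le (ph φ e) hx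
  refine AmpleX.le_locus _ hle ?_
  rw [th_cast_pullTheta, AModX.res_res]
  have := InvX.isFrame_pullElt r (AmpleX.isFrame_res_locus (ph φ e))
  rw [← InvX.res_pullElt] at this
  exact this

section cartesian

variable {Y' P' T : Scheme.{u}} {𝒮 : RelProj.QCGrAlg Y}
  {chart : ∀ (U : Y.Opens) (hU : IsAffineOpen U), (((p ⁻¹ᵁ U : P.Opens) : Scheme.{u}) ≅ Proj (𝒮.deg U hU))}
  {lam : ∀ (U : Y.Opens) (hU : IsAffineOpen U),
    O1 ⟶ (Scheme.Modules.pushforward (RelProj.emb p chart U hU)).obj (GrTwist.twist (𝒮.deg U hU) 1)}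
  {j : E ⟶ 𝒮.toModule} {φ : E ⟶ (Scheme.Modules.pushforward p).obj O1}
  {ψ : Y' ⟶ Y} {p' : P' ⟶ Y'} {𝒮' : RelProj.QCGrAlg Y'}
  {chart' : ∀ (U : Y'.Opens) (hU : IsAffineOpen U), (((p' ⁻¹ᵁ U : P'.Opens) : Scheme.{u}) ≅ Proj (𝒮'.deg U hU))}
  {O1' : P'.Modules} {lam' : ∀ (U : Y'.Opens) (hU : IsAffineOpen U),
    O1' ⟶ (Scheme.Modules.pushforward (RelProj.emb p' chart' U hU)).obj (GrTwist.twist (𝒮'.deg U hU) 1)}
  {j' : (Scheme.Modules.pullback ψ).obj E ⟶ 𝒮'.toModule}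
  {φ' : (Scheme.Modules.pullback ψ).obj E ⟶ (Scheme.Modules.pushforward p').obj O1'}

/-- The sections over the composite given by the tautological sections of the pulled back bundle. -/
def bcTheta (φ' : (Scheme.Modules.pullback ψ).obj E ⟶ (Scheme.Modules.pushforward p').obj O1') :
    E ⟶ (Scheme.Modules.pushforward (p' ≫ ψ)).obj O1' :=
  (Scheme.Modules.pullbackPushforwardAdjunction ψ).unit.app E ≫
    (Scheme.Modules.pushforward ψ).map φ' ≫ (Scheme.Modules.pushforwardComp p' ψ).hom.app _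

lemma th_bcTheta {U : Y.Opens} (e : Γ(E, U)) :
    th (p' ≫ ψ) (bcTheta φ') e = (show Γ(O1', p' ⁻¹ᵁ (ψ ⁻¹ᵁ U)) from ph φ' (InvX.pullElt ψ e)) :=
  rfl

/-- The composite with the projection is compatible with the restricted sections. -/
lemma isCompat'_comp {g : P' ⟶ P} (hgc : IsCompat' φ (p' ≫ ψ) (bcTheta φ') g) {T₀ : Scheme.{u}} {M : T₀.Modules}
    {b : T₀ ⟶ Y'} {l : T₀ ⟶ P'} (hl : l ≫ p' = b) {θa : E ⟶ (Scheme.Modules.pushforward (b ≫ ψ)).obj M}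
    {θ' : (Scheme.Modules.pullback ψ).obj E ⟶ (Scheme.Modules.pushforward b).obj M} (hlc : IsCompat' φ' b θ' l)
    (hθ'r : ∀ (U : Y.Opens) (e : Γ(E, U)) (U' : Y'.Opens) (h : U' ≤ ψ ⁻¹ᵁ U),
      th b θ' (AModX.res _ h (InvX.pullElt ψ e)) =
        AModX.res M (b.preimage_mono h) (show Γ(M, b ⁻¹ᵁ (ψ ⁻¹ᵁ U)) from th (b ≫ ψ) θa e)) :
    IsCompat' φ (b ≫ ψ) θa (l ≫ g) := by
  intro U₁ U₂ hU₁ hU₂ e₁ e₂ W hW₁ hW₂ k hk T hT h₁ h₂
  refine AModX.eq_of_locally _ _ fun q hq => ?_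
  obtain ⟨_, ⟨U', hU', rfl⟩, hxU', hle⟩ := Y'.isBasis_affineOpens.exists_subset_of_mem_open
    (show b q ∈ ψ ⁻¹ᵁ U₁ ⊓ ψ ⁻¹ᵁ U₂ from ⟨h₁ hq, h₂ hq⟩) (ψ ⁻¹ᵁ U₁ ⊓ ψ ⁻¹ᵁ U₂).2
  let W' := g ⁻¹ᵁ W ⊓ p' ⁻¹ᵁ U'
  have k1 := hgc U₁ U₂ hU₁ hU₂ e₁ e₂ W hW₁ hW₂ k hk W' inf_le_left
    (inf_le_right.trans (p'.preimage_mono (hle.trans inf_le_left)))
    (inf_le_right.trans (p'.preimage_mono (hle.trans inf_le_right)))
  have er : ∀ (U : Y.Opens) (e : Γ(E, U)) (hU'U : U' ≤ ψ ⁻¹ᵁ U),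
      AModX.res O1' (inf_le_right : W' ≤ p' ⁻¹ᵁ U') (ph φ' (AModX.res _ hU'U (InvX.pullElt ψ e))) =
        AModX.res O1' (inf_le_right.trans (p'.preimage_mono hU'U) : W' ≤ p' ⁻¹ᵁ (ψ ⁻¹ᵁ U))
          (show Γ(O1', p' ⁻¹ᵁ (ψ ⁻¹ᵁ U)) from th (p' ≫ ψ) (bcTheta φ') e) := fun U e hU'U => by
    rw [ph, AModX.app_res]
    exact AModX.res_res (M := O1') (p'.preimage_mono hU'U) (inf_le_right : W' ≤ p' ⁻¹ᵁ U') _
  let T' := T ⊓ l ⁻¹ᵁ W'
  have hqT' : q ∈ T' := ⟨hq, hT hq, show p' (l q) ∈ U' by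
    rw [show p' (l q) = b q from congrArg (fun χ : T₀ ⟶ Y' => χ q) hl]; exact hxU'⟩
  have hT'U : T' ≤ b ⁻¹ᵁ U' := fun x hx => by
    show b x ∈ U'
    rw [← show p' (l x) = b x from congrArg (fun χ : T₀ ⟶ Y' => χ x) hl]
    exact hx.2.2
  have k2 := hlc U' U' hU' hU' (AModX.res _ (hle.trans inf_le_left) (InvX.pullElt ψ e₁))
    (AModX.res _ (hle.trans inf_le_right) (InvX.pullElt ψ e₂)) W' inf_le_right inf_le_right
    (AModX.resR inf_le_left (g.app W k)) (by rw [er, er]; exact k1) T' inf_le_right hT'U hT'U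
  rw [hθ'r, hθ'r, AModX.res_res, AModX.res_res] at k2
  refine ⟨T', inf_le_left, hqT', ?_⟩
  rw [AModX.res_res, AModX.res_smul, AModX.res_res, AModX.resR_resR]
  refine k2.trans (congrArg (· • _) ?_)
  have e3 := congr($(l.naturality (homOfLE (inf_le_left : W' ≤ g ⁻¹ᵁ W)).op).hom (g.app W k))
  refine (congrArg (AModX.resR (inf_le_right : T' ≤ l ⁻¹ᵁ W')) e3).trans ?_
  exact AModX.resR_resR _ _ _

/-- The tautological quotient upstairs maps to that of the point of the bundle. -/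
lemma exists_descent {g : P' ⟶ P} (hg : g ≫ p = p' ≫ ψ) (hgc : IsCompat' φ (p' ≫ ψ) (bcTheta φ') g)
    (hg_locus : ∀ (U : Y.Opens) (hU : IsAffineOpen U) (e : Γ(E, U)),
      AmpleX.locus (th (p' ≫ ψ) (bcTheta φ') e) ≤ g ⁻¹ᵁ AmpleX.locus (ph φ e))
    (hgen' : ∀ x : P', ∃ (U : Y.Opens) (_ : IsAffineOpen U) (e : Γ(E, U)),
      x ∈ AmpleX.locus (th (p' ≫ ψ) (bcTheta φ') e))
    {T : Scheme.{u}} (a : T ⟶ P) (b : T ⟶ Y') (hab : a ≫ p = b ≫ ψ) (m : T ⟶ P') (hmg : m ≫ g = a)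
    (hmp : m ≫ p' = b) :
    ∃ Δ : O1' ⟶ (Scheme.Modules.pushforward m).obj ((Scheme.Modules.pullback a).obj O1),
      ∀ (U : Y.Opens) (_ : IsAffineOpen U) (e : Γ(E, U)) (hle : b ⁻¹ᵁ (ψ ⁻¹ᵁ U) ≤ m ⁻¹ᵁ (p' ⁻¹ᵁ (ψ ⁻¹ᵁ U))),
        AModX.res ((Scheme.Modules.pullback a).obj O1) hle
            (show Γ((Scheme.Modules.pullback a).obj O1, m ⁻¹ᵁ (p' ⁻¹ᵁ (ψ ⁻¹ᵁ U))) from
              Δ.app (p' ⁻¹ᵁ (ψ ⁻¹ᵁ U)) (th (p' ≫ ψ) (bcTheta φ') e)) =
          (show Γ((Scheme.Modules.pullback a).obj O1, b ⁻¹ᵁ (ψ ⁻¹ᵁ U)) from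
            th (b ≫ ψ) (castTheta hab (pullTheta φ a)) e) := by
  let M := (Scheme.Modules.pullback a).obj O1
  let θa : E ⟶ (Scheme.Modules.pushforward (b ≫ ψ)).obj M := castTheta hab (pullTheta φ a)
  -- the frames of `O(1)` upstairs
  let A := Σ U : Y.affineOpens, Γ(E, U.1)
  let σ : ∀ x : A, Γ(O1', (p' ≫ ψ) ⁻¹ᵁ x.1.1) := fun x => th (p' ≫ ψ) (bcTheta φ') x.2
  let Wf : A → P'.Opens := fun x => AmpleX.locus (σ x)
  let ee : ∀ x, Γ(O1', Wf x) := fun x => AModX.res O1' (AmpleX.locus_le _) (σ x)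
  have hee : ∀ x, InvX.IsFrame (ee x) := fun x => AmpleX.isFrame_res_locus _
  have hmψ : ∀ x : A, m ⁻¹ᵁ Wf x ≤ (b ≫ ψ) ⁻¹ᵁ x.1.1 := fun x w hw => by
    show ψ (b w) ∈ x.1.1
    rw [show b w = p' (m w) from (congrArg (fun χ : T ⟶ Y' => χ w) hmp).symm]
    exact AmpleX.locus_le (σ x) hw
  let nn : ∀ x, Γ((Scheme.Modules.pushforward m).obj M, Wf x) := fun x =>
    AModX.res M (hmψ x) (th (b ≫ ψ) θa x.2)
  have hcov : ∀ y : P', ∃ x, y ∈ Wf x := fun y => by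
    obtain ⟨U, hU, e, he⟩ := hgen' y
    exact ⟨⟨⟨U, hU⟩, e⟩, he⟩
  have hc : ∀ (x y : A) (W : P'.Opens) (h : W ≤ Wf x) (h' : W ≤ Wf y) (k : Γ(P', W)),
      AModX.res O1' h' (ee y) = k • AModX.res O1' h (ee x) →
        AModX.res ((Scheme.Modules.pushforward m).obj M) h' (nn y) =
          k • AModX.res ((Scheme.Modules.pushforward m).obj M) h (nn x) := by
    intro x y W h h' k hk
    show AModX.res M (m.preimage_mono h') (AModX.res M (hmψ y) (th (b ≫ ψ) θa y.2)) =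
      m.app W k • AModX.res M (m.preimage_mono h) (AModX.res M (hmψ x) (th (b ≫ ψ) θa x.2))
    rw [AModX.res_res, AModX.res_res]
    refine AModX.eq_of_locally _ _ fun w hw => ?_
    let Z := p ⁻¹ᵁ y.1.1 ⊓ AmpleX.locus (ph φ x.2)
    have hwZ : g (m w) ∈ Z := ⟨by
      show p (g (m w)) ∈ y.1.1
      rw [show p (g (m w)) = ψ (p' (m w)) from congrArg (fun χ : P' ⟶ Y => χ (m w)) hg]
      exact AmpleX.locus_le (σ y) (h' hw), hg_locus x.1.1 x.1.2 x.2 (h hw)⟩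
    obtain ⟨d, hd⟩ := (AmpleX.isFrame_res_of_le (ph φ x.2) (inf_le_right : Z ≤ _)).exists_coord le_rfl
      (AModX.res O1 (inf_le_left : Z ≤ p ⁻¹ᵁ y.1.1) (ph φ y.2))
    rw [AModX.res_self] at hd
    let W₁ := W ⊓ g ⁻¹ᵁ Z
    have k1 := hgc x.1.1 y.1.1 x.1.2 y.1.2 x.2 y.2 Z _ _ d hd W₁ inf_le_right
      ((inf_le_left.trans h).trans (AmpleX.locus_le _)) ((inf_le_left.trans h').trans (AmpleX.locus_le _))
    have k0 := congrArg (AModX.res O1' (inf_le_left : W₁ ≤ W)) hk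
    rw [AModX.res_smul, AModX.res_res, AModX.res_res] at k0
    simp only [ee, σ, AModX.res_res] at k0
    have hkd : AModX.resR (inf_le_left : W₁ ≤ W) k = AModX.resR (inf_le_right : W₁ ≤ g ⁻¹ᵁ Z) (g.app Z d) := by
      refine ((hee x).res (inf_le_left.trans h : W₁ ≤ Wf x)).coord_unique le_rfl ?_
      simp only [ee, σ, AModX.res_res, AModX.res_self]
      exact (k0.symm.trans k1).trans (congrArg _ (AModX.res_res _ _ _).symm)
    let T₁ := m ⁻¹ᵁ W₁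
    have haT : T₁ ≤ a ⁻¹ᵁ Z := fun v hv => by
      show a v ∈ Z
      rw [show a v = g (m v) from (congrArg (fun χ : T ⟶ P => χ v) hmg).symm]
      exact hv.2
    have k2 := isCompat'_pullTheta φ a hab x.1.1 y.1.1 x.1.2 y.1.2 x.2 y.2 Z _ _ d hd T₁ haT
      ((m.preimage_mono (inf_le_left.trans h)).trans (hmψ x)) ((m.preimage_mono (inf_le_left.trans h')).trans (hmψ y))
    refine ⟨T₁, m.preimage_mono inf_le_left, ⟨hw, hwZ⟩, ?_⟩
    rw [AModX.res_res, AModX.res_smul, AModX.res_res]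
    refine k2.trans (congrArg (· • _) ?_)
    have e4 : AModX.resR (m.preimage_mono (inf_le_left : W₁ ≤ W)) (m.app W k) = m.app W₁ (AModX.resR inf_le_left k) :=
      (congr($(m.naturality (homOfLE (inf_le_left : W₁ ≤ W)).op).hom k)).symm
    rw [e4, hkd]
    have e5 : m.app W₁ (AModX.resR (inf_le_right : W₁ ≤ g ⁻¹ᵁ Z) (g.app Z d)) =
        AModX.resR (m.preimage_mono (inf_le_right : W₁ ≤ g ⁻¹ᵁ Z)) (m.app (g ⁻¹ᵁ Z) (g.app Z d)) :=
      congr($(m.naturality (homOfLE (inf_le_right : W₁ ≤ g ⁻¹ᵁ Z)).op).hom (g.app Z d))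
    rw [e5]
    have : ∀ (a' : T ⟶ P) (ha' : T₁ ≤ a' ⁻¹ᵁ Z) (_ : a' = m ≫ g),
        AModX.resR ha' (a'.app Z d) =
          AModX.resR (m.preimage_mono (inf_le_right : W₁ ≤ g ⁻¹ᵁ Z)) (m.app (g ⁻¹ᵁ Z) (g.app Z d)) := by
      rintro _ ha' rfl
      rfl
    exact this a haT hmg.symm
  let Δ : O1' ⟶ (Scheme.Modules.pushforward m).obj M := InvX.ofFrames hcov hee hc
  refine ⟨Δ, fun U hU e hle => ?_⟩
  refine AModX.eq_of_locally _ _ fun w hw => ?_
  obtain ⟨x, hx⟩ := hcov (m w)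
  let V := p' ⁻¹ᵁ (ψ ⁻¹ᵁ U) ⊓ Wf x
  let T₁ := b ⁻¹ᵁ (ψ ⁻¹ᵁ U) ⊓ m ⁻¹ᵁ V
  obtain ⟨k, hk⟩ := (hee x).exists_coord (inf_le_right : V ≤ Wf x)
    (AModX.res O1' (inf_le_left : V ≤ p' ⁻¹ᵁ (ψ ⁻¹ᵁ U)) (th (p' ≫ ψ) (bcTheta φ') e))
  refine ⟨T₁, inf_le_left, ⟨hw, hle hw, hx⟩, ?_⟩
  rw [AModX.res_res]
  -- reduce to the frames
  let Z := p ⁻¹ᵁ U ⊓ AmpleX.locus (ph φ x.2)
  refine AModX.eq_of_locally _ _ fun v hv => ?_
  have hvZ : g (m v) ∈ Z := ⟨by
    show p (g (m v)) ∈ U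
    rw [show p (g (m v)) = ψ (p' (m v)) from congrArg (fun χ : P' ⟶ Y => χ (m v)) hg]
    exact hv.2.1, hg_locus x.1.1 x.1.2 x.2 hv.2.2⟩
  obtain ⟨d, hd⟩ := (AmpleX.isFrame_res_of_le (ph φ x.2) (inf_le_right : Z ≤ _)).exists_coord le_rfl
    (AModX.res O1 (inf_le_left : Z ≤ p ⁻¹ᵁ U) (ph φ e))
  rw [AModX.res_self] at hd
  let V₁ := V ⊓ g ⁻¹ᵁ Z
  have k1 := hgc x.1.1 U x.1.2 hU x.2 e Z _ _ d hd V₁ inf_le_right
    ((inf_le_left.trans inf_le_right).trans (AmpleX.locus_le _)) (inf_le_left.trans inf_le_left)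
  let T₂ := T₁ ⊓ m ⁻¹ᵁ V₁
  refine ⟨T₂, inf_le_left, ⟨hv, hv.2, hvZ⟩, ?_⟩
  rw [AModX.res_res, AModX.res_res]
  have k2 := congrArg (fun z => (show Γ(M, m ⁻¹ᵁ V₁) from Δ.app V₁ z)) k1
  have haT : T₂ ≤ a ⁻¹ᵁ Z := fun w' hw' => by
    show a w' ∈ Z
    rw [show a w' = g (m w') from (congrArg (fun χ : T ⟶ P => χ w') hmg).symm]
    exact hw'.2.2
  have k3 := isCompat'_pullTheta φ a hab x.1.1 U x.1.2 hU x.2 e Z _ _ d hd T₂ haT
    ((inf_le_right.trans (m.preimage_mono (inf_le_left.trans inf_le_right))).trans (hmψ x))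
    (inf_le_left.trans inf_le_left)
  have f1 : Δ.app V₁ (AModX.res O1' ((inf_le_left.trans inf_le_right).trans (AmpleX.locus_le _)) (σ x)) =
      AModX.res M (m.preimage_mono (inf_le_left.trans inf_le_right : V₁ ≤ Wf x)) (nn x) := by
    rw [← AModX.res_res (AmpleX.locus_le (σ x)) (inf_le_left.trans inf_le_right : V₁ ≤ Wf x), AModX.app_res,
      InvX.ofFrames_app hcov hee hc x]
    rfl
  have k4 := congrArg (AModX.res M (inf_le_right : T₂ ≤ m ⁻¹ᵁ V₁))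
    (((AModX.app_res Δ (inf_le_left.trans inf_le_left : V₁ ≤ p' ⁻¹ᵁ (ψ ⁻¹ᵁ U)) (th (p' ≫ ψ) (bcTheta φ') e)).symm.trans
      k2).trans ((Scheme.Modules.Hom.app_smul Δ _ _).trans
        (congrArg (fun z : Γ(M, m ⁻¹ᵁ V₁) => m.app V₁ (AModX.resR inf_le_right (g.app Z d)) • z) f1)))
  simp only [AModX.res_smul] at k4
  refine Eq.trans ?_ (k4.trans ?_)
  · exact (AModX.res_res _ _ _).symm
  refine Eq.trans ?_ k3.symm
  refine congr_arg₂ (· • ·) ?_ ((AModX.res_res _ _ _).trans (AModX.res_res _ _ _))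
  have : ∀ (a' : T ⟶ P) (ha' : T₂ ≤ a' ⁻¹ᵁ Z) (_ : a' = m ≫ g),
      AModX.resR (inf_le_right : T₂ ≤ m ⁻¹ᵁ V₁) (m.app V₁ (AModX.resR (inf_le_right : V₁ ≤ g ⁻¹ᵁ Z) (g.app Z d))) =
        AModX.resR ha' (a'.app Z d) := by
    rintro _ ha' rfl
    rw [show m.app V₁ (AModX.resR (inf_le_right : V₁ ≤ g ⁻¹ᵁ Z) (g.app Z d)) =
      AModX.resR (m.preimage_mono inf_le_right) (m.app (g ⁻¹ᵁ Z) (g.app Z d)) from
        congr($(m.naturality (homOfLE (inf_le_right : V₁ ≤ g ⁻¹ᵁ Z)).op).hom (g.app Z d))]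
    exact AModX.resR_resR _ _ _
  exact this a haT hmg.symm

/-- Projective bundles commute with base change. -/
theorem exists_isPullback (C : Chartwise E 𝒮 j) (C' : Chartwise ((Scheme.Modules.pullback ψ).obj E) 𝒮' j')
    (hE : Coh.IsQCoh E) (hE' : Coh.IsQCoh ((Scheme.Modules.pullback ψ).obj E))
    (hP : RelProj.IsRelProj 𝒮 p chart) (hO1 : RelProj.IsRelTwist 𝒮 p chart 1 O1 lam) (hφ : IsTaut lam j φ)
    (hP' : RelProj.IsRelProj 𝒮' p' chart') (hO1' : RelProj.IsRelTwist 𝒮' p' chart' 1 O1' lam')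
    (hφ' : IsTaut lam' j' φ') :
    ∃ g : P' ⟶ P, IsPullback g p' p ψ ∧ Nonempty ((Scheme.Modules.pullback g).obj O1 ≅ O1') := by
  -- the sections of `E` generate `O(1)` upstairs
  have hgen' : ∀ x : P', ∃ (U : Y.Opens) (_ : IsAffineOpen U) (e : Γ(E, U)),
      x ∈ AmpleX.locus (th (p' ≫ ψ) (bcTheta φ') e) := by
    intro x
    haveI := epi_taut C' hP' hO1' φ' hφ'
    let s := (Scheme.Modules.pullbackComp p' ψ).inv.app E ≫
      (((Scheme.Modules.pullbackPushforwardAdjunction p').homEquiv _ O1').symm φ')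
    obtain ⟨U, hU, e, he⟩ := exists_frame_of_epi (g := p' ≫ ψ)
      (RelTildeX.isInvertible_twist C'.isGenDegOne hO1') s x
    refine ⟨U, hU, e, ?_⟩
    have : (Scheme.Modules.pullbackPushforwardAdjunction (p' ≫ ψ)).homEquiv E O1' s = bcTheta φ' := by
      have h := homEquiv_comp (E := E) p' ((Scheme.Modules.pullbackPushforwardAdjunction ψ).unit.app E)
        (((Scheme.Modules.pullbackPushforwardAdjunction p').homEquiv _ O1').symm φ')
      rw [show ((Scheme.Modules.pullbackPushforwardAdjunction ψ).homEquiv E _).symm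
          ((Scheme.Modules.pullbackPushforwardAdjunction ψ).unit.app E) = 𝟙 _ from by
        rw [Equiv.symm_apply_eq, Adjunction.homEquiv_id], CategoryTheory.Functor.map_id] at h
      erw [Category.id_comp, Equiv.apply_symm_apply] at h
      exact h
    rwa [this] at he
  obtain ⟨g, ⟨hg, hgc⟩, -⟩ := existsUnique_isCompat' C hO1 hP hE hφ (θ := bcTheta φ') hgen'
  have hg_locus : ∀ (U : Y.Opens) (hU : IsAffineOpen U) (e : Γ(E, U)),
      AmpleX.locus (th (p' ≫ ψ) (bcTheta φ') e) ≤ g ⁻¹ᵁ AmpleX.locus (ph φ e) := by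
    intro U hU e x hx
    obtain ⟨z, hz, rfl⟩ := (hgc.isCompat ⊤).le_dOpen C hO1 hφ (r := (⊤ : P'.Opens).ι ≫ g)
      (by rw [Category.assoc, hg]) hU e (AmpleX.locus_le _) le_top (AmpleX.isFrame_res_locus _) hx
    exact le_locus_taut hO1 C.isGrSymAlg.2 U hU e _ (hφ U hU e) hz
  have lift : ∀ c : PullbackCone p ψ, ∃! l : c.pt ⟶ P', l ≫ g = c.fst ∧ l ≫ p' = c.snd := fun c => by
    let a := c.fst
    let b := c.snd
    let M := (Scheme.Modules.pullback a).obj O1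
    let θa : E ⟶ (Scheme.Modules.pushforward (b ≫ ψ)).obj M := castTheta c.condition (pullTheta φ a)
    let θ' : (Scheme.Modules.pullback ψ).obj E ⟶ (Scheme.Modules.pushforward b).obj M :=
      ((Scheme.Modules.pullbackPushforwardAdjunction ψ).homEquiv E _).symm
        (θa ≫ (Scheme.Modules.pushforwardComp b ψ).inv.app M)
    have hθ'η : ∀ (U : Y.Opens) (e : Γ(E, U)),
        th b θ' (InvX.pullElt ψ e) = (show Γ(M, b ⁻¹ᵁ (ψ ⁻¹ᵁ U)) from th (b ≫ ψ) θa e) := fun U e => by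
      have h := ((Scheme.Modules.pullbackPushforwardAdjunction ψ).homEquiv E _).apply_symm_apply
        (θa ≫ (Scheme.Modules.pushforwardComp b ψ).inv.app M)
      rw [Adjunction.homEquiv_unit] at h
      exact congrArg (fun χ : E ⟶ (Scheme.Modules.pushforward ψ).obj ((Scheme.Modules.pushforward b).obj M) => χ.app U e) h
    have hθ'r : ∀ (U : Y.Opens) (e : Γ(E, U)) (U' : Y'.Opens) (h : U' ≤ ψ ⁻¹ᵁ U),
        th b θ' (AModX.res _ h (InvX.pullElt ψ e)) =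
          AModX.res M (b.preimage_mono h) (show Γ(M, b ⁻¹ᵁ (ψ ⁻¹ᵁ U)) from th (b ≫ ψ) θa e) := fun U e U' h => by
      rw [th, AModX.app_res, ← hθ'η U e]
      rfl
    have hgenA : ∀ x : c.pt, ∃ (U : Y.Opens) (_ : IsAffineOpen U) (e : Γ(E, U)),
        x ∈ AmpleX.locus (th (b ≫ ψ) θa e) := fun x => by
      obtain ⟨U, hU, e, he⟩ := exists_taut_point C hP hO1 φ hφ (a x)
      exact ⟨U, hU, e, le_locus_pullTheta φ a c.condition e he⟩
    have hgenT : ∀ x : c.pt, ∃ (U' : Y'.Opens) (_ : IsAffineOpen U') (e' : Γ((Scheme.Modules.pullback ψ).obj E, U')),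
        x ∈ AmpleX.locus (th b θ' e') := fun x => by
      obtain ⟨U, hU, e, he⟩ := hgenA x
      obtain ⟨_, ⟨U', hU', rfl⟩, hxU', hle⟩ := Y'.isBasis_affineOpens.exists_subset_of_mem_open
        (show b x ∈ ψ ⁻¹ᵁ U by exact AmpleX.locus_le (th (b ≫ ψ) θa e) he) (ψ ⁻¹ᵁ U).2
      refine ⟨U', hU', AModX.res _ hle (InvX.pullElt ψ e), ?_⟩
      rw [hθ'r U e U' hle, AmpleX.locus_res]
      exact ⟨he, hxU'⟩
    obtain ⟨l, ⟨hl, hlc⟩, hlu⟩ := existsUnique_isCompat' C' hO1' hP' hE' hφ' (θ := θ') hgenT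
    have hcomp : IsCompat' φ (b ≫ ψ) θa (l ≫ g) := isCompat'_comp hgc hl hlc hθ'r
    have hlg : l ≫ g = a := (existsUnique_isCompat' C hO1 hP hE hφ (θ := θa) hgenA).unique
      ⟨by rw [Category.assoc, hg, ← Category.assoc, hl], hcomp⟩
      ⟨c.condition, isCompat'_pullTheta φ a c.condition⟩
    refine ⟨l, ⟨hlg, hl⟩, ?_⟩
    rintro m ⟨hmg, hmp⟩
    refine hlu m ⟨hmp, ?_⟩
    obtain ⟨Δ, hΔσ⟩ := exists_descent hg hgc hg_locus hgen' a b c.condition m hmg hmp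
    -- the sections of `ψ^*E` are the images of the tautological ones
    have hmpψ : m ≫ p' = b := hmp
    let Ξ : (Scheme.Modules.pullback ψ).obj E ⟶ (Scheme.Modules.pushforward b).obj M :=
      castTheta hmpψ (φ' ≫ (Scheme.Modules.pushforward p').map Δ ≫ (Scheme.Modules.pushforwardComp m p').hom.app M)
    have hΞ : Ξ = θ' := by
      apply ((Scheme.Modules.pullbackPushforwardAdjunction ψ).homEquiv E _).injective
      refine Eq.trans ?_ (((Scheme.Modules.pullbackPushforwardAdjunction ψ).homEquiv E _).apply_symm_apply _).symm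
      refine homModule_ext fun U e => ?_
      rw [Adjunction.homEquiv_unit]
      exact hΔσ U.1 U.2 e _
    intro U U' hU hU' e e' W hW hW' k hk T hT h h'
    rw [← hΞ]
    have k1 := congrArg (fun z => (show Γ(M, m ⁻¹ᵁ W) from Δ.app W z)) hk
    simp only [Scheme.Modules.Hom.app_smul, AModX.app_res] at k1
    have k2 := congrArg (AModX.res M hT) k1
    erw [AModX.res_res, AModX.res_smul, AModX.res_res] at k2
    rw [th_castTheta, th_castTheta, AModX.res_res, AModX.res_res]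
    exact k2
  choose l hl hlu using lift
  exact ⟨g, ⟨⟨hg⟩, ⟨PullbackCone.IsLimit.mk hg l (fun c => (hl c).1) (fun c => (hl c).2)
    fun c m hm₁ hm₂ => hlu c m ⟨hm₁, hm₂⟩⟩⟩, nonempty_iso_of_isCompat' C hO1 hP hφ hg hgc hgen'⟩

end cartesian

end Groth.Agent.SymX
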