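import Groth.Agent.SymX.IntoBundle
import Groth.Agent.SymX.SymAlg

/-!
# `P(E) ⨿ P(F)` is a closed subscheme of `P(E ⊕ F)`
-/

set_option autoImplicit false
set_option linter.style.haveILetI false
set_option linter.unusedSectionVars false
set_option backward.isDefEq.respectTransparency false
set_option backward.isDefEq.respectTransparency.types false
universe u
open CategoryTheory CategoryTheory.Limits AlgebraicGeometry TopologicalSpace Opposite

noncomputable section

namespace Groth.Agent.SymX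

open Groth.Agent

/-- Elements of degree one come from the module. -/
theorem exists_app_eq_of_deg_one {Y : Scheme.{u}} {E : Y.Modules} (hE : Coh.IsQCoh E) {𝒮 : RelProj.QCGrAlg Y}
    {j : E ⟶ 𝒮.toModule} (hj : RelProj.IsGrSymAlg E 𝒮 j) (U : Y.Opens) (hU : IsAffineOpen U)
    {x : 𝒮.presheaf.obj (op U)} (hx : x ∈ 𝒮.deg U hU 1) : ∃ m : Γ(E, U), j.app U m = x := by
  obtain ⟨C⟩ := nonempty_chartwise hE hj
  let a : Y.AffineZariskiSite := ⟨U, hU⟩
  have h := (C.deg_iff a 1 x).1 hx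
  change (C.φ a).hom x ∈ symDeg Γ(Y, U) Γ(E, U) 1 at h
  rw [symDeg, pow_one] at h
  obtain ⟨m, hm⟩ := h
  exact ⟨m, (C.φ a).commRingCatIsoToRingEquiv.injective ((C.j_app a m).trans hm)⟩

/-- Two closed immersions with disjoint images give a closed immersion of the coproduct. -/
theorem isClosedImmersion_coprod_desc {X X' Z : Scheme.{u}} (f : X ⟶ Z) (g : X' ⟶ Z) [IsClosedImmersion f]
    [IsClosedImmersion g] (hd : ∀ a b, f a ≠ g b) : IsClosedImmersion (coprod.desc f g) := by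
  have key : ∀ {A B : Scheme.{u}} (i : A ⟶ B) [IsOpenImmersion i] (h : B ⟶ Z) (W : Z.Opens)
      [IsClosedImmersion (i ≫ h)] (_ : h ⁻¹ᵁ W ≤ i.opensRange), IsClosedImmersion (h ∣_ W) := by
    intro A B i _ h W _ hW
    haveI : Surjective (i ∣_ (h ⁻¹ᵁ W)) := ⟨fun z => by
      obtain ⟨a, ha⟩ := hW z.2
      refine ⟨⟨a, show i a ∈ h ⁻¹ᵁ W from ha.symm ▸ z.2⟩, ?_⟩
      refine Subtype.ext ?_
      have h2 := congrArg (fun φ => φ.base ⟨a, show i a ∈ h ⁻¹ᵁ W from ha.symm ▸ z.2⟩) (morphismRestrict_ι i (h ⁻¹ᵁ W))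
      exact h2.trans ha⟩
    haveI : IsIso (i ∣_ (h ⁻¹ᵁ W)) := (isIso_iff_isOpenImmersion_and_surjective _).2 ⟨inferInstance, inferInstance⟩
    have hc : IsClosedImmersion ((i ≫ h) ∣_ W) := IsZariskiLocalAtTarget.restrict (P := @IsClosedImmersion) (show IsClosedImmersion (i ≫ h) by infer_instance) W
    rw [morphismRestrict_comp] at hc
    exact (MorphismProperty.cancel_left_of_respectsIso @IsClosedImmersion (i ∣_ (h ⁻¹ᵁ W)) (h ∣_ W)).1 hc
  let h := coprod.desc f g
  let Wf : Z.Opens := ⟨(Set.range g)ᶜ, g.isClosedEmbedding.isClosed_range.isOpen_compl⟩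
  let Wg : Z.Opens := ⟨(Set.range f)ᶜ, f.isClosedEmbedding.isClosed_range.isOpen_compl⟩
  have hcov : ∀ c : (X ⨿ X' : Scheme.{u}), c ∈ (coprod.inl : X ⟶ X ⨿ X').opensRange ∨
      c ∈ (coprod.inr : X' ⟶ X ⨿ X').opensRange := fun c => by
    have := (isCompl_opensRange_inl_inr X X').sup_eq_top
    exact (Opens.mem_sup.1 (show c ∈ _ ⊔ _ by rw [this]; trivial))
  have hl : ∀ a, h ((coprod.inl : X ⟶ X ⨿ X') a) = f a := fun a =>
    congrArg (fun φ : X ⟶ Z => φ a) (coprod.inl_desc f g)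
  have hr : ∀ b, h ((coprod.inr : X' ⟶ X ⨿ X') b) = g b := fun b =>
    congrArg (fun φ : X' ⟶ Z => φ b) (coprod.inr_desc f g)
  haveI : IsClosedImmersion (coprod.inl ≫ h) := by rw [coprod.inl_desc]; infer_instance
  haveI : IsClosedImmersion (coprod.inr ≫ h) := by rw [coprod.inr_desc]; infer_instance
  haveI hf' : IsClosedImmersion (h ∣_ Wf) := key coprod.inl h Wf fun c hc => (hcov c).resolve_right fun ⟨b, hb⟩ =>
    hc ⟨b, (hr b).symm.trans (congrArg _ hb)⟩
  haveI hg' : IsClosedImmersion (h ∣_ Wg) := key coprod.inr h Wg fun c hc => (hcov c).resolve_left fun ⟨a, ha⟩ =>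
    hc ⟨a, (hl a).symm.trans (congrArg _ ha)⟩
  refine IsZariskiLocalAtTarget.of_iSup_eq_top (P := @IsClosedImmersion) (fun b : Bool => cond b Wf Wg)
    (top_le_iff.1 fun z _ => ?_) fun b => by cases b <;> assumption
  by_cases hz : z ∈ Set.range g
  · obtain ⟨b, rfl⟩ := hz
    exact Opens.mem_iSup.2 ⟨false, fun ⟨a, ha⟩ => hd a b ha⟩
  · exact Opens.mem_iSup.2 ⟨true, hz⟩

end Groth.Agent.SymX
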