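import Groth.Agent.Proj16.Map
import Groth.Agent.Proj16.ClosedSub
import Groth.Agent.Proj16.AwayZero
import Mathlib.RingTheory.GradedAlgebra.Radical

/-!
# The homogeneous ideal of a closed subscheme of `Proj` of a graded ring

For a graded ring `A` (no finiteness, no generation in degree one) and a closed immersion
`i : Z ⟶ Proj A`, the ideal `clIdeal` is the homogeneous ideal of `Z`: `a` lies in it if for every
`g` of positive degree some `g ^ M * a` lies in the ideal generated by the numerators of the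
fractions `x / g ^ m` vanishing on `Z`.  When `Proj A` is quasi-compact, `Proj (A ⧸ clIdeal) ≅ Z`,
and the ideal is compatible with inverting an element of degree zero.
-/

set_option linter.style.haveILetI false
set_option linter.unusedSectionVars false
set_option backward.isDefEq.respectTransparency false
set_option backward.isDefEq.respectTransparency.types false

universe u

open SetLike DirectSum AlgebraicGeometry HomogeneousIdeal HomogeneousLocalization CategoryTheory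
  CategoryTheory.Limits

noncomputable section

namespace Groth.Agent.SymX.ClosedQuot

variable {A : Type u} [CommRing A] {𝒜 : ℕ → AddSubgroup A} [GradedRing 𝒜]

section cover

/-- Homogeneous elements of positive degree covering `Proj`. -/
def IsCover (𝒜 : ℕ → AddSubgroup A) [GradedRing 𝒜] (s : Finset (ℕ × A)) : Prop :=
  (∀ f ∈ s, 0 < f.1 ∧ f.2 ∈ 𝒜 f.1) ∧ ∀ y : Proj 𝒜, ∃ f ∈ s, y ∈ Proj.basicOpen 𝒜 f.2

lemma exists_isCover [CompactSpace (Proj 𝒜)] : ∃ s : Finset (ℕ × A), IsCover 𝒜 s := by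
  classical
  obtain ⟨t, ht⟩ := isCompact_univ.elim_finite_subcover
    (fun f : {f : ℕ × A // 0 < f.1 ∧ f.2 ∈ 𝒜 f.1} => (Proj.basicOpen 𝒜 f.1.2 : Set (Proj 𝒜)))
    (fun f => (Proj.basicOpen 𝒜 f.1.2).isOpen) (fun y _ => by
      obtain ⟨d, f, hd, hf, hy, -⟩ := Proj16.exists_basicOpen_subset (𝒜 := 𝒜) isOpen_univ (Set.mem_univ y)
      exact Set.mem_iUnion.2 ⟨⟨(d, f), hd, hf⟩, hy⟩)
  refine ⟨t.image Subtype.val, fun f hf => ?_, fun y => ?_⟩
  · obtain ⟨f', -, rfl⟩ := Finset.mem_image.1 hf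
    exact f'.2
  · obtain ⟨f, hf, hy⟩ := Set.mem_iUnion₂.1 (ht (Set.mem_univ y))
    exact ⟨f.1, Finset.mem_image_of_mem _ hf, hy⟩

lemma IsCover.mem_radical {s : Finset (ℕ × A)} (hs : IsCover 𝒜 s) {d : ℕ} {g : A} (hd : 0 < d)
    (hg : g ∈ 𝒜 d) (k : ℕ × A → ℕ) : ∃ L : ℕ, g ^ L ∈ Ideal.span ((fun f => f.2 ^ k f) '' (s : Set (ℕ × A))) := by
  by_contra h
  push Not at h
  obtain ⟨P, hP, hle, hgP⟩ : ∃ P : Ideal A, P.IsPrime ∧
      Ideal.span ((fun f => f.2 ^ k f) '' (s : Set (ℕ × A))) ≤ P ∧ g ∉ P := by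
    have : g ∉ (Ideal.span ((fun f => f.2 ^ k f) '' (s : Set (ℕ × A)))).radical := fun ⟨L, hL⟩ => h L hL
    rw [Ideal.radical_eq_sInf] at this
    simp only [Submodule.mem_sInf, Set.mem_setOf_eq, not_forall] at this
    obtain ⟨P, ⟨hle, hP⟩, hgP⟩ := this
    exact ⟨P, hP, hle, hgP⟩
  let P' := P.homogeneousCore 𝒜
  have hg' : g ∉ P'.toIdeal := fun h' => hgP (Ideal.toIdeal_homogeneousCore_le 𝒜 P h')
  have hprime : P'.toIdeal.IsPrime := Ideal.IsPrime.homogeneousCore hP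
  let y : Proj 𝒜 := ⟨P', hprime, fun hirr => hg' (hirr (HomogeneousIdeal.mem_irrelevant_of_mem _ hd hg))⟩
  obtain ⟨f, hf, hy⟩ := hs.2 y
  refine hy (Ideal.mem_homogeneousCore_of_homogeneous_of_mem ⟨f.1, (hs.1 f hf).2⟩ ?_)
  exact hP.mem_of_pow_mem (k f) (hle (Ideal.subset_span ⟨f, hf, rfl⟩))

end cover

variable {Z : Scheme.{u}} (i : Z ⟶ Proj 𝒜)

/-- The ideal of the closed subscheme on a standard chart. -/
def chartK {d : ℕ} (g : A) (hg : g ∈ 𝒜 d) (hd : 0 < d) : Ideal (Away 𝒜 g) :=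
  Proj16.chartIdeal i.ker (Proj.awayι 𝒜 g hg hd)

/-- Numerators of fractions vanishing on the closed subscheme. -/
def numSet {d : ℕ} (g : A) (hg : g ∈ 𝒜 d) (hd : 0 < d) : Set A :=
  {x | ∃ (m : ℕ) (hx : x ∈ 𝒜 (m • d)), Away.mk 𝒜 hg m x hx ∈ chartK i g hg hd}

/-- The ideal generated by the numerators. -/
def numIdeal {d : ℕ} (g : A) (hg : g ∈ 𝒜 d) (hd : 0 < d) : Ideal A := Ideal.span (numSet i g hg hd)

/-- The elements some power of `g` times which lies in `J`. -/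
def colonPow (J : Ideal A) (g : A) : Ideal A where
  carrier := {a | ∃ M : ℕ, g ^ M * a ∈ J}
  zero_mem' := ⟨0, by simp⟩
  add_mem' := by
    rintro a b ⟨M, hM⟩ ⟨N, hN⟩
    refine ⟨M + N, ?_⟩
    have : g ^ (M + N) * (a + b) = g ^ N * (g ^ M * a) + g ^ M * (g ^ N * b) := by ring
    rw [this]
    exact add_mem (Ideal.mul_mem_left _ _ hM) (Ideal.mul_mem_left _ _ hN)
  smul_mem' := by
    rintro c a ⟨M, hM⟩
    refine ⟨M, ?_⟩
    rw [smul_eq_mul, mul_left_comm]
    exact Ideal.mul_mem_left _ _ hM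

lemma mem_colonPow {J : Ideal A} {g a : A} : a ∈ colonPow J g ↔ ∃ M : ℕ, g ^ M * a ∈ J := Iff.rfl

/-- The homogeneous ideal of the closed subscheme. -/
def clIdeal : Ideal A :=
  ⨅ g : {g : ℕ × A // 0 < g.1 ∧ g.2 ∈ 𝒜 g.1}, colonPow (numIdeal i g.1.2 g.2.2 g.2.1) g.1.2

lemma mem_clIdeal {a : A} : a ∈ clIdeal i ↔
    ∀ (d : ℕ) (hd : 0 < d) (g : A) (hg : g ∈ 𝒜 d), ∃ M : ℕ, g ^ M * a ∈ numIdeal i g hg hd := by
  simp only [clIdeal, Submodule.mem_iInf, mem_colonPow]
  exact ⟨fun h d hd g hg => h ⟨(d, g), hd, hg⟩, fun h g => h g.1.1 g.2.1 g.1.2 g.2.2⟩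

lemma numIdeal_isHomogeneous {d : ℕ} (g : A) (hg : g ∈ 𝒜 d) (hd : 0 < d) :
    (numIdeal i g hg hd).IsHomogeneous 𝒜 := by
  refine Ideal.homogeneous_span 𝒜 _ ?_
  rintro x ⟨m, hx, -⟩
  exact ⟨_, hx⟩

lemma clIdeal_isHomogeneous : (clIdeal i).IsHomogeneous 𝒜 := by
  refine Ideal.IsHomogeneous.iInf fun g n a ha => ?_
  obtain ⟨M, hM⟩ := ha
  refine ⟨M, ?_⟩
  have h := numIdeal_isHomogeneous i g.1.2 g.2.2 g.2.1 (M • g.1.1 + n) hM
  rwa [DirectSum.coe_decompose_mul_add_of_left_mem 𝒜 (SetLike.pow_mem_graded M g.2.2)] at h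

section algebra

variable {d e : ℕ} {f g : A} (hf : f ∈ 𝒜 d) (hd : 0 < d) (hg : g ∈ 𝒜 e) (he : 0 < e)

lemma chartK_map :
    Proj16.chartIdeal i.ker (Proj.awayι 𝒜 (f * g) (SetLike.mul_mem_graded hf hg) (hd.trans_le (Nat.le_add_right d e))) =
      (chartK i f hf hd).map (awayMap 𝒜 hg rfl) :=
  (congrArg (Proj16.chartIdeal i.ker) (Proj.SpecMap_awayMap_awayι 𝒜 hf hd hg rfl).symm).trans
    (Proj16.chartIdeal_comp i.ker _ _)

lemma chartK_map' :
    Proj16.chartIdeal i.ker (Proj.awayι 𝒜 (f * g) (SetLike.mul_mem_graded hf hg) (hd.trans_le (Nat.le_add_right d e))) =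
      (chartK i g hg he).map (awayMap 𝒜 hf (mul_comm f g)) := by
  have hmem : f * g ∈ 𝒜 (e + d) := add_comm d e ▸ SetLike.mul_mem_graded hf hg
  have hcongr : ∀ (a b : ℕ) (ha : f * g ∈ 𝒜 a) (hb : f * g ∈ 𝒜 b) (pa : 0 < a) (pb : 0 < b), a = b →
      Proj.awayι 𝒜 (f * g) ha pa = Proj.awayι 𝒜 (f * g) hb pb := by
    rintro a b ha hb pa pb rfl; rfl
  rw [hcongr (d + e) (e + d) _ hmem _ (by omega) (add_comm d e)]
  exact (congrArg (Proj16.chartIdeal i.ker) (Proj.SpecMap_awayMap_awayι 𝒜 hg he hf (mul_comm f g)).symm).trans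
    (Proj16.chartIdeal_comp i.ker _ _)

include hd he in
/-- Moving a vanishing fraction to another chart. -/
lemma exists_pow_mul_mem_numSet {a : A} (ha : a ∈ numSet i f hf hd) :
    ∃ k : ℕ, f ^ k * a ∈ numSet i g hg he := by
  obtain ⟨m, ha, hK⟩ := ha
  obtain ⟨e', rfl⟩ : ∃ e', e = e' + 1 := ⟨e - 1, by omega⟩
  have hw : f ^ (m * e') * a ∈ 𝒜 ((m * d) • (e' + 1)) := by
    have h := SetLike.mul_mem_graded (SetLike.pow_mem_graded (m * e') hf) ha
    have e1 : (m * e') • d + m • d = (m * d) • (e' + 1) := by simp only [smul_eq_mul]; ring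
    rwa [e1] at h
  set w := Away.mk 𝒜 hg (m * d) (f ^ (m * e') * a) hw
  set t := Away.isLocalizationElem hg hf
  letI := (awayMap 𝒜 hf (mul_comm f g)).toAlgebra
  have hloc := Away.isLocalization_mul hg hf (mul_comm f g) he.ne'
  have hid : awayMap 𝒜 hf (mul_comm f g) w =
      awayMap 𝒜 hg rfl (Away.mk 𝒜 hf m a ha) * awayMap 𝒜 hf (mul_comm f g) t ^ m := by
    apply HomogeneousLocalization.val_injective
    simp only [w, t, Away.isLocalizationElem, awayMap_mk, HomogeneousLocalization.val_mul,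
      HomogeneousLocalization.val_pow, Away.val_mk, Localization.mk_pow, Localization.mk_mul]
    rw [Localization.mk_eq_mk_iff, Localization.r_iff_exists]
    refine ⟨1, ?_⟩
    simp only [OneMemClass.coe_one, one_mul, Submonoid.coe_mul, SubmonoidClass.coe_pow]
    ring
  obtain ⟨⟨_, l, rfl⟩, hl⟩ : ∃ u : Submonoid.powers t, (u : Away 𝒜 g) * w ∈ chartK i g hg he := by
    have h3 : algebraMap (Away 𝒜 g) (Away 𝒜 (f * g)) w ∈
        (chartK i g hg he).map (algebraMap (Away 𝒜 g) (Away 𝒜 (f * g))) := by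
      rw [RingHom.algebraMap_toAlgebra, hid]
      refine Ideal.mul_mem_right _ _ ?_
      rw [← chartK_map' i hf hd hg he, chartK_map i hf hd hg]
      exact Ideal.mem_map_of_mem _ hK
    obtain ⟨u, hu, huw⟩ := (IsLocalization.algebraMap_mem_map_algebraMap_iff (Submonoid.powers t) _ _ _).mp h3
    exact ⟨⟨u, hu⟩, huw⟩
  have hmem : f ^ ((e' + 1) * l + m * e') * a ∈ 𝒜 ((d * l + m * d) • (e' + 1)) := by
    have h := SetLike.mul_mem_graded (SetLike.pow_mem_graded ((e' + 1) * l + m * e') hf) ha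
    have e1 : ((e' + 1) * l + m * e') • d + m • d = (d * l + m * d) • (e' + 1) := by simp only [smul_eq_mul]; ring
    rwa [e1] at h
  have h4 : Away.mk 𝒜 hg (d * l + m * d) (f ^ ((e' + 1) * l + m * e') * a) hmem = t ^ l * w := by
    apply HomogeneousLocalization.val_injective
    simp only [w, t, Away.isLocalizationElem, HomogeneousLocalization.val_mul,
      HomogeneousLocalization.val_pow, Away.val_mk, Localization.mk_pow, Localization.mk_mul]
    rw [Localization.mk_eq_mk_iff, Localization.r_iff_exists]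
    refine ⟨1, ?_⟩
    simp only [OneMemClass.coe_one, one_mul, Submonoid.coe_mul, SubmonoidClass.coe_pow]
    ring
  exact ⟨(e' + 1) * l + m * e', d * l + m * d, hmem, h4 ▸ hl⟩

include hd he in
lemma exists_pow_mul_mem_numIdeal {a : A} (ha : a ∈ numIdeal i f hf hd) :
    ∃ k : ℕ, f ^ k * a ∈ numIdeal i g hg he := by
  have hle : numIdeal i f hf hd ≤ colonPow (numIdeal i g hg he) f :=
    Ideal.span_le.2 fun x hx => by
      obtain ⟨k, hk⟩ := exists_pow_mul_mem_numSet i hf hd hg he hx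
      exact ⟨k, Ideal.subset_span hk⟩
  exact hle ha

end algebra

variable {s : Finset (ℕ × A)} (hs : IsCover 𝒜 s)

include hs in
/-- It suffices to test the elements of a finite cover. -/
lemma mem_clIdeal_of_cover {a : A}
    (h : ∀ f (hf : f ∈ s), ∃ M : ℕ, f.2 ^ M * a ∈ numIdeal i f.2 (hs.1 f hf).2 (hs.1 f hf).1) :
    a ∈ clIdeal i := by
  classical
  rw [mem_clIdeal]
  intro d hd g hg
  have h' : ∀ f : ℕ × A, ∃ K : ℕ, f ∈ s → f.2 ^ K * a ∈ numIdeal i g hg hd := fun f => by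
    by_cases hf : f ∈ s
    · obtain ⟨M, hM⟩ := h f hf
      obtain ⟨k, hk⟩ := exists_pow_mul_mem_numIdeal i (hs.1 f hf).2 (hs.1 f hf).1 hg hd hM
      exact ⟨k + M, fun _ => by rwa [pow_add, mul_assoc]⟩
    · exact ⟨0, fun hf' => absurd hf' hf⟩
  choose K hK using h'
  obtain ⟨L, hL⟩ := hs.mem_radical hd hg K
  refine ⟨L, ?_⟩
  have hle : Ideal.span ((fun f => f.2 ^ K f) '' (s : Set (ℕ × A))) ≤
      (numIdeal i g hg hd).colon ({a} : Set A) := by
    rw [Ideal.span_le]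
    rintro _ ⟨f, hf, rfl⟩
    exact Submodule.mem_colon_singleton.2 (hK f hf)
  exact Submodule.mem_colon_singleton.1 (hle hL)

include hs in
lemma exists_pow_mul_mem_clIdeal {d : ℕ} {f : A} (hf : f ∈ 𝒜 d) (hd : 0 < d) {a : A}
    (ha : a ∈ numIdeal i f hf hd) : ∃ k : ℕ, f ^ k * a ∈ clIdeal i := by
  classical
  have h' : ∀ g : s, ∃ k : ℕ, f ^ k * a ∈ numIdeal i g.1.2 (hs.1 g.1 g.2).2 (hs.1 g.1 g.2).1 :=
    fun g => exists_pow_mul_mem_numIdeal i hf hd _ _ ha
  choose k hk using h'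
  refine ⟨Finset.univ.sup k, mem_clIdeal_of_cover i hs fun g hg => ⟨0, ?_⟩⟩
  obtain ⟨l, hl⟩ := Nat.exists_eq_add_of_le (Finset.le_sup (f := k) (Finset.mem_univ ⟨g, hg⟩))
  rw [pow_zero, one_mul, hl, add_comm, pow_add, mul_assoc]
  exact Ideal.mul_mem_left _ _ (hk ⟨g, hg⟩)

/-- A homogeneous element of the numerator ideal in a degree multiple of that of `f` gives a vanishing
fraction. -/
lemma mk_mem_chartK {d : ℕ} {f : A} (hf : f ∈ 𝒜 d) (hd : 0 < d) {a : A} (haI : a ∈ numIdeal i f hf hd)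
    {m : ℕ} (ha : a ∈ 𝒜 (m • d)) : Away.mk 𝒜 hf m a ha ∈ chartK i f hf hd := by
  classical
  obtain ⟨c, hc⟩ := Finsupp.mem_span_range_iff_exists_finsupp.mp
    (show a ∈ Submodule.span A (Set.range (Subtype.val : numSet i f hf hd → A)) by
      rwa [Subtype.range_coe])
  have hproj : a = ∑ x ∈ c.support, GradedRing.proj 𝒜 (m • d) (c x * (x : A)) := by
    conv_lhs => rw [← Proj16.proj_of_mem 𝒜 ha, ← hc]
    simp [Finsupp.sum, map_sum]
  have key : ∀ x : numSet i f hf hd, ∃ h : GradedRing.proj 𝒜 (m • d) (c x * (x : A)) ∈ 𝒜 (m • d),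
      Away.mk 𝒜 hf m _ h ∈ chartK i f hf hd := by
    rintro ⟨x, n, hx, hxK⟩
    refine ⟨SetLike.coe_mem _, ?_⟩
    by_cases hnm : n ≤ m
    · obtain ⟨l, rfl⟩ := Nat.exists_eq_add_of_le hnm
      have e : GradedRing.proj 𝒜 ((n + l) • d) (c ⟨x, n, hx, hxK⟩ * x) =
          GradedRing.proj 𝒜 (l • d) (c ⟨x, n, hx, hxK⟩) * x := by
        rw [show (n + l) • d = l • d + n • d by simp only [smul_eq_mul]; ring, GradedRing.proj_apply,
          DirectSum.coe_decompose_mul_add_of_right_mem 𝒜 hx, GradedRing.proj_apply]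
      have e2 : Away.mk 𝒜 hf (n + l) (GradedRing.proj 𝒜 ((n + l) • d) (c ⟨x, n, hx, hxK⟩ * x))
          (SetLike.coe_mem _) =
          Away.mk 𝒜 hf l (GradedRing.proj 𝒜 (l • d) (c ⟨x, n, hx, hxK⟩)) (SetLike.coe_mem _) *
            Away.mk 𝒜 hf n x hx := by
        apply HomogeneousLocalization.val_injective
        simp only [Away.val_mk, HomogeneousLocalization.val_mul, Localization.mk_mul, e]
        congr 1
        exact Subtype.ext (by simp [pow_add, mul_comm])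
      rw [e2]
      exact Ideal.mul_mem_left _ _ hxK
    · have e : GradedRing.proj 𝒜 (m • d) (c ⟨x, n, hx, hxK⟩ * x) = 0 := by
        rw [GradedRing.proj_apply, DirectSum.coe_decompose_mul_of_right_mem_of_not_le 𝒜 hx]
        rw [smul_eq_mul, smul_eq_mul, Nat.mul_le_mul_right_iff hd]
        exact hnm
      convert Ideal.zero_mem (chartK i f hf hd) using 1
      apply HomogeneousLocalization.val_injective
      simp only [Away.val_mk, HomogeneousLocalization.val_zero, e, Localization.mk_zero]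
  have hsum : ∀ (t : Finset (numSet i f hf hd))
      (h : ∑ x ∈ t, GradedRing.proj 𝒜 (m • d) (c x * (x : A)) ∈ 𝒜 (m • d)),
      Away.mk 𝒜 hf m _ h ∈ chartK i f hf hd := by
    intro t
    induction t using Finset.induction with
    | empty =>
      intro h
      convert Ideal.zero_mem (chartK i f hf hd) using 1
      apply HomogeneousLocalization.val_injective
      simp [Away.val_mk, HomogeneousLocalization.val_zero, Localization.mk_zero]
    | @insert x t hx ih =>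
      intro h
      have h' : ∑ x ∈ t, GradedRing.proj 𝒜 (m • d) (c x * (x : A)) ∈ 𝒜 (m • d) :=
        sum_mem fun y _ => SetLike.coe_mem _
      obtain ⟨hk, hkK⟩ := key x
      convert Ideal.add_mem _ hkK (ih h') using 1
      apply HomogeneousLocalization.val_injective
      simp [Away.val_mk, HomogeneousLocalization.val_add, Localization.add_mk_self, Finset.sum_insert hx]
  have h0 : Away.mk 𝒜 hf m a ha = Away.mk 𝒜 hf m _
      (show ∑ x ∈ c.support, GradedRing.proj 𝒜 (m • d) (c x * (x : A)) ∈ 𝒜 (m • d) from hproj ▸ ha) := by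
    apply HomogeneousLocalization.val_injective
    simp only [Away.val_mk]
    rw [← hproj]
  rw [h0]
  exact hsum _ _

include hs in
/-- A fraction vanishes on the closed subscheme iff a multiple of its numerator lies in the ideal. -/
lemma mk_mem_chartK_iff {d : ℕ} {f : A} (hf : f ∈ 𝒜 d) (hd : 0 < d) {m : ℕ} {a : A} (ha : a ∈ 𝒜 (m • d)) :
    Away.mk 𝒜 hf m a ha ∈ chartK i f hf hd ↔ ∃ k : ℕ, f ^ k * a ∈ clIdeal i := by
  refine ⟨fun h => exists_pow_mul_mem_clIdeal i hs hf hd (Ideal.subset_span ⟨m, ha, h⟩), ?_⟩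
  rintro ⟨k, hk⟩
  obtain ⟨M, hM⟩ := (mem_clIdeal i).1 hk d hd f hf
  have hmem : f ^ M * (f ^ k * a) ∈ 𝒜 ((M + k + m) • d) := by
    have h := SetLike.mul_mem_graded (SetLike.pow_mem_graded M hf)
      (SetLike.mul_mem_graded (SetLike.pow_mem_graded k hf) ha)
    rwa [← add_assoc, ← add_smul, ← add_smul] at h
  have h1 := mk_mem_chartK i hf hd hM hmem
  have e : Away.mk 𝒜 hf m a ha = Away.mk 𝒜 hf (M + k + m) (f ^ M * (f ^ k * a)) hmem := by
    apply HomogeneousLocalization.val_injective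
    simp only [Away.val_mk]
    rw [Localization.mk_eq_mk_iff, Localization.r_iff_exists]
    exact ⟨1, by simp [pow_add]; ring⟩
  rw [e]
  exact h1

include hs in
/-- A graded quotient by the ideal of a closed subscheme of `Proj` is that subscheme. -/
theorem exists_iso_of_ker [IsClosedImmersion i] {B τ : Type u} [CommRing B] [SetLike τ B] [AddSubgroupClass τ B]
    {ℬ : ℕ → τ} [GradedRing ℬ] (φ : 𝒜 →+*ᵍ ℬ) (hsurj : Function.Surjective φ)
    (hφ : HomogeneousIdeal.irrelevant ℬ ≤ (HomogeneousIdeal.irrelevant 𝒜).map φ)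
    (hker : ∀ a, φ a = 0 ↔ a ∈ clIdeal i) :
    ∃ e : Z ≅ Proj ℬ, e.hom ≫ Proj.map φ hφ = i := by
  have := Proj16.isClosedImmersion_map φ hφ hsurj
  have hk : (Proj.map φ hφ).ker = i.ker := by
    have hcomap : ∀ f : s, (Proj.map φ hφ).ker.comap (Proj.awayι 𝒜 f.1.2 (hs.1 f.1 f.2).2 (hs.1 f.1 f.2).1) =
        i.ker.comap (Proj.awayι 𝒜 f.1.2 (hs.1 f.1 f.2).2 (hs.1 f.1 f.2).1) := by
      rintro ⟨⟨d, f⟩, hfs⟩
      obtain ⟨hd, hf⟩ := hs.1 _ hfs
      have sq : IsPullback (Spec.map (CommRingCat.ofHom (Away.map φ f)))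
          (Proj.awayι _ (φ f) (φ.2 hf) hd) (Proj.awayι 𝒜 f hf hd)
          (Proj.map φ hφ) := by
        refine IsOpenImmersion.isPullback _ _ _ _ (Proj.awayι_comp_map φ hφ hd _ hf) ?_
        rw [Proj.opensRange_awayι, Proj.opensRange_awayι, Proj.map_preimage_basicOpen]
      refine Proj16.comap_eq_of_chartIdeal _ ?_
      rw [Proj16.chartIdeal_eq_ker _ _ sq]
      show RingHom.ker (Away.map φ f) = chartK i f hf hd
      ext x
      obtain ⟨n, a, ha, rfl⟩ := x.mk_surjective 𝒜 hf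
      rw [RingHom.mem_ker, Away.map_mk, ← (HomogeneousLocalization.val_injective _).eq_iff,
        Away.val_mk, HomogeneousLocalization.val_zero, Localization.mk_eq_mk',
        IsLocalization.mk'_eq_zero_iff, mk_mem_chartK_iff i hs hf hd ha]
      constructor
      · rintro ⟨⟨_, m, rfl⟩, hm⟩
        exact ⟨m, (hker _).1 (by simpa using hm)⟩
      · rintro ⟨k, hk⟩
        refine ⟨⟨φ f ^ k, k, rfl⟩, ?_⟩
        show φ f ^ k * φ a = 0
        rw [← map_pow, ← map_mul]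
        exact (hker _).2 hk
    have hcov : ∀ y : Proj 𝒜, ∃ (f : s) (z : Spec (.of (Away 𝒜 f.1.2))),
        Proj.awayι 𝒜 f.1.2 (hs.1 f.1 f.2).2 (hs.1 f.1 f.2).1 z = y := fun y => by
      obtain ⟨f, hf, hy⟩ := hs.2 y
      rw [← Proj.opensRange_awayι 𝒜 f.2 (hs.1 f hf).2 (hs.1 f hf).1] at hy
      exact ⟨⟨f, hf⟩, hy⟩
    exact le_antisymm (ModPairLib.le_of_comap_le _ hcov fun f => (hcomap f).le)
      (ModPairLib.le_of_comap_le _ hcov fun f => (hcomap f).ge)
  exact ⟨@asIso _ _ _ _ (IsClosedImmersion.lift (Proj.map φ hφ) i hk.le)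
      (IsClosedImmersion.isIso_lift _ _ hk), IsClosedImmersion.lift_fac _ _ _⟩

section localization

variable {B : Type u} [CommRing B] {ℬ : ℕ → AddSubgroup B} [GradedRing ℬ]
  (φ : 𝒜 →+*ᵍ ℬ) (hφ : HomogeneousIdeal.irrelevant ℬ ≤ (HomogeneousIdeal.irrelevant 𝒜).map φ)
  {Z' : Scheme.{u}} (i' : Z' ⟶ Proj ℬ) (hcomap : i'.ker = i.ker.comap (Proj.map φ hφ))

include hφ hcomap in
lemma chartK_map_hom {d : ℕ} {f : A} (hf : f ∈ 𝒜 d) (hd : 0 < d) :
    chartK i' (φ f) (φ.2 hf) hd = (chartK i f hf hd).map (Away.map φ f) := by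
  unfold chartK
  rw [hcomap]
  refine Eq.trans ?_ ((congrArg (Proj16.chartIdeal i.ker) (Proj.awayι_comp_map φ hφ hd f hf)).trans
    (Proj16.chartIdeal_comp i.ker _ _))
  unfold Proj16.chartIdeal
  rw [Scheme.IdealSheafData.comap_comp]

include hφ in
lemma isCover_image [DecidableEq (ℕ × B)] (hs : IsCover 𝒜 s) : IsCover ℬ (s.image fun f => (f.1, φ f.2)) := by
  refine ⟨fun g hg => ?_, fun y => ?_⟩
  · obtain ⟨f, hf, rfl⟩ := Finset.mem_image.1 hg
    exact ⟨(hs.1 f hf).1, φ.2 (hs.1 f hf).2⟩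
  · obtain ⟨f, hf, hy⟩ := hs.2 (Proj.map φ hφ y)
    refine ⟨_, Finset.mem_image_of_mem _ hf, ?_⟩
    rw [← Proj.map_preimage_basicOpen φ hφ]
    exact hy

include hs hφ hcomap in
lemma map_mem_clIdeal {a : A} (ha : a ∈ clIdeal i) : φ a ∈ clIdeal i' := by
  classical
  refine mem_clIdeal_of_cover i' (isCover_image φ hφ hs) fun g hg => ?_
  obtain ⟨f, hf, rfl⟩ := Finset.mem_image.1 hg
  obtain ⟨M, hM⟩ := (mem_clIdeal i).1 ha f.1 (hs.1 f hf).1 f.2 (hs.1 f hf).2
  refine ⟨M, ?_⟩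
  have hle : numIdeal i f.2 (hs.1 f hf).2 (hs.1 f hf).1 ≤
      (numIdeal i' (φ f.2) (φ.2 (hs.1 f hf).2) (hs.1 f hf).1).comap φ := by
    refine Ideal.span_le.2 ?_
    rintro x ⟨m, hx, hK⟩
    refine Ideal.subset_span ⟨m, φ.2 hx, ?_⟩
    rw [chartK_map_hom i φ hφ i' hcomap (hs.1 f hf).2 (hs.1 f hf).1]
    rw [← Away.map_mk φ f.2 (hs.1 f hf).2 m x hx]
    exact Ideal.mem_map_of_mem _ hK
  have := hle hM
  rwa [Ideal.mem_comap, map_mul, map_pow] at this

variable {c : 𝒜 0} [Algebra A B] [IsLocalization.Away (c : A) B] (halg : ∀ a, algebraMap A B a = φ a)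

include hφ hcomap halg c in
lemma numIdeal_le_map {d : ℕ} {f : A} (hf : f ∈ 𝒜 d) (hd : 0 < d) :
    numIdeal i' (φ f) (φ.2 hf) hd ≤ (numIdeal i f hf hd).map (algebraMap A B) := by
  have hc := Proj16.InvertsZero.of_isLocalization φ c halg
  refine Ideal.span_le.2 ?_
  rintro x ⟨m, hx, hK⟩
  rw [chartK_map_hom i φ hφ i' hcomap hf hd] at hK
  obtain ⟨k, a, ha, hka⟩ := hc.surj _ x hx
  letI := (Away.map φ f).toAlgebra
  haveI := hc.awayMap_isLocalization hf
  have hmem : algebraMap (Away 𝒜 f) (Away ℬ (φ f)) (Away.mk 𝒜 hf m a ha) ∈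
      (chartK i f hf hd).map (algebraMap (Away 𝒜 f) (Away ℬ (φ f))) := by
    rw [RingHom.algebraMap_toAlgebra, Away.map_mk]
    have e : Away.mk ℬ (φ.2 hf) m (φ a) (φ.2 ha) =
        Away.map φ f (fromZeroRingHom 𝒜 (Submonoid.powers f) c) ^ k * Away.mk ℬ (φ.2 hf) m x hx := by
      apply HomogeneousLocalization.val_injective
      simp only [Away.map, fromZeroRingHom, HomogeneousLocalization.map_mk, RingHom.coe_mk,
        MonoidHom.coe_mk, OneHom.coe_mk, HomogeneousLocalization.val_mul, HomogeneousLocalization.val_pow,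
        HomogeneousLocalization.val_mk, Away.val_mk, Localization.mk_pow, Localization.mk_mul]
      rw [Localization.mk_eq_mk_iff, Localization.r_iff_exists]
      refine ⟨1, ?_⟩
      simp only [OneMemClass.coe_one, one_mul, Submonoid.coe_mul, SubmonoidClass.coe_pow, SetLike.GradeZero.coe_one,
        map_one, one_pow, ← hka]
      ring
    rw [e]
    exact Ideal.mul_mem_left _ _ hK
  obtain ⟨_, ⟨l, rfl⟩, hl⟩ := (IsLocalization.algebraMap_mem_map_algebraMap_iff
    (Submonoid.powers (fromZeroRingHom 𝒜 (Submonoid.powers f) c)) (Away ℬ (φ f)) _ _).mp hmem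
  have hla : (c : A) ^ l * a ∈ 𝒜 (m • d) := by
    simpa using SetLike.mul_mem_graded (SetLike.pow_mem_graded l c.2) ha
  have h1 : (c : A) ^ l * a ∈ numIdeal i f hf hd := by
    refine Ideal.subset_span ⟨m, hla, ?_⟩
    convert hl using 1
    apply HomogeneousLocalization.val_injective
    simp only [fromZeroRingHom, RingHom.coe_mk, MonoidHom.coe_mk, OneHom.coe_mk,
      HomogeneousLocalization.val_mul, HomogeneousLocalization.val_pow, HomogeneousLocalization.val_mk,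
      Away.val_mk, Localization.mk_pow, Localization.mk_mul]
    congr 1
    exact Subtype.ext (by simp)
  have h2 := Ideal.mem_map_of_mem (algebraMap A B) h1
  rw [map_mul, halg a, ← hka, ← mul_assoc, mul_comm _ x, mul_assoc, mul_comm,
    ← halg (c : A), ← map_pow, ← map_mul] at h2
  exact (Ideal.unit_mul_mem_iff_mem _ (((IsLocalization.Away.algebraMap_isUnit (c : A)).pow l).mul
    ((IsLocalization.Away.algebraMap_isUnit (c : A)).pow k))).mp
    (by simpa only [map_mul, map_pow] using h2)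

include hs hφ hcomap halg c in
lemma exists_mem_clIdeal {a : A} (h : φ a ∈ clIdeal i') : ∃ k : ℕ, (c : A) ^ k * a ∈ clIdeal i := by
  classical
  have h' : ∀ f : s, ∃ k M : ℕ,
      f.1.2 ^ M * ((c : A) ^ k * a) ∈ numIdeal i f.1.2 (hs.1 f.1 f.2).2 (hs.1 f.1 f.2).1 := fun f => by
    obtain ⟨M, hM⟩ := (mem_clIdeal i').1 h f.1.1 (hs.1 f.1 f.2).1 (φ f.1.2) (φ.2 (hs.1 f.1 f.2).2)
    have h1 := numIdeal_le_map i φ hφ i' hcomap (c := c) halg (hs.1 f.1 f.2).2 (hs.1 f.1 f.2).1 hM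
    rw [← map_pow, ← map_mul, ← halg, IsLocalization.algebraMap_mem_map_algebraMap_iff
      (Submonoid.powers (c : A))] at h1
    obtain ⟨_, ⟨k, rfl⟩, hk⟩ := h1
    exact ⟨k, M, by rwa [mul_left_comm]⟩
  choose k M hkM using h'
  refine ⟨Finset.univ.sup k, mem_clIdeal_of_cover i hs fun f hf => ⟨M ⟨f, hf⟩, ?_⟩⟩
  obtain ⟨l, hl⟩ := Nat.exists_eq_add_of_le (Finset.le_sup (f := k) (Finset.mem_univ ⟨f, hf⟩))
  rw [hl, pow_add, show f.2 ^ M ⟨f, hf⟩ * ((c : A) ^ k ⟨f, hf⟩ * (c : A) ^ l * a) =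
    (c : A) ^ l * (f.2 ^ M ⟨f, hf⟩ * ((c : A) ^ k ⟨f, hf⟩ * a)) by ring]
  exact Ideal.mul_mem_left _ _ (hkM ⟨f, hf⟩)

end localization

section quotient

variable (I : Ideal A)

/-- The grading of the quotient by a homogeneous ideal. -/
def quotDeg (𝒜 : ℕ → AddSubgroup A) (I : Ideal A) (n : ℕ) : AddSubgroup (A ⧸ I) :=
  (𝒜 n).map (Ideal.Quotient.mk I).toAddMonoidHom

theorem nonempty_gradedRing_quot (hI : I.IsHomogeneous 𝒜) : Nonempty (GradedRing (quotDeg 𝒜 I)) := by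
  classical
  haveI : SetLike.GradedMonoid (quotDeg 𝒜 I) :=
    { one_mem := ⟨1, SetLike.one_mem_graded 𝒜, (Ideal.Quotient.mk I).map_one⟩
      mul_mem := by
        rintro j l _ _ ⟨a, ha, rfl⟩ ⟨b, hb, rfl⟩
        exact ⟨a * b, SetLike.mul_mem_graded ha hb, (Ideal.Quotient.mk I).map_mul _ _⟩ }
  let g : ∀ n, 𝒜 n →+ quotDeg 𝒜 I n := fun n =>
    { toFun := fun a => ⟨Ideal.Quotient.mk I a, a, a.2, rfl⟩
      map_zero' := Subtype.ext (map_zero _)
      map_add' := fun a b => Subtype.ext (map_add _ _ _) }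
  let dec₀ : A →+ ⨁ n, quotDeg 𝒜 I n :=
    (DirectSum.map g).comp (DirectSum.decomposeAddEquiv 𝒜).toAddMonoidHom
  have hdec : ∀ {n : ℕ} (a : 𝒜 n), dec₀ (a : A) = DirectSum.of (fun n => quotDeg 𝒜 I n) n (g n a) :=
    fun {n} a => by
      show DirectSum.map g (DirectSum.decompose 𝒜 (a : A)) = _
      rw [DirectSum.decompose_coe, DirectSum.map_of]
  have hker : ∀ a ∈ I.toAddSubgroup, dec₀ a = 0 := fun a ha => by
    rw [← DirectSum.sum_support_decompose 𝒜 a, map_sum]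
    refine Finset.sum_eq_zero fun n _ => ?_
    rw [hdec, show g n (decompose 𝒜 a n) = 0 from Subtype.ext (Ideal.Quotient.eq_zero_iff_mem.mpr (hI n ha)),
      map_zero]
  let dec : A ⧸ I →+ ⨁ n, quotDeg 𝒜 I n := QuotientAddGroup.lift I.toAddSubgroup dec₀ hker
  refine ⟨{ DirectSum.Decomposition.ofAddHom (quotDeg 𝒜 I) dec ?_ ?_ with }⟩
  · refine AddMonoidHom.ext fun q => ?_
    obtain ⟨a, rfl⟩ := Ideal.Quotient.mk_surjective q
    show DirectSum.coeAddMonoidHom _ (dec₀ a) = Ideal.Quotient.mk I a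
    induction a using DirectSum.Decomposition.inductionOn 𝒜 with
    | zero => simp
    | @homogeneous n a => rw [hdec, DirectSum.coeAddMonoidHom_of]; rfl
    | add a b ha hb => rw [map_add, map_add, ha, hb, map_add]
  · refine DirectSum.addHom_ext fun n ⟨_, a, ha, rfl⟩ => ?_
    show dec (DirectSum.coeAddMonoidHom _ (DirectSum.of _ n _)) = _
    rw [DirectSum.coeAddMonoidHom_of]
    exact hdec ⟨a, ha⟩

end quotient

end Groth.Agent.SymX.ClosedQuot
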