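import Groth.Agent.SymX.ClosedQuot
import Groth.Agent.SymX.SymAlg
import Groth.Agent.ProjX.HProj
import Groth.Agent.Proj16.RelMap
import Groth.Prelude.Def_RelProj2

/-!
# A closed subscheme of a quasi-compact relative `Proj` is the relative `Proj` of a graded quotient
-/

set_option linter.style.haveILetI false
set_option linter.unusedSectionVars false
set_option backward.isDefEq.respectTransparency false
set_option backward.isDefEq.respectTransparency.types false
set_option maxHeartbeats 800000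

universe u

open CategoryTheory CategoryTheory.Limits AlgebraicGeometry TopologicalSpace Opposite
open scoped HomogeneousIdeal

noncomputable section

namespace Groth.Agent.SymX.ClosedQuot

open Groth.Agent

variable {S P Z : Scheme.{u}} {𝒯 : RelProj.QCGrAlg S} {p : P ⟶ S}
  (chart : ∀ (U : S.Opens) (hU : IsAffineOpen U), (((p ⁻¹ᵁ U : P.Opens) : Scheme.{u}) ≅ Proj (𝒯.deg U hU)))
  (hP : RelProj.IsRelProj 𝒯 p chart) (i : Z ⟶ P)

/-- The closed subscheme in the chart over an affine open. -/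
def iU (U : S.Opens) (hU : IsAffineOpen U) :
    ((((i ≫ p) ⁻¹ᵁ U : Z.Opens)) : Scheme.{u}) ⟶ Proj (𝒯.deg U hU) :=
  (i ∣_ (p ⁻¹ᵁ U)) ≫ (chart U hU).hom

@[reassoc]
lemma iU_emb (U : S.Opens) (hU : IsAffineOpen U) :
    iU chart i U hU ≫ RelProj.emb p chart U hU = ((i ≫ p) ⁻¹ᵁ U).ι ≫ i := by
  unfold iU RelProj.emb
  rw [Category.assoc, Iso.hom_inv_id_assoc, morphismRestrict_ι]
  rfl

lemma isPullback_iU (U : S.Opens) (hU : IsAffineOpen U) :
    IsPullback ((i ≫ p) ⁻¹ᵁ U).ι (iU chart i U hU) i (RelProj.emb p chart U hU) := by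
  refine (IsPullback.of_iso (isPullback_morphismRestrict i (p ⁻¹ᵁ U)) (Iso.refl _) (chart U hU)
    (Iso.refl _) (Iso.refl _) ?_ ?_ ?_ ?_).flip
  · simp [iU]
  · show (i ⁻¹ᵁ (p ⁻¹ᵁ U)).ι ≫ 𝟙 _ = 𝟙 _ ≫ ((i ≫ p) ⁻¹ᵁ U).ι
    rw [Category.comp_id, Category.id_comp]
    rfl
  · simp [RelProj.emb]
  · simp

lemma isClosedImmersion_iU [IsClosedImmersion i] (U : S.Opens) (hU : IsAffineOpen U) :
    IsClosedImmersion (iU chart i U hU) :=
  MorphismProperty.of_isPullback (isPullback_iU chart i U hU) inferInstance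

include hP in
lemma iU_res_ker [IsClosedImmersion i] (U : S.Opens) (hU : IsAffineOpen U) (r : Γ(S, U)) :
    (iU chart i (S.basicOpen r) (hU.basicOpen r)).ker = (iU chart i U hU).ker.comap
      (Proj.map (𝒯.res hU (hU.basicOpen r) (S.basicOpen_le r)) (𝒯.irrelevant_le_map U hU r)) := by
  haveI := isClosedImmersion_iU chart i U hU
  refine ProjX.ker_eq_comap (Z.homOfLE ((i ≫ p).preimage_mono (S.basicOpen_le r))) _ _ _ ?_
  refine IsPullback.of_right ?_ ?_ (isPullback_iU chart i U hU)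
  · rw [Scheme.homOfLE_ι, RelProj.map_res_emb hP]
    exact isPullback_iU chart i _ _
  · rw [← cancel_mono (RelProj.emb p chart U hU), Category.assoc, Category.assoc, iU_emb,
      RelProj.map_res_emb hP, iU_emb, Scheme.homOfLE_ι_assoc]

include chart in
lemma compactSpace_proj [QuasiCompact p] (U : S.Opens) (hU : IsAffineOpen U) :
    CompactSpace (Proj (𝒯.deg U hU)) := by
  haveI : CompactSpace ((p ⁻¹ᵁ U : P.Opens) : Scheme.{u}) :=
    isCompact_iff_compactSpace.mp (p.isCompact_preimage hU.isCompact)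
  exact (Scheme.homeoOfIso (chart U hU)).compactSpace

variable [QuasiCompact p] [IsClosedImmersion i]

include chart in
lemma exists_cover (U : S.Opens) (hU : IsAffineOpen U) : ∃ s, IsCover (𝒯.deg U hU) s :=
  haveI := compactSpace_proj chart U hU
  exists_isCover

/-- The homogeneous ideal over an affine open. -/
def idealU (U : S.AffineZariskiSite) : Ideal (𝒯.presheaf.obj (op U.1)) :=
  clIdeal (iU chart i U.1 U.2)

include hP in
lemma map_mem_idealU {U V : S.AffineZariskiSite} (h : V ≤ U) {a : 𝒯.presheaf.obj (op U.1)}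
    (ha : a ∈ idealU chart i U) :
    (𝒯.presheaf.map (homOfLE (Scheme.AffineZariskiSite.toOpens_mono h)).op).hom a ∈ idealU chart i V := by
  obtain ⟨r, hr⟩ := h
  obtain rfl : V = U.basicOpen r := Subtype.ext hr.symm
  obtain ⟨s, hs⟩ := exists_cover chart U.1 U.2
  exact map_mem_clIdeal (iU chart i U.1 U.2) hs (𝒯.res U.2 (U.2.basicOpen r) (S.basicOpen_le r))
    (𝒯.irrelevant_le_map U.1 U.2 r) (iU chart i _ _) (iU_res_ker chart hP i U.1 U.2 r) ha

include hP in
lemma exists_mul_mem_idealU (U : S.AffineZariskiSite) (r : Γ(S, U.1)) {a : 𝒯.presheaf.obj (op U.1)}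
    (ha : (𝒯.presheaf.map (homOfLE (S.basicOpen_le r)).op).hom a ∈ idealU chart i (U.basicOpen r)) :
    ∃ k : ℕ, ((𝒯.str.app (op U.1)).hom r) ^ k * a ∈ idealU chart i U := by
  letI := (𝒯.presheaf.map (homOfLE (S.basicOpen_le r)).op).hom.toAlgebra
  let c : 𝒯.deg U.1 U.2 0 := ⟨(𝒯.str.app (op U.1)).hom r, 𝒯.str_mem U.1 U.2 r⟩
  haveI : IsLocalization.Away (c : 𝒯.presheaf.obj (op U.1)) (𝒯.presheaf.obj (op (S.basicOpen r))) :=
    𝒯.isQC U.1 U.2 r
  obtain ⟨s, hs⟩ := exists_cover chart U.1 U.2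
  exact exists_mem_clIdeal (iU chart i U.1 U.2) hs (𝒯.res U.2 (U.2.basicOpen r) (S.basicOpen_le r))
    (𝒯.irrelevant_le_map U.1 U.2 r) (iU chart i _ _) (iU_res_ker chart hP i U.1 U.2 r) (c := c)
    (fun _ => rfl) ha

/-- The quotient algebras on the affine opens. -/
def quotFunctor : S.AffineZariskiSiteᵒᵖ ⥤ CommRingCat.{u} where
  obj U := CommRingCat.of (𝒯.presheaf.obj (op U.unop.1) ⧸ idealU chart i U.unop)
  map {U V} f := CommRingCat.ofHom (Ideal.quotientMap _
    (𝒯.presheaf.map (homOfLE (Scheme.AffineZariskiSite.toOpens_mono f.unop.le)).op).hom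
    fun a ha => map_mem_idealU chart hP i f.unop.le ha)
  map_id U := by
    refine CommRingCat.hom_ext (Ideal.Quotient.ringHom_ext (RingHom.ext fun a => ?_))
    show Ideal.Quotient.mk _ ((𝒯.presheaf.map _).hom a) = Ideal.Quotient.mk _ a
    rw [show (homOfLE _).op = 𝟙 (op U.unop.1) from rfl, CategoryTheory.Functor.map_id]
    rfl
  map_comp {U V W} f g := by
    refine CommRingCat.hom_ext (Ideal.Quotient.ringHom_ext (RingHom.ext fun a => ?_))
    show Ideal.Quotient.mk _ ((𝒯.presheaf.map _).hom a) =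
      Ideal.Quotient.mk _ ((𝒯.presheaf.map _).hom ((𝒯.presheaf.map _).hom a))
    rw [← CommRingCat.comp_apply, ← Functor.map_comp]
    rfl

/-- The structure map of the quotient. -/
def quotStr : (Scheme.AffineZariskiSite.toOpensFunctor S).op ⋙ S.presheaf ⟶ quotFunctor chart hP i where
  app U := 𝒯.str.app (op U.unop.1) ≫ CommRingCat.ofHom (Ideal.Quotient.mk _)
  naturality U V f := by
    refine CommRingCat.hom_ext (RingHom.ext fun a => ?_)
    show Ideal.Quotient.mk _ ((𝒯.str.app _).hom ((S.presheaf.map _).hom a)) =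
      Ideal.Quotient.mk _ ((𝒯.presheaf.map _).hom ((𝒯.str.app _).hom a))
    exact congrArg _ (ConcreteCategory.congr_hom
      (𝒯.str.naturality (homOfLE (Scheme.AffineZariskiSite.toOpens_mono f.unop.le)).op) a)

lemma quotStr_coequifibered : (quotStr chart hP i).Coequifibered := by
  rw [Scheme.AffineZariskiSite.coequifibered_iff_forall_isLocalizationAway]
  intro U r
  letI : Algebra (𝒯.presheaf.obj (op U.1)) (𝒯.presheaf.obj (op (U.basicOpen r).1)) :=
    (𝒯.presheaf.map (homOfLE (S.basicOpen_le r)).op).hom.toAlgebra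
  haveI : IsLocalization.Away ((𝒯.str.app (op U.1)).hom r) (𝒯.presheaf.obj (op (U.basicOpen r).1)) :=
    𝒯.isQC U.1 U.2 r
  exact ProjX.isLocalization_quotientMap ((𝒯.str.app (op U.1)).hom r) (idealU chart i U)
    (idealU chart i (U.basicOpen r)) (fun a ha => map_mem_idealU chart hP i (U.basicOpen_le r) ha)
    fun a ha => exists_mul_mem_idealU chart hP i U r ha

include hP in
/-- A closed subscheme of a quasi-compact relative `Proj` is the relative `Proj` of a graded quotient. -/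
theorem exists_quot :
    ∃ (𝒮 : RelProj.QCGrAlg S) (φ : 𝒯.toQCAlg ⟶ 𝒮.toQCAlg) (hφ : RelProj.IsGradedHom φ)
      (hirr : ∀ (U : S.Opens) (hU : IsAffineOpen U),
        (𝒮.deg U hU)₊ ≤ ((𝒯.deg U hU)₊).map (RelProj.gradedHomAt φ hφ U hU))
      (chartS : ∀ (U : S.Opens) (hU : IsAffineOpen U),
        ((((i ≫ p) ⁻¹ᵁ U : Z.Opens) : Scheme.{u}) ≅ Proj (𝒮.deg U hU))),
      (∀ (U : S.Opens), IsAffineOpen U → Function.Surjective (φ.hom.app (op U)).hom) ∧
        RelProj.IsRelProj 𝒮 (i ≫ p) chartS ∧ RelProj.IsRelProjMap φ hφ hirr chart chartS i := by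
  classical
  let degF : ∀ U : S.AffineZariskiSite, ℕ → AddSubgroup ((quotFunctor chart hP i).obj (op U)) := fun U =>
    quotDeg (𝒯.deg U.1 U.2) (idealU chart i U)
  have hgr : ∀ U, Nonempty (GradedRing (degF U)) := fun U =>
    nonempty_gradedRing_quot _ (clIdeal_isHomogeneous (iU chart i U.1 U.2))
  letI : ∀ U, GradedRing (degF U) := fun U => (hgr U).some
  obtain ⟨𝒮, ψ, hnat, hstr, hdeg⟩ := ProjX.exists_qcGrAlg (quotFunctor chart hP i) (quotStr chart hP i)
    (quotStr_coequifibered chart hP i) degF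
    (fun {U V} j {d x} hx => by
      obtain ⟨a, ha, rfl⟩ := hx
      exact ⟨_, 𝒯.map_mem U.2 V.2 (Scheme.AffineZariskiSite.toOpens_mono j.le) ha, rfl⟩)
    (fun U r => ⟨_, 𝒯.str_mem U.1 U.2 r, rfl⟩)
  let q : ∀ a : S.AffineZariskiSite, 𝒯.presheaf.obj (op a.1) ⟶ 𝒮.presheaf.obj (op a.1) := fun a =>
    CommRingCat.ofHom (Ideal.Quotient.mk (idealU chart i a)) ≫ (ψ a).inv
  have hqψ : ∀ a x, (ψ a).hom.hom ((q a).hom x) = Ideal.Quotient.mk _ x := fun a x => by
    show (ψ a).hom.hom ((ψ a).inv.hom (Ideal.Quotient.mk _ x)) = _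
    rw [← CommRingCat.comp_apply, Iso.inv_hom_id]
    rfl
  have hinj : ∀ a, Function.Injective (ψ a).hom.hom := fun a =>
    (ConcreteCategory.bijective_of_isIso (ψ a).hom).1
  obtain ⟨φ, hφq⟩ := exists_homQCAlg 𝒯.toQCAlg 𝒮.toQCAlg q
    (fun {a b} h => by
      refine CommRingCat.hom_ext (RingHom.ext fun x => hinj b ?_)
      show (ψ b).hom.hom ((q b).hom _) = (ψ b).hom.hom _
      rw [hqψ]
      have := congr($(hnat a b (homOfLE h)).hom ((q a).hom x))
      simp only [CommRingCat.hom_comp, RingHom.comp_apply] at this ⊢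
      rw [← this, hqψ]
      rfl)
    (fun a => by
      refine CommRingCat.hom_ext (RingHom.ext fun r => hinj a ?_)
      show (ψ a).hom.hom ((q a).hom _) = (ψ a).hom.hom _
      rw [hqψ]
      exact (congr($(hstr a).hom r)).symm)
  have hφψ : ∀ (U : S.Opens) (hU : IsAffineOpen U) (x : 𝒯.presheaf.obj (op U)),
      (ψ ⟨U, hU⟩).hom.hom ((φ.hom.app (op U)).hom x) = Ideal.Quotient.mk _ x := fun U hU x => by
    rw [show φ.hom.app (op U) = q ⟨U, hU⟩ from hφq ⟨U, hU⟩, hqψ]
  have hφ : RelProj.IsGradedHom φ := fun U hU d x hx => by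
    rw [hdeg ⟨U, hU⟩ d]
    exact ⟨x, hx, (hφψ U hU x).symm⟩
  have hsurj : ∀ (U : S.Opens) (hU : IsAffineOpen U), Function.Surjective (φ.hom.app (op U)).hom :=
    fun U hU y => by
      obtain ⟨x, hx⟩ := Ideal.Quotient.mk_surjective ((ψ ⟨U, hU⟩).hom.hom y)
      exact ⟨x, hinj ⟨U, hU⟩ ((hφψ U hU x).trans hx)⟩
  let g : ∀ (U : S.Opens) (hU : IsAffineOpen U), 𝒯.deg U hU →+*ᵍ 𝒮.deg U hU := fun U hU =>
    RelProj.gradedHomAt φ hφ U hU
  have hker : ∀ U hU x, g U hU x = 0 ↔ x ∈ clIdeal (iU chart i U hU) := fun U hU x => by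
    have h1 := hφψ U hU x
    constructor
    · intro h
      refine Ideal.Quotient.eq_zero_iff_mem.mp (h1.symm.trans ?_)
      rw [show (φ.hom.app (op U)).hom x = 0 from h, map_zero]
    · intro h
      exact hinj ⟨U, hU⟩ ((h1.trans (Ideal.Quotient.eq_zero_iff_mem.mpr h)).trans (map_zero _).symm)
  have hirr : ∀ (U : S.Opens) (hU : IsAffineOpen U),
      (𝒮.deg U hU)₊ ≤ ((𝒯.deg U hU)₊).map (g U hU) := fun U hU => by
    rw [HomogeneousIdeal.irrelevant_le]
    intro d hd x hx
    obtain ⟨a, ha, rfl⟩ := Proj16.exists_mem_of_surjective (g U hU) (hsurj U hU) hx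
    exact Ideal.mem_map_of_mem _ (HomogeneousIdeal.mem_irrelevant_of_mem _ hd ha)
  have he : ∀ (U : S.Opens) (hU : IsAffineOpen U),
      ∃ e : (((i ≫ p) ⁻¹ᵁ U : Z.Opens) : Scheme.{u}) ≅ Proj (𝒮.deg U hU),
        e.hom ≫ Proj.map (g U hU) (hirr U hU) = iU chart i U hU := fun U hU => by
    haveI := isClosedImmersion_iU chart i U hU
    obtain ⟨s, hs⟩ := exists_cover chart U hU
    exact exists_iso_of_ker (iU chart i U hU) hs (g U hU) (hsurj U hU) (hirr U hU) (hker U hU)
  choose e he using he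
  refine ⟨𝒮, φ, hφ, hirr, e, hsurj, ⟨fun U hU => ?_, fun U hU r => ?_⟩, fun U hU => ?_⟩
  · have h1 : Proj.map (g U hU) (hirr U hU) ≫ Proj.toSpecZero (𝒯.deg U hU) ≫ Spec.map (𝒯.strZero U hU) =
        Proj.toSpecZero (𝒮.deg U hU) ≫ Spec.map (𝒮.strZero U hU) :=
      ProjX.map_toSpecZero _ _ _ _ fun r => ConcreteCategory.congr_hom (congr_app φ.comm (op U)) r
    rw [← Category.assoc (Proj.toSpecZero _), ← h1, Category.assoc, Category.assoc, ← Category.assoc (e U hU).hom,
      he, iU, Category.assoc, hP.chart_over U hU, ← Category.assoc, morphismRestrict_ι, Category.assoc]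
    rfl
  · haveI : Mono (Proj.map (g U hU) (hirr U hU)) :=
      haveI := Proj16.isClosedImmersion_map (g U hU) (hirr U hU) (hsurj U hU)
      inferInstance
    rw [← cancel_mono (Proj.map (g U hU) (hirr U hU))]
    simp only [Category.assoc]
    have h2 : Proj.map (𝒮.res hU (hU.basicOpen r) (S.basicOpen_le r)) (𝒮.irrelevant_le_map U hU r) ≫
        Proj.map (g U hU) (hirr U hU) = Proj.map (g _ (hU.basicOpen r)) (hirr _ (hU.basicOpen r)) ≫
          Proj.map (𝒯.res hU (hU.basicOpen r) (S.basicOpen_le r)) (𝒯.irrelevant_le_map U hU r) := by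
      rw [← Proj.map_comp, ← Proj.map_comp]
      exact Proj16.proj_map_congr (Proj16.gradedHomAt_comp_res φ hφ U _ hU (hU.basicOpen r) _) _ _
    rw [he U hU, h2, reassoc_of% (he _ (hU.basicOpen r)), ← cancel_mono (RelProj.emb p chart U hU),
      Category.assoc, Category.assoc, iU_emb, RelProj.map_res_emb hP, iU_emb, Scheme.homOfLE_ι_assoc]
  · show _ = _ ≫ Proj.map (g U hU) (hirr U hU) ≫ _
    rw [← Category.assoc (e U hU).hom, he]
    exact (iU_emb chart i U hU).symm

end Groth.Agent.SymX.ClosedQuot
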