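import Groth.Agent.SymX.ImmPoint

/-!
# Pulling sections back along open immersions
-/

set_option linter.style.haveILetI false
set_option linter.unusedSectionVars false
set_option backward.isDefEq.respectTransparency false
set_option backward.isDefEq.respectTransparency.types false

noncomputable section

universe u

open CategoryTheory CategoryTheory.Limits AlgebraicGeometry TopologicalSpace Opposite

namespace Groth.Agent.SymX

open Groth.Agent

variable {A B P : Scheme.{u}} (i : A ⟶ P) [IsOpenImmersion i] (L : P.Modules)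

lemma inv_app_pullElt {U : P.Opens} (z : Γ(L, U)) :
    ((Scheme.Modules.restrictFunctorIsoPullback i).app L).inv.app (i ⁻¹ᵁ U) (InvX.pullElt i z) =
      (show Γ(L.restrict i, i ⁻¹ᵁ U) from AModX.res L (i.image_preimage_le U) z) := by
  have h : (Scheme.Modules.restrictAdjunction i).unit.app L ≫
      (Scheme.Modules.pushforward i).map ((Scheme.Modules.restrictFunctorIsoPullback i).hom.app L) =
      (Scheme.Modules.pullbackPushforwardAdjunction i).unit.app L :=
    Adjunction.unit_leftAdjointUniq_hom_app _ _ L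
  have h2 : InvX.pullElt i z = ((Scheme.Modules.restrictFunctorIsoPullback i).hom.app L).app (i ⁻¹ᵁ U)
      (AModX.res L (i.image_preimage_le U) z) :=
    (congrArg (fun χ => χ.app U z) h).symm
  rw [h2]
  exact congrArg (fun χ : L.restrict i ⟶ L.restrict i => χ.app (i ⁻¹ᵁ U) _)
    ((Scheme.Modules.restrictFunctorIsoPullback i).hom_inv_id_app L)

lemma pullElt_injective {U : P.Opens} (hU : U ≤ i.opensRange) {z z' : Γ(L, U)}
    (h : InvX.pullElt i z = InvX.pullElt i z') : z = z' := by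
  have h1 := congrArg (fun w => ((Scheme.Modules.restrictFunctorIsoPullback i).app L).inv.app (i ⁻¹ᵁ U) w) h
  rw [inv_app_pullElt, inv_app_pullElt] at h1
  have e : U ≤ i ''ᵁ (i ⁻¹ᵁ U) := by
    rw [Scheme.Hom.image_preimage_eq_opensRange_inf]; exact le_inf hU le_rfl
  have h2 := congrArg (AModX.res L e) h1
  simp only [AModX.res_res, AModX.res_self] at h2
  exact h2

lemma exists_pullElt_eq {U : P.Opens} (hU : U ≤ i.opensRange) (w : Γ((Scheme.Modules.pullback i).obj L, i ⁻¹ᵁ U)) :
    ∃ z : Γ(L, U), InvX.pullElt i z = w := by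
  have e : U ≤ i ''ᵁ (i ⁻¹ᵁ U) := by
    rw [Scheme.Hom.image_preimage_eq_opensRange_inf]; exact le_inf hU le_rfl
  let w' : Γ(L, i ''ᵁ (i ⁻¹ᵁ U)) := ((Scheme.Modules.restrictFunctorIsoPullback i).app L).inv.app (i ⁻¹ᵁ U) w
  refine ⟨AModX.res L e w', ?_⟩
  have h1 := inv_app_pullElt i L (AModX.res L e w')
  rw [AModX.res_res, AModX.res_self] at h1
  have h2 := congrArg (fun v => ((Scheme.Modules.restrictFunctorIsoPullback i).app L).hom.app (i ⁻¹ᵁ U) v) h1
  refine Eq.trans ?_ (h2.trans ?_)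
  · exact (congrArg (fun χ : (Scheme.Modules.pullback i).obj L ⟶ _ => χ.app (i ⁻¹ᵁ U) _)
      ((Scheme.Modules.restrictFunctorIsoPullback i).app L).inv_hom_id).symm
  · exact congrArg (fun χ : (Scheme.Modules.pullback i).obj L ⟶ _ => χ.app (i ⁻¹ᵁ U) w)
      ((Scheme.Modules.restrictFunctorIsoPullback i).app L).inv_hom_id

omit [IsOpenImmersion i] in
lemma pullElt_add {U : P.Opens} (a b : Γ(L, U)) : InvX.pullElt i (a + b) = InvX.pullElt i a + InvX.pullElt i b :=
  map_add (((Scheme.Modules.pullbackPushforwardAdjunction i).unit.app L).app U).hom a b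

variable (i' : B ⟶ P) [IsOpenImmersion i'] (hdisj : i.opensRange ⊓ i'.opensRange = ⊥)
  (hcov : i.opensRange ⊔ i'.opensRange = ⊤)

include hdisj in
lemma pullElt_eq_zero_of_le {U : P.Opens} (hU : U ≤ i.opensRange) (z : Γ(L, U)) :
    InvX.pullElt i' z = 0 := by
  refine AModX.eq_of_locally _ _ fun q hq => ?_
  have : i' q ∈ i.opensRange ⊓ i'.opensRange := ⟨hU hq, q, rfl⟩
  rw [hdisj] at this
  exact absurd this (fun h => h)

include hdisj hcov in
lemma existsUnique_extend {U : P.Opens} (w : Γ((Scheme.Modules.pullback i).obj L, i ⁻¹ᵁ U)) :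
    ∃! z : Γ(L, U), InvX.pullElt i z = w ∧ InvX.pullElt i' z = 0 := by
  have hu : ∀ z z' : Γ(L, U), InvX.pullElt i z = InvX.pullElt i z' → InvX.pullElt i' z = InvX.pullElt i' z' →
      z = z' := fun z z' h h' => by
    refine AModX.eq_of_locally _ _ fun q hq => ?_
    rcases hcov.ge (show q ∈ (⊤ : P.Opens) from trivial) with hqi | hqi
    · refine ⟨U ⊓ i.opensRange, inf_le_left, ⟨hq, hqi⟩, pullElt_injective i L inf_le_right ?_⟩
      rw [← InvX.res_pullElt, ← InvX.res_pullElt, h]
    · refine ⟨U ⊓ i'.opensRange, inf_le_left, ⟨hq, hqi⟩, pullElt_injective i' L inf_le_right ?_⟩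
      rw [← InvX.res_pullElt, ← InvX.res_pullElt, h']
  obtain ⟨z₁, hz₁⟩ := exists_pullElt_eq i L (U := U ⊓ i.opensRange) inf_le_right
    (AModX.res _ (i.preimage_mono inf_le_left) w)
  have hz : ∃ z : Γ(L, U), AModX.res L inf_le_left z = z₁ ∧
      AModX.res L (inf_le_left : U ⊓ i'.opensRange ≤ U) z = 0 := by
    obtain ⟨b, hb, -⟩ := AModX.existsUnique_glue (M := L) (V := U) (ι := ULift.{u} Bool)
      (fun k => bif k.down then U ⊓ i.opensRange else U ⊓ i'.opensRange)
      (fun ⟨k⟩ => by cases k <;> exact inf_le_left)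
      (fun p hp => (hcov.ge (show p ∈ (⊤ : P.Opens) from trivial)).elim
        (fun h => ⟨⟨true⟩, hp, h⟩) (fun h => ⟨⟨false⟩, hp, h⟩))
      (fun ⟨k⟩ => match k with | true => z₁ | false => 0)
      (fun ⟨k⟩ ⟨l⟩ => by
        have hsub : ∀ (V : P.Opens), V ≤ i.opensRange ⊓ i'.opensRange → ∀ s t : Γ(L, V), s = t := fun V hV s t => by
          refine AModX.eq_of_locally _ _ fun p hp => ?_
          have := hV hp
          rw [hdisj] at this
          exact absurd this (fun h => h)
        cases k <;> cases l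
        · rfl
        · exact hsub _ (le_inf (inf_le_right.trans inf_le_right) (inf_le_left.trans inf_le_right)) _ _
        · exact hsub _ (le_inf (inf_le_left.trans inf_le_right) (inf_le_right.trans inf_le_right)) _ _
        · rfl)
    exact ⟨b, hb ⟨true⟩, hb ⟨false⟩⟩
  obtain ⟨z, hzt, hzf⟩ := hz
  refine ⟨z, ⟨?_, ?_⟩, fun z' ⟨h, h'⟩ => ?_⟩
  · refine AModX.eq_of_locally _ _ fun q hq => ⟨i ⁻¹ᵁ (U ⊓ i.opensRange), i.preimage_mono inf_le_left,
      ⟨hq, q, rfl⟩, ?_⟩
    rw [InvX.res_pullElt i inf_le_left, hzt, hz₁]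
  · refine AModX.eq_of_locally _ _ fun q hq => ⟨i' ⁻¹ᵁ (U ⊓ i'.opensRange), i'.preimage_mono inf_le_left,
      ⟨hq, q, rfl⟩, ?_⟩
    rw [InvX.res_pullElt i' inf_le_left, hzf, map_zero]
    exact map_zero (((Scheme.Modules.pullbackPushforwardAdjunction i').unit.app L).app _).hom
  · refine hu _ _ (h.trans ?_) (h'.trans ?_)
    · refine AModX.eq_of_locally _ _ fun q hq => ⟨i ⁻¹ᵁ (U ⊓ i.opensRange), i.preimage_mono inf_le_left,
        ⟨hq, q, rfl⟩, ?_⟩
      rw [InvX.res_pullElt i inf_le_left, hzt, hz₁]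
    · refine (AModX.eq_of_locally _ _ fun q hq => ⟨i' ⁻¹ᵁ (U ⊓ i'.opensRange), i'.preimage_mono inf_le_left,
        ⟨hq, q, rfl⟩, ?_⟩).symm
      rw [InvX.res_pullElt i' inf_le_left, hzf, map_zero]
      exact map_zero (((Scheme.Modules.pullbackPushforwardAdjunction i').unit.app L).app _).hom

include hdisj hcov in
/-- Extension by zero of sections on one part of a disjoint union. -/
theorem exists_extend :
    ∃ ζ : (Scheme.Modules.pushforward i).obj ((Scheme.Modules.pullback i).obj L) ⟶ L,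
      ∀ (U : P.Opens) (w : Γ((Scheme.Modules.pullback i).obj L, i ⁻¹ᵁ U)),
        InvX.pullElt i (show Γ(L, U) from ζ.app U w) = w ∧ InvX.pullElt i' (show Γ(L, U) from ζ.app U w) = 0 := by
  let ex : ∀ {U : P.Opens}, Γ((Scheme.Modules.pullback i).obj L, i ⁻¹ᵁ U) → Γ(L, U) := fun w =>
    (existsUnique_extend i L i' hdisj hcov w).choose
  have hex : ∀ {U : P.Opens} (w : Γ((Scheme.Modules.pullback i).obj L, i ⁻¹ᵁ U)),
      InvX.pullElt i (ex w) = w ∧ InvX.pullElt i' (ex w) = 0 := fun w =>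
    (existsUnique_extend i L i' hdisj hcov w).choose_spec.1
  have huniq : ∀ {U : P.Opens} (w : Γ((Scheme.Modules.pullback i).obj L, i ⁻¹ᵁ U)) (z : Γ(L, U)),
      InvX.pullElt i z = w ∧ InvX.pullElt i' z = 0 → ex w = z := fun w z hz =>
    ((existsUnique_extend i L i' hdisj hcov w).choose_spec.2 z hz).symm
  have hadd : ∀ {U : P.Opens} (w w' : Γ((Scheme.Modules.pullback i).obj L, i ⁻¹ᵁ U)),
      ex (w + w') = ex w + ex w' := fun w w' => huniq _ _
    ⟨by rw [pullElt_add, (hex w).1, (hex w').1], by rw [pullElt_add, (hex w).2, (hex w').2, add_zero]⟩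
  refine ⟨⟨PresheafOfModules.homMk
      { app := fun V => AddCommGrpCat.ofHom (AddMonoidHom.mk' ex hadd)
        naturality := fun V W k => by
          ext w
          refine huniq (AModX.res _ (i.preimage_mono k.unop.le) w) (AModX.res L k.unop.le (ex w)) ⟨?_, ?_⟩
          · rw [← InvX.res_pullElt i k.unop.le, (hex w).1]
          · rw [← InvX.res_pullElt i' k.unop.le, (hex w).2, map_zero] }
      fun V r w => huniq (i.app V.unop r • (show Γ((Scheme.Modules.pullback i).obj L, i ⁻¹ᵁ V.unop) from w))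
        ((show Γ(P, V.unop) from r) • ex w) ⟨?_, ?_⟩⟩, fun U w => hex w⟩
  · rw [InvX.pullElt_smul, (hex w).1]
  · rw [InvX.pullElt_smul, (hex w).2, smul_zero]

end Groth.Agent.SymX
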