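import Mathlib.LinearAlgebra.SymmetricAlgebra.Basic
import Mathlib.RingTheory.GradedAlgebra.Basic
import Mathlib.RingTheory.Localization.Away.Basic
import Mathlib.RingTheory.Localization.Module
import Mathlib.Algebra.Module.LocalizedModule.Basic

/-!
# The grading of a symmetric algebra, semilinear functoriality, and localization
-/

set_option linter.style.haveILetI false
set_option linter.unusedSectionVars false

noncomputable section

universe u

open scoped DirectSum

namespace Groth.Agent.SymX

variable (R M : Type u) [CommRing R] [AddCommGroup M] [Module R M]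

/-- The homogeneous parts of the symmetric algebra. -/
abbrev symDeg (n : ℕ) : Submodule R (SymmetricAlgebra R M) :=
  LinearMap.range (SymmetricAlgebra.ι R M) ^ n

/-- The generators as elements of degree one. -/
def ιOne : M →ₗ[R] ⨁ i, symDeg R M i :=
  DirectSum.lof R ℕ (fun i => symDeg R M i) 1 ∘ₗ
    (SymmetricAlgebra.ι R M).codRestrict _ fun m => by simpa only [symDeg, pow_one] using LinearMap.mem_range_self _ m

instance symGraded : GradedAlgebra (symDeg R M) :=
  GradedAlgebra.ofAlgHom _ (SymmetricAlgebra.lift (ιOne R M))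
    (by
      ext m
      show DirectSum.coeAlgHom (symDeg R M) (SymmetricAlgebra.lift (ιOne R M) (SymmetricAlgebra.ι R M m)) =
        SymmetricAlgebra.ι R M m
      rw [SymmetricAlgebra.lift_ι_apply, ιOne]
      exact DirectSum.coeAlgHom_of _ _ _)
    fun i x => by
    obtain ⟨x, hx⟩ := x
    dsimp only [Subtype.coe_mk, DirectSum.lof_eq_of]
    induction hx using Submodule.pow_induction_on_left' with
    | algebraMap r => rw [AlgHom.commutes, DirectSum.algebraMap_apply]; rfl
    | add x y i hx hy ihx ihy => rw [map_add, ihx, ihy, ← map_add]; rfl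
    | mem_mul m hm i x hx ih =>
      obtain ⟨_, rfl⟩ := hm
      rw [map_mul, ih, SymmetricAlgebra.lift_ι_apply, ιOne]
      refine (DirectSum.of_mul_of _ _).trans ?_
      exact DirectSum.of_eq_of_gradedMonoid_eq (Sigma.subtype_ext (add_comm _ _) rfl)

/-- The homogeneous parts as additive subgroups. -/
abbrev symDegAdd (n : ℕ) : AddSubgroup (SymmetricAlgebra R M) := (symDeg R M n).toAddSubgroup

instance symGradedRing : GradedRing (symDegAdd R M) where
  one_mem := (inferInstance : GradedAlgebra (symDeg R M)).toGradedMonoid.one_mem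
  mul_mem _ _ _ _ hi hj := SetLike.mul_mem_graded (A := symDeg R M) hi hj
  decompose' := (symGraded R M).decompose'
  left_inv := (symGraded R M).left_inv
  right_inv := (symGraded R M).right_inv

lemma algebraMap_mem (r : R) : algebraMap R (SymmetricAlgebra R M) r ∈ symDegAdd R M 0 := by
  show _ ∈ symDeg R M 0
  rw [symDeg, pow_zero, Submodule.one_eq_range]
  exact ⟨r, rfl⟩

lemma ι_mem (m : M) : SymmetricAlgebra.ι R M m ∈ symDegAdd R M 1 := by
  show _ ∈ symDeg R M 1
  rw [symDeg, pow_one]
  exact LinearMap.mem_range_self _ m

lemma closure_eq_top :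
    Subring.closure ((symDegAdd R M 0 : Set (SymmetricAlgebra R M)) ∪ (symDegAdd R M 1 : Set _)) = ⊤ := by
  refine top_unique fun x _ => ?_
  induction x using SymmetricAlgebra.induction with
  | algebraMap r => exact Subring.subset_closure (Or.inl (algebraMap_mem R M r))
  | ι m => exact Subring.subset_closure (Or.inr (ι_mem R M m))
  | mul a b ha hb => exact mul_mem (ha trivial) (hb trivial)
  | add a b ha hb => exact add_mem (ha trivial) (hb trivial)

variable {R M}
variable {R' M' : Type u} [CommRing R'] [AddCommGroup M'] [Module R' M']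
variable {R'' M'' : Type u} [CommRing R''] [AddCommGroup M''] [Module R'' M'']

/-- The map of symmetric algebras of a semilinear map. -/
def symMap {σ : R →+* R'} (f : M →ₛₗ[σ] M') : SymmetricAlgebra R M →+* SymmetricAlgebra R' M' :=
  letI : Algebra R (SymmetricAlgebra R' M') := ((algebraMap R' (SymmetricAlgebra R' M')).comp σ).toAlgebra
  (SymmetricAlgebra.lift
    ({ toFun := fun m => SymmetricAlgebra.ι R' M' (f m)
       map_add' := fun a b => by simp only [map_add]
       map_smul' := fun r m => by
        show _ = (algebraMap R' (SymmetricAlgebra R' M')) (σ r) * _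
        rw [f.map_smulₛₗ, map_smul, Algebra.smul_def] } : M →ₗ[R] SymmetricAlgebra R' M')).toRingHom

lemma symMap_algebraMap {σ : R →+* R'} (f : M →ₛₗ[σ] M') (r : R) :
    symMap f (algebraMap R _ r) = algebraMap R' _ (σ r) := by
  letI : Algebra R (SymmetricAlgebra R' M') := ((algebraMap R' (SymmetricAlgebra R' M')).comp σ).toAlgebra
  exact AlgHom.commutes _ r

lemma symMap_ι {σ : R →+* R'} (f : M →ₛₗ[σ] M') (m : M) :
    symMap f (SymmetricAlgebra.ι R M m) = SymmetricAlgebra.ι R' M' (f m) := by
  letI : Algebra R (SymmetricAlgebra R' M') := ((algebraMap R' (SymmetricAlgebra R' M')).comp σ).toAlgebra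
  exact SymmetricAlgebra.lift_ι_apply _ m

lemma ringHom_ext {S : Type u} [CommRing S] {F G : SymmetricAlgebra R M →+* S}
    (h0 : ∀ r, F (algebraMap R _ r) = G (algebraMap R _ r))
    (h1 : ∀ m, F (SymmetricAlgebra.ι R M m) = G (SymmetricAlgebra.ι R M m)) : F = G := by
  refine RingHom.ext fun x => ?_
  induction x using SymmetricAlgebra.induction with
  | algebraMap r => exact h0 r
  | ι m => exact h1 m
  | mul a b ha hb => rw [map_mul, map_mul, ha, hb]
  | add a b ha hb => rw [map_add, map_add, ha, hb]

lemma symMap_mem {σ : R →+* R'} (f : M →ₛₗ[σ] M') {n : ℕ} {x : SymmetricAlgebra R M}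
    (hx : x ∈ symDegAdd R M n) : symMap f x ∈ symDegAdd R' M' n := by
  replace hx : x ∈ symDeg R M n := hx
  show _ ∈ symDeg R' M' n
  induction hx using Submodule.pow_induction_on_left' with
  | algebraMap r => rw [symMap_algebraMap]; exact algebraMap_mem R' M' (σ r)
  | add x y i hx hy ihx ihy => rw [map_add]; exact add_mem ihx ihy
  | mem_mul m hm i x hx ih =>
    obtain ⟨m, rfl⟩ := hm
    rw [map_mul, symMap_ι, symDeg, pow_succ']
    exact Submodule.mul_mem_mul (LinearMap.mem_range_self _ _) ih

/-- Localizing the module and the ring localizes the symmetric algebra. -/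
theorem isLocalization_symMap [Algebra R R'] [Module R M'] [IsScalarTower R R' M'] (r : R)
    [IsLocalization.Away r R'] (f : M →ₗ[R] M') [IsLocalizedModule (Submonoid.powers r) f]
    (g : M →ₛₗ[algebraMap R R'] M') (hg : ∀ m, g m = f m) :
    letI := (symMap g).toAlgebra
    IsLocalization.Away (algebraMap R (SymmetricAlgebra R M) r) (SymmetricAlgebra R' M') := by
  letI := (symMap g).toAlgebra
  let S := SymmetricAlgebra R M
  let c : S := algebraMap R S r
  let L := Localization.Away c
  have hc : IsUnit (symMap g c) := by
    rw [symMap_algebraMap]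
    exact (IsLocalization.Away.algebraMap_isUnit r).map _
  let fwd : L →+* SymmetricAlgebra R' M' := IsLocalization.Away.lift c (g := symMap g) hc
  -- the inverse
  have hr : IsUnit ((algebraMap S L).comp (algebraMap R S) r) := IsLocalization.Away.algebraMap_isUnit c
  let ρ : R' →+* L := IsLocalization.Away.lift r (g := (algebraMap S L).comp (algebraMap R S)) hr
  letI : Algebra R' L := ρ.toAlgebra
  have hRL : ∀ x, algebraMap R L x = algebraMap S L (algebraMap R S x) :=
    fun x => IsScalarTower.algebraMap_apply R S L x
  haveI : IsScalarTower R R' L := IsScalarTower.of_algebraMap_eq (R := R) (S := R') (A := L) fun x =>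
    (hRL x).trans (IsLocalization.Away.lift_eq r hr x).symm
  let h0 : M →ₗ[R] L :=
    { toFun := fun m => algebraMap S L (SymmetricAlgebra.ι R M m)
      map_add' := fun a b => by simp only [map_add]
      map_smul' := fun a m => by
        rw [RingHom.id_apply, Algebra.smul_def (A := L), hRL, map_smul, Algebra.smul_def (A := SymmetricAlgebra R M), map_mul] }
  have hu : ∀ x : Submonoid.powers r, IsUnit (algebraMap R (Module.End R L) x) := by
    rintro ⟨_, k, rfl⟩
    have h1 : IsUnit (algebraMap R L (r ^ k)) := by rw [map_pow, hRL]; exact hr.pow k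
    rw [Module.End.isUnit_iff]
    obtain ⟨w, hw⟩ := h1
    have : (fun z : L => (r ^ k) • z) = fun z => (w : L) * z := funext fun z => by rw [hw]; exact Algebra.smul_def _ _
    show Function.Bijective fun z : L => (r ^ k) • z
    rw [this]
    exact (Units.mulLeft w).bijective
  let h1 : M' →ₗ[R] L := IsLocalizedModule.lift (Submonoid.powers r) f h0 hu
  let h2 : M' →ₗ[R'] L := LinearMap.extendScalarsOfIsLocalization (Submonoid.powers r) R' h1
  let bwd : SymmetricAlgebra R' M' →+* L := (SymmetricAlgebra.lift h2).toRingHom
  have hfb : fwd.comp bwd = RingHom.id _ := by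
    refine ringHom_ext (fun a => ?_) fun m' => ?_
    · show fwd (SymmetricAlgebra.lift h2 (algebraMap R' _ a)) = algebraMap R' _ a
      rw [AlgHom.commutes]
      show fwd (ρ a) = _
      refine RingHom.congr_fun (IsLocalization.ringHom_ext (Submonoid.powers r) (RingHom.ext fun x => ?_) :
        fwd.comp ρ = algebraMap R' (SymmetricAlgebra R' M')) a
      show fwd (ρ (algebraMap R R' x)) = _
      rw [IsLocalization.Away.lift_eq r hr]
      exact (IsLocalization.Away.lift_eq c hc _).trans (symMap_algebraMap g x)
    · show fwd (SymmetricAlgebra.lift h2 (SymmetricAlgebra.ι R' M' m')) = _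
      rw [SymmetricAlgebra.lift_ι_apply]
      show fwd (h1 m') = _
      obtain ⟨⟨m, ⟨_, k, rfl⟩⟩, hm⟩ := IsLocalizedModule.surj (Submonoid.powers r) f m'
      replace hm : r ^ k • m' = f m := hm
      have e1 : fwd (h1 (r ^ k • m')) = SymmetricAlgebra.ι R' M' (r ^ k • m') := by
        rw [hm, show h1 (f m) = h0 m from IsLocalizedModule.lift_apply _ _ _ hu m]
        exact ((IsLocalization.Away.lift_eq c hc _).trans (symMap_ι g m)).trans (by rw [hg])
      rw [map_smul, Algebra.smul_def (A := L), map_mul, ← algebraMap_smul R' (r ^ k) m', map_smul,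
        Algebra.smul_def (A := SymmetricAlgebra R' M')] at e1
      have e2 : fwd (algebraMap R L (r ^ k)) = algebraMap R' (SymmetricAlgebra R' M') (algebraMap R R' (r ^ k)) := by
        rw [hRL]
        exact (IsLocalization.Away.lift_eq c hc _).trans (symMap_algebraMap g _)
      rw [e2] at e1
      exact ((IsLocalization.Away.algebraMap_isUnit r).pow k |>.map
        (algebraMap R' (SymmetricAlgebra R' M'))).mul_left_cancel (by rw [map_pow] at e1; exact e1)
  have hbf : bwd.comp fwd = RingHom.id _ := by
    refine IsLocalization.ringHom_ext (Submonoid.powers c) (ringHom_ext (fun a => ?_) fun m => ?_)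
    · show bwd (fwd (algebraMap S L (algebraMap R S a))) = _
      rw [IsLocalization.Away.lift_eq c hc, symMap_algebraMap]
      show SymmetricAlgebra.lift h2 _ = _
      rw [AlgHom.commutes]
      exact IsLocalization.Away.lift_eq r hr a
    · show bwd (fwd (algebraMap S L (SymmetricAlgebra.ι R M m))) = _
      rw [IsLocalization.Away.lift_eq c hc, symMap_ι, hg]
      show SymmetricAlgebra.lift h2 _ = _
      rw [SymmetricAlgebra.lift_ι_apply]
      exact IsLocalizedModule.lift_apply _ _ _ hu m
  let e : L ≃+* SymmetricAlgebra R' M' := RingEquiv.ofRingHom fwd bwd hfb hbf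
  exact IsLocalization.isLocalization_of_algEquiv (Submonoid.powers c)
    (AlgEquiv.ofRingEquiv (f := e) fun x => IsLocalization.Away.lift_eq c hc x)

end Groth.Agent.SymX
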