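import Groth.Agent.ProjX.Chart
import Groth.Agent.SymX.ProjectiveClosed

/-!
# A projective bundle with finitely many global generators is a closed subscheme of a projective space
-/

set_option linter.style.haveILetI false
set_option linter.unusedSectionVars false
set_option backward.isDefEq.respectTransparency false
set_option backward.isDefEq.respectTransparency.types false
set_option maxHeartbeats 800000

universe u

open CategoryTheory CategoryTheory.Limits AlgebraicGeometry TopologicalSpace Opposite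
open scoped HomogeneousIdeal
open CohB1 (polyGrading ProjSpace ProjSpaceOver)

noncomputable section

namespace Groth.Agent.SymX

open Groth.Agent

variable {Y : Scheme.{u}} {E : Y.Modules} (A : Bundle E) {r : ℕ} (e : Fin (r + 1) → Γ(E, ⊤))

/-- The substitution of the generators for the variables. -/
def genHom (U : Y.Opens) (hU : IsAffineOpen U) : MvPolynomial (Fin (r + 1)) Γ(Y, U) →+* A.𝒮.presheaf.obj (op U) :=
  MvPolynomial.eval₂Hom (A.𝒮.str.app (op U)).hom
    fun j => (show A.𝒮.presheaf.obj (op U) from A.j.app U (AModX.res E (le_top : U ≤ ⊤) (e j)))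

lemma genHom_mem (U : Y.Opens) (hU : IsAffineOpen U) {d : ℕ} {a : MvPolynomial (Fin (r + 1)) Γ(Y, U)}
    (ha : a ∈ polyGrading r Γ(Y, U) d) : genHom A e U hU a ∈ A.𝒮.deg U hU d := by
  rw [MvPolynomial.as_sum a, map_sum]
  refine sum_mem fun m hm => ?_
  have hd : m.degree = d := by
    have := (MvPolynomial.mem_homogeneousSubmodule d a).1 ha (MvPolynomial.mem_support_iff.1 hm)
    rw [Finsupp.degree_eq_weight_one]; exact this
  subst hd
  let v : Fin (r + 1) → A.𝒮.presheaf.obj (op U) :=
    fun j => (show A.𝒮.presheaf.obj (op U) from A.j.app U (AModX.res E (le_top : U ≤ ⊤) (e j)))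
  have h0 : (A.𝒮.str.app (op U)).hom (a.coeff m) * m.prod (fun j k => v j ^ k) ∈ A.𝒮.deg U hU (0 + m.degree) := by
    refine SetLike.mul_mem_graded (A.𝒮.str_mem U hU _) ?_
    rw [Finsupp.prod, Finsupp.degree]
    refine SetLike.prod_mem_graded _ _ _ fun j _ => ?_
    have := SetLike.pow_mem_graded (m j) (show v j ∈ A.𝒮.deg U hU 1 from A.symAlg.2 U hU _)
    rwa [smul_eq_mul, mul_one] at this
  rw [zero_add] at h0
  simpa [genHom, v, MvPolynomial.eval₂_monomial] using h0

/-- The substitution as a homomorphism of graded rings. -/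
def genGraded (U : Y.Opens) (hU : IsAffineOpen U) : polyGrading r Γ(Y, U) →+*ᵍ A.𝒮.deg U hU :=
  { genHom A e U hU with map_mem := fun ha => genHom_mem A e U hU ha }

variable (he : ∀ (U : Y.Opens), IsAffineOpen U →
  Submodule.span Γ(Y, U) (Set.range fun i => AModX.res E (le_top : U ≤ ⊤) (e i)) = ⊤)

include he in
lemma genGraded_surjective (U : Y.Opens) (hU : IsAffineOpen U) : Function.Surjective (genGraded A e U hU) := by
  intro x
  suffices h : x ∈ (genHom A e U hU).range from h
  have hj : ∀ m : Γ(E, U), (show A.𝒮.presheaf.obj (op U) from A.j.app U m) ∈ (genHom A e U hU).range := by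
    intro m
    have hm : m ∈ Submodule.span Γ(Y, U) (Set.range fun i => AModX.res E (le_top : U ≤ ⊤) (e i)) :=
      (he U hU) ▸ trivial
    induction hm using Submodule.span_induction with
    | mem y hy =>
      obtain ⟨i, rfl⟩ := hy
      exact ⟨MvPolynomial.X i, MvPolynomial.eval₂Hom_X' _ _ i⟩
    | zero =>
      convert (genHom A e U hU).range.zero_mem using 1
      exact map_zero (A.j.app U).hom
    | add y z _ _ hy hz =>
      convert (genHom A e U hU).range.add_mem hy hz using 1
      exact map_add (A.j.app U).hom y z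
    | smul c y _ hy =>
      rw [j_smul U c y]
      exact mul_mem ⟨MvPolynomial.C c, MvPolynomial.eval₂Hom_C _ _ c⟩ hy
  let a : Y.AffineZariskiSite := ⟨U, hU⟩
  rw [show x = (A.C.φ a).inv ((A.C.φ a).hom x) from (Iso.hom_inv_id_apply (A.C.φ a) x).symm]
  generalize (A.C.φ a).hom x = w
  induction w using SymmetricAlgebra.induction with
  | algebraMap c =>
    erw [show algebraMap _ (SymmetricAlgebra Γ(Y, a.1) Γ(E, a.1)) c = (A.C.φ a).hom ((A.𝒮.str.app (op a.1)).hom c) from
      congr($(A.C.str a).hom c).symm]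
    rw [Iso.hom_inv_id_apply]
    exact ⟨MvPolynomial.C c, MvPolynomial.eval₂Hom_C _ _ c⟩
  | ι m =>
    rw [← A.C.j_app a m, Iso.hom_inv_id_apply]
    exact hj m
  | mul y z hy hz => rw [map_mul]; exact mul_mem hy hz
  | add y z hy hz => rw [map_add]; exact add_mem hy hz

include he in
lemma irrelevant_genGraded (U : Y.Opens) (hU : IsAffineOpen U) :
    (A.𝒮.deg U hU)₊ ≤ ((polyGrading r Γ(Y, U))₊).map (genGraded A e U hU) := by
  rw [HomogeneousIdeal.irrelevant_le]
  intro d hd x hx
  obtain ⟨a, ha, rfl⟩ := Proj16.exists_mem_of_surjective (genGraded A e U hU) (genGraded_surjective A e he U hU) hx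
  exact Ideal.mem_map_of_mem _ (HomogeneousIdeal.mem_irrelevant_of_mem _ hd ha)

lemma genGraded_res (U : Y.Opens) (hU : IsAffineOpen U) (c : Γ(Y, U)) :
    (A.𝒮.res hU (hU.basicOpen c) (Y.basicOpen_le c)).comp (genGraded A e U hU) =
      (genGraded A e _ (hU.basicOpen c)).comp
        (ProjX.polyHom r (Y.presheaf.map (homOfLE (Y.basicOpen_le c)).op).hom) := by
  refine GradedRingHom.ext fun a => ?_
  show ((A.𝒮.presheaf.map (homOfLE (Y.basicOpen_le c)).op).hom.comp (genHom A e U hU)) a =
    ((genHom A e _ (hU.basicOpen c)).comp (MvPolynomial.map (Y.presheaf.map (homOfLE (Y.basicOpen_le c)).op).hom)) a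
  refine RingHom.congr_fun ?_ a
  refine MvPolynomial.ringHom_ext (fun b => ?_) fun j => ?_
  · simp only [RingHom.comp_apply, MvPolynomial.map_C, genHom, MvPolynomial.eval₂Hom_C]
    exact (ConcreteCategory.congr_hom (A.𝒮.str.naturality (homOfLE (Y.basicOpen_le c)).op) b).symm
  · simp only [RingHom.comp_apply, MvPolynomial.map_X, genHom, MvPolynomial.eval₂Hom_X']
    refine Eq.trans ?_ (congrArg (fun w => (show A.𝒮.presheaf.obj (op (Y.basicOpen c)) from
      A.j.app (Y.basicOpen c) w)) (AModX.res_res (M := E) (le_top : U ≤ ⊤) (Y.basicOpen_le c) (e j)))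
    exact (AModX.app_res A.j (Y.basicOpen_le c) (AModX.res E (le_top : U ≤ ⊤) (e j))).symm

include he in
/-- A projective bundle with finitely many generating sections is a closed subscheme of projective space. -/
theorem exists_closedImmersion_projSpace :
    ∃ c : A.P ⟶ ProjSpaceOver r Y, IsClosedImmersion c ∧ c ≫ CohB1.ProjSpaceOver.toBase r Y = A.p := by
  let f : ∀ (U : Y.Opens), IsAffineOpen U → ((A.p ⁻¹ᵁ U : A.P.Opens).toScheme ⟶ ProjSpaceOver r Y) := fun U hU =>
    (A.chart U hU).hom ≫ Proj.map (genGraded A e U hU) (irrelevant_genGraded A e he U hU) ≫ ProjX.chart r hU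
  obtain ⟨g, hg, -⟩ := Proj16.existsUnique_glue f fun U hU c => by
    simp only [f]
    rw [reassoc_of% (A.isRelProj.chart_res U hU c)]
    congr 1
    rw [← Category.assoc, ← Proj.map_comp _ (hf := irrelevant_genGraded A e he U hU) _
      (hg := A.𝒮.irrelevant_le_map U hU c), ← ProjX.pmap_chart r hU (hU.basicOpen c) (Y.basicOpen_le c),
      ← Category.assoc (Proj.map (genGraded A e _ _) _), ProjX.pmap,
      ← Proj.map_comp _ (hf := ProjX.irrelevant_polyHom r _) _ (hg := irrelevant_genGraded A e he _ (hU.basicOpen c))]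
    congr 1
    exact Proj16.proj_map_congr (genGraded_res A e U hU c) _ _
  have hcomp : g ≫ CohB1.ProjSpaceOver.toBase r Y = A.p := Proj16.hom_ext_affine (p := A.p) fun U hU => by
    rw [reassoc_of% (hg U hU), ← A.isRelProj.chart_over U hU]
    simp only [f, Category.assoc]
    rw [ProjX.chart_toBase r hU]
    congr 1
    rw [← Category.assoc, ← Category.assoc (Proj.toSpecZero _)]
    congr 1
    exact ProjX.map_toSpecZero _ _ _ _ fun b => MvPolynomial.eval₂Hom_C _ _ b
  refine ⟨g, ?_, hcomp⟩
  refine IsZariskiLocalAtTarget.of_iSup_eq_top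
    (fun U : Y.affineOpens => CohB1.ProjSpaceOver.toBase r Y ⁻¹ᵁ U.1)
    (by rw [← Scheme.Hom.preimage_iSup, iSup_affineOpens_eq_top, Scheme.Hom.preimage_top]) fun U => ?_
  let T := CohB1.ProjSpaceOver.toBase r Y
  have hsq : IsPullback (T ⁻¹ᵁ U.1).ι (T ∣_ U.1 ≫ U.2.isoSpec.hom) T U.2.fromSpec := by
    refine (IsPullback.of_iso (isPullback_morphismRestrict T U.1) (Iso.refl _) U.2.isoSpec
      (Iso.refl _) (Iso.refl _) ?_ ?_ ?_ ?_).flip
    · simp
    · simp
    · simp [IsAffineOpen.isoSpec_hom]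
    · simp
  let ζ := (ProjX.isPullback_chart r U.2).isoIsPullback _ _ hsq
  have hζ : ζ.hom ≫ (T ⁻¹ᵁ U.1).ι = ProjX.chart r U.2 := IsPullback.isoIsPullback_hom_fst _ _ _ _
  have heq : g ⁻¹ᵁ (T ⁻¹ᵁ U.1) = A.p ⁻¹ᵁ U.1 := by rw [← Scheme.Hom.comp_preimage, hcomp]
  have hr : g ∣_ (T ⁻¹ᵁ U.1) = (A.P.isoOfEq heq).hom ≫ (A.chart U.1 U.2).hom ≫
      Proj.map (genGraded A e U.1 U.2) (irrelevant_genGraded A e he U.1 U.2) ≫ ζ.hom := by
    rw [← cancel_mono (T ⁻¹ᵁ U.1).ι, morphismRestrict_ι]
    simp only [Category.assoc]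
    rw [hζ, ← Scheme.isoOfEq_hom_ι A.P heq, Category.assoc, hg]
  show IsClosedImmersion (g ∣_ (T ⁻¹ᵁ U.1))
  rw [hr]
  haveI := Proj16.isClosedImmersion_map (genGraded A e U.1 U.2) (irrelevant_genGraded A e he U.1 U.2)
    (genGraded_surjective A e he U.1 U.2)
  infer_instance

end Groth.Agent.SymX
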