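import Groth.Agent.SymX.UPChart

/-!
# The universal property of a projective bundle
-/

set_option linter.style.haveILetI false
set_option linter.unusedSectionVars false
set_option backward.isDefEq.respectTransparency false
set_option backward.isDefEq.respectTransparency.types false

noncomputable section

universe u

open CategoryTheory CategoryTheory.Limits AlgebraicGeometry TopologicalSpace Opposite HomogeneousLocalization
open scoped HomogeneousIdeal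

namespace Groth.Agent.SymX

open Groth.Agent

variable {X Y P : Scheme.{u}} {E : Y.Modules} {𝒮 : RelProj.QCGrAlg Y} {p : P ⟶ Y}
  {chart : ∀ (U : Y.Opens) (hU : IsAffineOpen U), (((p ⁻¹ᵁ U : P.Opens) : Scheme.{u}) ≅ Proj (𝒮.deg U hU))}
  {O1 : P.Modules} {lam : ∀ (U : Y.Opens) (hU : IsAffineOpen U),
    O1 ⟶ (Scheme.Modules.pushforward (RelProj.emb p chart U hU)).obj (GrTwist.twist (𝒮.deg U hU) 1)}
  {j : E ⟶ 𝒮.toModule}

section pull

variable {Z : X.Opens} (r : Z.toScheme ⟶ P)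

/-- The pullback of a function along a morphism defined on an open. -/
def pf (W : P.Opens) (T : X.Opens) (h : T ≤ Z.ι ''ᵁ (r ⁻¹ᵁ W)) : Γ(P, W) →+* Γ(X, T) :=
  (AModX.resR h).comp (r.app W).hom

lemma toScheme_res {A B : Z.toScheme.Opens} (i : A ≤ B) (s : Γ(X, Z.ι ''ᵁ B)) :
    (show Γ(X, Z.ι ''ᵁ A) from Z.toScheme.presheaf.map (homOfLE i).op s) = AModX.resR (Z.ι.image_mono i) s := rfl

lemma pf_res {W W' : P.Opens} (hW : W' ≤ W) {T T' : X.Opens} (hT : T' ≤ T) (h : T ≤ Z.ι ''ᵁ (r ⁻¹ᵁ W))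
    (h' : T' ≤ Z.ι ''ᵁ (r ⁻¹ᵁ W')) (c : Γ(P, W)) :
    pf r W' T' h' (AModX.resR hW c) = AModX.resR hT (pf r W T h c) := by
  have e1 : r.app W' (AModX.resR hW c) = Z.toScheme.presheaf.map (homOfLE (r.preimage_mono hW)).op (r.app W c) :=
    congr($(r.naturality (homOfLE hW).op).hom c)
  show AModX.resR h' (r.app W' (AModX.resR hW c)) = AModX.resR hT (AModX.resR h (r.app W c))
  rw [e1, AModX.resR_resR]
  refine Eq.trans ?_ (AModX.resR_resR (Z.ι.image_mono (r.preimage_mono hW)) h' (r.app W c))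
  rfl

lemma image_preimage_le {q : P ⟶ Y} {g : X ⟶ Y} (hr : r ≫ q = Z.ι ≫ g) {W : P.Opens} {U : Y.Opens}
    (hW : W ≤ q ⁻¹ᵁ U) : Z.ι ''ᵁ (r ⁻¹ᵁ W) ≤ g ⁻¹ᵁ U := by
  rintro _ ⟨x, hx, rfl⟩
  have := congrArg (fun ψ : Z.toScheme ⟶ Y => ψ x) hr
  show g (Z.ι x) ∈ U
  rw [show g (Z.ι x) = q (r x) from this.symm]
  exact hW hx

lemma pf_base {q : P ⟶ Y} {g : X ⟶ Y} (hr : r ≫ q = Z.ι ≫ g) {W : P.Opens} {U : Y.Opens}
    (hW : W ≤ q ⁻¹ᵁ U) (T : X.Opens) (h : T ≤ Z.ι ''ᵁ (r ⁻¹ᵁ W)) (hT : T ≤ g ⁻¹ᵁ U) (a : Γ(Y, U)) :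
    pf r W T h (AModX.resR hW (q.app U a)) = AModX.resR hT (g.app U a) := by
  have e0 : r ⁻¹ᵁ W ≤ (r ≫ q) ⁻¹ᵁ U := r.preimage_mono hW
  have e0' : r ⁻¹ᵁ W ≤ (Z.ι ≫ g) ⁻¹ᵁ U := hr ▸ e0
  have h1 : r.app W (AModX.resR hW (q.app U a)) = (r ≫ q).appLE U (r ⁻¹ᵁ W) e0 a :=
    congr($(r.naturality (homOfLE hW).op).hom (q.app U a))
  have h2 : (r ≫ q).appLE U (r ⁻¹ᵁ W) e0 = (Z.ι ≫ g).appLE U (r ⁻¹ᵁ W) e0' := by simp only [hr]
  show AModX.resR h (r.app W (AModX.resR hW (q.app U a))) = _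
  rw [h1, h2, Scheme.Hom.appLE, Scheme.Hom.comp_app, CommRingCat.comp_apply, CommRingCat.comp_apply,
    Scheme.Opens.ι_app]
  refine Eq.trans (congrArg (AModX.resR h) (toScheme_res e0' _)) ?_
  exact (AModX.resR_resR _ h _).trans (AModX.resR_resR _ _ _)

/-- The pullback of functions along a restriction of the morphism. -/
lemma pf_homOfLE {Z' : X.Opens} (hZ : Z' ≤ Z) (W : P.Opens) (T : X.Opens)
    (h : T ≤ Z.ι ''ᵁ (r ⁻¹ᵁ W)) (h' : T ≤ Z'.ι ''ᵁ ((X.homOfLE hZ ≫ r) ⁻¹ᵁ W)) (c : Γ(P, W)) :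
    pf (X.homOfLE hZ ≫ r) W T h' c = pf r W T h c := by
  show AModX.resR h' ((X.homOfLE hZ).app (r ⁻¹ᵁ W) (r.app W c)) = AModX.resR h (r.app W c)
  rw [Scheme.homOfLE_app]
  exact AModX.resR_resR _ h' _

end pull

variable (C : Chartwise E 𝒮 j) (φ : E ⟶ (Scheme.Modules.pushforward p).obj O1) (g : X ⟶ Y) {L : X.Modules}
  (θ : E ⟶ (Scheme.Modules.pushforward g).obj L)

/-- The section of `L` given by a section of the module. -/
abbrev th {U : Y.Opens} (e : Γ(E, U)) : Γ(L, g ⁻¹ᵁ U) := θ.app U e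

/-- The tautological section. -/
abbrev ph {U : Y.Opens} (e : Γ(E, U)) : Γ(O1, p ⁻¹ᵁ U) := φ.app U e

/-- A morphism on an open of `X` is compatible with the sections of `L`. -/
def IsCompat (Z : X.Opens) (r : Z.toScheme ⟶ P) : Prop :=
  ∀ (U U' : Y.Opens) (_ : IsAffineOpen U) (_ : IsAffineOpen U') (e : Γ(E, U)) (e' : Γ(E, U')) (W : P.Opens)
    (hW : W ≤ p ⁻¹ᵁ U) (hW' : W ≤ p ⁻¹ᵁ U') (c : Γ(P, W)),
    AModX.res O1 hW' (ph φ e') = c • AModX.res O1 hW (ph φ e) →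
      ∀ (T : X.Opens) (hT : T ≤ Z.ι ''ᵁ (r ⁻¹ᵁ W)) (h : T ≤ g ⁻¹ᵁ U) (h' : T ≤ g ⁻¹ᵁ U'),
        AModX.res L h' (th g θ e') = pf r W T hT c • AModX.res L h (th g θ e)

lemma IsCompat.restrict {Z Z' : X.Opens} (hZ : Z' ≤ Z) {r : Z.toScheme ⟶ P} (hc : IsCompat φ g θ Z r) :
    IsCompat φ g θ Z' (X.homOfLE hZ ≫ r) := by
  intro U U' hU hU' e e' W hW hW' c hcc T hT h h'
  have hT' : T ≤ Z.ι ''ᵁ (r ⁻¹ᵁ W) := by
    refine hT.trans ?_
    rintro _ ⟨x, hx, rfl⟩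
    refine ⟨X.homOfLE hZ x, hx, ?_⟩
    exact congrArg (fun ψ : Z'.toScheme ⟶ X => ψ x) (X.homOfLE_ι hZ)
  rw [pf_homOfLE r hZ W T hT' hT c]
  exact hc U U' hU hU' e e' W hW hW' c hcc T hT' h h'

section local_

variable {φ g θ}

/-- Pullback of functions along a morphism into an affine open. -/
lemma pf_toSpecΓ_fromSpec {Z : X.Opens} {D : P.Opens} (hD : IsAffineOpen D) (ρ : Γ(P, D) ⟶ Γ(X, Z))
    (T : X.Opens) (hT : T ≤ Z.ι ''ᵁ ((Z.toSpecΓ ≫ Spec.map ρ ≫ hD.fromSpec) ⁻¹ᵁ D)) (a : Γ(P, D)) :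
    pf (Z.toSpecΓ ≫ Spec.map ρ ≫ hD.fromSpec) D T hT a = AModX.resR (hT.trans (Z.ι_image_le _)) (ρ.hom a) := by
  let r := Z.toSpecΓ ≫ Spec.map ρ ≫ hD.fromSpec
  have htop : (⊤ : Z.toScheme.Opens) ≤ r ⁻¹ᵁ D := fun z _ =>
    hD.opensRange_fromSpec.le ⟨(Z.toSpecΓ ≫ Spec.map ρ) z, rfl⟩
  have e0 : hD.fromSpec.appLE D ⊤ hD.fromSpec_preimage_self.ge = (Scheme.ΓSpecIso Γ(P, D)).inv := by
    rw [Scheme.Hom.appLE, IsAffineOpen.fromSpec_app_self, Category.assoc, ← Functor.map_comp]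
    erw [(Spec Γ(P, D)).presheaf.map_id]
    rw [Category.comp_id]
  have e1 : r.appLE D ⊤ htop = ρ ≫ Z.topIso.inv := by
    show ((Z.toSpecΓ ≫ Spec.map ρ) ≫ hD.fromSpec).appLE D ⊤ _ = _
    rw [← Scheme.Hom.appLE_comp_appLE (Z.toSpecΓ ≫ Spec.map ρ) hD.fromSpec D ⊤ ⊤ hD.fromSpec_preimage_self.ge le_top,
      e0, show (Z.toSpecΓ ≫ Spec.map ρ).appLE ⊤ ⊤ le_top = (Z.toSpecΓ ≫ Spec.map ρ).appTop from by
        rw [Scheme.Hom.appTop, Scheme.Hom.app_eq_appLE]; rfl,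
      Scheme.Hom.comp_appTop,
      ← Scheme.ΓSpecIso_inv_naturality_assoc, Scheme.Opens.toSpecΓ_appTop, Iso.inv_hom_id_assoc]
  have h1 : pf r D T hT a = AModX.resR ((hT.trans (Z.ι_image_le _)).trans Z.ι_image_top.ge)
      (show Γ(X, Z.ι ''ᵁ ⊤) from r.appLE D ⊤ htop a) :=
    (AModX.resR_resR (Z.ι.image_mono htop) _ (r.app D a)).symm
  refine h1.trans ?_
  rw [e1]
  exact AModX.resR_resR _ _ _

/-- A morphism to an affine open is determined by the pullback of functions. -/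
lemma eq_of_pf_eq {T : X.Opens} (r₁ r₂ : T.toScheme ⟶ P) {D : P.Opens} (hD : IsAffineOpen D)
    (h₁ : T ≤ T.ι ''ᵁ (r₁ ⁻¹ᵁ D)) (h₂ : T ≤ T.ι ''ᵁ (r₂ ⁻¹ᵁ D))
    (he : pf r₁ D T h₁ = pf r₂ D T h₂) : r₁ = r₂ := by
  have top : ∀ (r : T.toScheme ⟶ P), T ≤ T.ι ''ᵁ (r ⁻¹ᵁ D) → (⊤ : T.toScheme.Opens) ≤ r ⁻¹ᵁ D := fun r h x _ => by
    obtain ⟨y, hy, hyx⟩ := h x.2
    obtain rfl : y = x := Subtype.ext hyx
    exact hy
  have key : ∀ (r : T.toScheme ⟶ P) (h : T ≤ T.ι ''ᵁ (r ⁻¹ᵁ D)) (c : Γ(P, D)),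
      (show Γ(X, T.ι ''ᵁ ⊤) from r.appLE D ⊤ (top r h) c) = AModX.resR T.ι_image_top.le (pf r D T h c) := fun r h c =>
    (AModX.resR_resR h T.ι_image_top.le (r.app D c)).symm
  have e : r₁.appLE D ⊤ (top r₁ h₁) = r₂.appLE D ⊤ (top r₂ h₂) := CommRingCat.hom_ext (RingHom.ext fun c =>
    (key r₁ h₁ c).trans ((congrArg (fun ρ : Γ(P, D) →+* Γ(X, T) => AModX.resR T.ι_image_top.le (ρ c)) he).trans
      (key r₂ h₂ c).symm))
  have k2 : ∀ (r : T.toScheme ⟶ P) (h : T ≤ T.ι ''ᵁ (r ⁻¹ᵁ D)),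
      (⊤ : T.toScheme.Opens).toSpecΓ ≫ Spec.map (r.appLE D ⊤ (top r h)) ≫ hD.fromSpec =
        (⊤ : T.toScheme.Opens).ι ≫ r := fun r h => by
    rw [Scheme.Opens.toSpecΓ_SpecMap_appLE_assoc, IsAffineOpen.toSpecΓ_fromSpec]
    exact Scheme.Hom.resLE_comp_ι r _
  haveI : IsIso (⊤ : T.toScheme.Opens).ι := by
    rw [← Scheme.topIso_hom]; infer_instance
  rw [← cancel_epi (⊤ : T.toScheme.Opens).ι, ← k2 r₁ h₁, ← k2 r₂ h₂, e]

include C in
/-- Where the section of `L` is a frame, the morphism lands in the open of the generator. -/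
lemma IsCompat.le_dOpen (hO1 : RelProj.IsRelTwist 𝒮 p chart 1 O1 lam) (hφ : IsTaut lam j φ) {Z : X.Opens}
    {r : Z.toScheme ⟶ P} (hr : r ≫ p = Z.ι ≫ g) (hc : IsCompat φ g θ Z r) {U : Y.Opens} (hU : IsAffineOpen U)
    (e : Γ(E, U)) {T : X.Opens} (hT : T ≤ g ⁻¹ᵁ U) (hTZ : T ≤ Z)
    (he : InvX.IsFrame (AModX.res L hT (th g θ e))) :
    T ≤ Z.ι ''ᵁ (r ⁻¹ᵁ dOpen p chart j U hU e) := by
  intro x hx
  let z : Z.toScheme := ⟨x, hTZ hx⟩
  refine ⟨z, ?_, rfl⟩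
  show r z ∈ dOpen p chart j U hU e
  have hpz : p (r z) = g x := congrArg (fun ψ : Z.toScheme ⟶ Y => ψ z) hr
  have hzr : r z ∈ (RelProj.emb p chart U hU).opensRange := by
    rw [RelTildeX.opensRange_emb]
    show p (r z) ∈ U
    rw [hpz]
    exact hT hx
  obtain ⟨y, hy⟩ := hzr
  obtain ⟨f, hfy⟩ := Opens.mem_iSup.1 ((ProjX.iSup_basicOpen_deg_one C.isGenDegOne U hU _ Ideal.subset_span).ge
    (trivial : y ∈ (⊤ : (Proj (𝒮.deg U hU)).Opens)))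
  obtain ⟨m, hm⟩ := exists_j_eq C U hU f.2
  have hym : y ∈ Proj.basicOpen (𝒮.deg U hU) (gen j m) := (congrArg (Proj.basicOpen (𝒮.deg U hU)) hm).ge hfy
  let W := dOpen p chart j U hU m
  let a : Γ(P, W) := dFun p chart j U hU m (ratio C U hU m e)
  have hta := taut_res C hO1 hφ U hU m e
  let T' : X.Opens := T ⊓ Z.ι ''ᵁ (r ⁻¹ᵁ W)
  have hxT' : x ∈ T' := ⟨hx, z, (show r z ∈ W from ⟨y, hym, hy⟩), rfl⟩
  have hθ := hc U U hU hU m e W (dOpen_le U hU m) (dOpen_le U hU m) a hta T' inf_le_right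
    (inf_le_left.trans hT) (inf_le_left.trans hT)
  obtain ⟨d, hd⟩ := (he.res (inf_le_left : T' ≤ T)).exists_coord le_rfl
    (AModX.res L (inf_le_left.trans hT) (th g θ m))
  rw [AModX.res_self, AModX.res_res] at hd
  have hu : pf r W T' inf_le_right a * d = 1 := by
    refine (he.res (inf_le_left : T' ≤ T)).coord_unique le_rfl ?_
    rw [AModX.res_self, AModX.res_res, one_smul, mul_smul, ← hd, ← hθ]
  have hxb : x ∈ X.basicOpen (pf r W T' inf_le_right a) := by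
    rw [X.basicOpen_of_isUnit (IsUnit.of_mul_eq_one _ hu)]
    exact hxT'
  have hzb : r z ∈ P.basicOpen a := by
    rw [show pf r W T' inf_le_right a = X.presheaf.map (homOfLE (inf_le_right : T' ≤ Z.ι ''ᵁ (r ⁻¹ᵁ W))).op
      (r.app W a) from rfl, Scheme.basicOpen_res] at hxb
    have h2 : z ∈ Z.toScheme.basicOpen (r.app W a) := by
      have h3 : x ∈ Z.ι ''ᵁ Z.toScheme.basicOpen (r.app W a) := by
        rw [Scheme.image_basicOpen, Scheme.Opens.ι_appIso]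
        exact hxb.2
      obtain ⟨z', hz', hzz⟩ := h3
      obtain rfl : z' = z := Subtype.ext hzz
      exact hz'
    rw [← Scheme.preimage_basicOpen] at h2
    exact h2
  let ja := RelProj.emb p chart U hU
  have hyW : y ∈ ja ⁻¹ᵁ W := ⟨y, hym, rfl⟩
  have hyb : y ∈ (Proj (𝒮.deg U hU)).basicOpen (ja.app W a) := by
    have h : ja y ∈ P.basicOpen a := by
      rw [show ja y = r z from hy]
      exact hzb
    exact (Scheme.preimage_basicOpen ja a).le h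
  let ev : Γ(Proj (𝒮.deg U hU), (Proj (𝒮.deg U hU)).basicOpen (ja.app W a)) →+* GrTwist.A0 (𝒮.deg U hU) y :=
    { toFun := fun c => c.1 ⟨y, hyb⟩
      map_one' := rfl
      map_zero' := rfl
      map_add' := fun _ _ => rfl
      map_mul' := fun _ _ => rfl }
  have hua : IsUnit (((ja.app W a).1 ⟨y, hyW⟩ : GrTwist.A0 (𝒮.deg U hU) y)) :=
    (AModX.isUnit_resR ((Proj (𝒮.deg U hU)).basicOpen_le (ja.app W a)) (ja.app W a) le_rfl).map ev
  have hmul := frac_mul_self (gen_mem C hU m) (show gen j e ∈ 𝒮.deg U hU (1 • 1) by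
    rw [one_smul]; exact gen_mem C hU e) y hym
  rw [show IsLocalization.map (M := Submonoid.powers (gen j m)) (T := y.asHomogeneousIdeal.toIdeal.primeCompl)
      (GrTwist.Loc (𝒮.deg U hU) y) (RingHom.id _) (Submonoid.powers_le.mpr hym)
      (Away.mk (𝒮.deg U hU) (gen_mem C hU m) 1 (gen j e) (by rw [one_smul]; exact gen_mem C hU e)).val =
      ((ja.app W a).1 ⟨y, hyW⟩ : GrTwist.A0 (𝒮.deg U hU) y).val from
    (emb_app_dFun U hU m _ ⟨y, hyW⟩ hym).symm] at hmul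
  refine ⟨y, ?_, hy⟩
  show gen j e ∉ y.asHomogeneousIdeal
  intro hmem
  refine (IsLocalization.AtPrime.isUnit_to_map_iff (GrTwist.Loc (𝒮.deg U hU) y) y.asHomogeneousIdeal.toIdeal (gen j e)).1 ?_ hmem
  rw [← hmul]
  exact (hua.map (algebraMap _ (GrTwist.Loc (𝒮.deg U hU) y))).mul
    ((IsLocalization.AtPrime.isUnit_to_map_iff _ y.asHomogeneousIdeal.toIdeal (gen j m)).2 hym)

include C in
/-- Compatible morphisms on an open of `X` are equal. -/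
theorem IsCompat.unique (hO1 : RelProj.IsRelTwist 𝒮 p chart 1 O1 lam) (hP : RelProj.IsRelProj 𝒮 p chart)
    (hφ : IsTaut lam j φ)
    (hgenθ : ∀ x : X, ∃ (U : Y.Opens) (_ : IsAffineOpen U) (e : Γ(E, U)), x ∈ AmpleX.locus (th g θ e))
    {Z : X.Opens} (r₁ r₂ : Z.toScheme ⟶ P) (hr₁ : r₁ ≫ p = Z.ι ≫ g) (hr₂ : r₂ ≫ p = Z.ι ≫ g)
    (hc₁ : IsCompat φ g θ Z r₁) (hc₂ : IsCompat φ g θ Z r₂) : r₁ = r₂ := by
  choose U hU e he using hgenθ
  refine Scheme.Cover.hom_ext (Z.toScheme.openCoverOfIsOpenCover (fun z : Z.toScheme => Z.ι ⁻¹ᵁ AmpleX.locus (th g θ (e z.1)))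
    (IsOpenCover.mk (eq_top_iff.2 fun z _ => Opens.mem_iSup.2 ⟨z, he z.1⟩))) _ _ fun (z : Z.toScheme) => ?_
  let T : X.Opens := Z ⊓ AmpleX.locus (th g θ (e z.1))
  have hTZ : T ≤ Z := inf_le_left
  have hTU : T ≤ g ⁻¹ᵁ U z.1 := inf_le_right.trans (AmpleX.locus_le _)
  have hfr : InvX.IsFrame (AModX.res L hTU (th g θ (e z.1))) := AmpleX.isFrame_res_of_le _ inf_le_right
  let D := dOpen p chart j (U z.1) (hU z.1) (e z.1)
  suffices hT : X.homOfLE hTZ ≫ r₁ = X.homOfLE hTZ ≫ r₂ by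
    let W := Z.ι ⁻¹ᵁ AmpleX.locus (th g θ (e z.1))
    have hWT : (W.ι ≫ Z.ι).opensRange ≤ T := by
      rintro _ ⟨w, rfl⟩
      exact ⟨(W.ι w).2, w.2⟩
    let l : W.toScheme ⟶ T.toScheme := IsOpenImmersion.lift T.ι (W.ι ≫ Z.ι) (by
      rw [Scheme.Opens.range_ι]; exact hWT)
    have hl : l ≫ X.homOfLE hTZ = W.ι := by
      rw [← cancel_mono Z.ι, Category.assoc, Scheme.homOfLE_ι, IsOpenImmersion.lift_fac]
    show W.ι ≫ r₁ = W.ι ≫ r₂
    rw [← hl, Category.assoc, Category.assoc, hT]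
  have hr₁' : (X.homOfLE hTZ ≫ r₁) ≫ p = T.ι ≫ g := by rw [Category.assoc, hr₁, Scheme.homOfLE_ι_assoc]
  have hr₂' : (X.homOfLE hTZ ≫ r₂) ≫ p = T.ι ≫ g := by rw [Category.assoc, hr₂, Scheme.homOfLE_ι_assoc]
  have h₁ := (hc₁.restrict φ g θ hTZ).le_dOpen C hO1 hφ hr₁' (hU z.1) (e z.1) hTU le_rfl hfr
  have h₂ := (hc₂.restrict φ g θ hTZ).le_dOpen C hO1 hφ hr₂' (hU z.1) (e z.1) hTU le_rfl hfr
  refine eq_of_pf_eq _ _ (isAffineOpen_dOpen C (U z.1) (hU z.1) (e z.1)) h₁ h₂ ?_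
  have hsur := dFun_bijective (p := p) (chart := chart) C (U z.1) (hU z.1) (e z.1)
  have key : (pf (X.homOfLE hTZ ≫ r₁) D T h₁).comp (dFun p chart j _ (hU z.1) (e z.1)) =
      (pf (X.homOfLE hTZ ≫ r₂) D T h₂).comp (dFun p chart j _ (hU z.1) (e z.1)) := by
    refine away_hom_ext C _ (hU z.1) _ _ _ (fun a => ?_) (fun m => ?_)
    · simp only [RingHom.comp_apply]
      rw [← res_p_app C hP, pf_base _ hr₁' (dOpen_le _ _ _) T h₁ hTU, pf_base _ hr₂' (dOpen_le _ _ _) T h₂ hTU]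
    · simp only [RingHom.comp_apply]
      have hta := taut_res C hO1 hφ (U z.1) (hU z.1) (e z.1) m
      have k₁ := (hc₁.restrict φ g θ hTZ) _ _ (hU z.1) (hU z.1) (e z.1) m D (dOpen_le _ _ _) (dOpen_le _ _ _) _ hta T h₁ hTU hTU
      have k₂ := (hc₂.restrict φ g θ hTZ) _ _ (hU z.1) (hU z.1) (e z.1) m D (dOpen_le _ _ _) (dOpen_le _ _ _) _ hta T h₂ hTU hTU
      refine hfr.coord_unique le_rfl ?_
      rw [AModX.res_self]
      exact k₁.symm.trans k₂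
  refine RingHom.ext fun c => ?_
  obtain ⟨c', rfl⟩ := hsur.2 c
  exact RingHom.congr_fun key c'

include C in
/-- The morphism given by a frame. -/
theorem exists_local (hO1 : RelProj.IsRelTwist 𝒮 p chart 1 O1 lam) (hP : RelProj.IsRelProj 𝒮 p chart)
    (hE : Coh.IsQCoh E) (hφ : IsTaut lam j φ)
    {Z : X.Opens} {U : Y.Opens} (hU : IsAffineOpen U) (e : Γ(E, U)) (hZ : Z ≤ g ⁻¹ᵁ U)
    (he : InvX.IsFrame (AModX.res L hZ (th g θ e))) :
    ∃ r : Z.toScheme ⟶ P, r ≫ p = Z.ι ≫ g ∧ IsCompat φ g θ Z r := by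
  have hco : ∀ m : Γ(E, U), ∃ a : Γ(X, Z), AModX.res L hZ (th g θ m) = a • AModX.res L hZ (th g θ e) := fun m => by
    obtain ⟨a, ha⟩ := he.exists_coord le_rfl (AModX.res L hZ (th g θ m))
    rw [AModX.res_self] at ha
    exact ⟨a, ha⟩
  choose co hco using hco
  have huniq : ∀ a b : Γ(X, Z), a • AModX.res L hZ (th g θ e) = b • AModX.res L hZ (th g θ e) → a = b := fun a b h => by
    refine he.coord_unique le_rfl ?_
    rwa [AModX.res_self]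
  let c : Γ(E, U) →+ Γ(X, Z) := AddMonoidHom.mk' co fun m m' => huniq _ _ (by
    rw [← hco, add_smul, ← hco, ← hco, ← map_add]
    exact congrArg _ (map_add (θ.app U).hom m m'))
  let τ : Γ(Y, U) →+* Γ(X, Z) := (AModX.resR hZ).comp (g.app U).hom
  have hc : ∀ a m, c (a • m) = τ a * c m := fun a m => huniq _ _ (by
    show co (a • m) • _ = (τ a * co m) • _
    rw [← hco, mul_smul, ← hco]
    refine Eq.trans (congrArg (AModX.res L hZ) (Scheme.Modules.Hom.app_smul θ a m)) ?_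
    exact AModX.res_smul (M := L) hZ (g.app U a) (th g θ m))
  have hce : c e = 1 := huniq _ _ (by rw [one_smul]; exact (hco e).symm)
  obtain ⟨ρ, hρ0, hρ1⟩ := exists_away_hom C U hU e τ c hc hce
  let D := dOpen p chart j U hU e
  let dE := RingEquiv.ofBijective _ (dFun_bijective (p := p) (chart := chart) C U hU e)
  let hD := isAffineOpen_dOpen (p := p) (chart := chart) C U hU e
  let ρ' : Γ(P, D) ⟶ Γ(X, Z) := CommRingCat.ofHom (ρ.comp dE.symm.toRingHom)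
  have hρ' : ∀ z, ρ'.hom (dFun p chart j U hU e z) = ρ z := fun z => congrArg ρ (dE.symm_apply_apply z)
  let r : Z.toScheme ⟶ P := Z.toSpecΓ ≫ Spec.map ρ' ≫ hD.fromSpec
  have hrng : ∀ z : Z.toScheme, r z ∈ D := fun z =>
    hD.opensRange_fromSpec.le ⟨(Z.toSpecΓ ≫ Spec.map ρ') z, rfl⟩
  have hpf : ∀ (T : X.Opens) (hT : T ≤ Z.ι ''ᵁ (r ⁻¹ᵁ D)) (a : Γ(P, D)),
      pf r D T hT a = AModX.resR (hT.trans (Z.ι_image_le _)) (ρ'.hom a) := fun T hT a =>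
    pf_toSpecΓ_fromSpec hD ρ' T hT a
  have hover : r ≫ p = Z.ι ≫ g := by
    have hi : D ≤ p ⁻¹ᵁ U := dOpen_le U hU e
    have h3 : p.appLE U D hi ≫ ρ' = g.appLE U Z hZ := CommRingCat.hom_ext (RingHom.ext fun a => by
      show ρ'.hom (AModX.resR hi (p.app U a)) = _
      rw [res_p_app C hP U hU e, hρ', hρ0]
      rfl)
    have h4 := IsAffineOpen.SpecMap_appLE_fromSpec p hU hD hi
    show (Z.toSpecΓ ≫ Spec.map ρ' ≫ hD.fromSpec) ≫ p = _
    rw [Category.assoc, Category.assoc, ← h4, ← Spec.map_comp_assoc, h3,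
      Scheme.Opens.toSpecΓ_SpecMap_appLE_assoc, IsAffineOpen.toSpecΓ_fromSpec, Scheme.Hom.resLE_comp_ι]
  refine ⟨r, hover, ?_⟩
  -- sections in the chart of the frame
  have K : ∀ (U' : Y.Opens) (_ : IsAffineOpen U') (e' : Γ(E, U')) (W : P.Opens) (hWD : W ≤ D) (hW' : W ≤ p ⁻¹ᵁ U')
      (a : Γ(P, W)), AModX.res O1 hW' (ph φ e') = a • AModX.res O1 (hWD.trans (dOpen_le U hU e)) (ph φ e) →
      ∀ (T : X.Opens) (hT : T ≤ Z.ι ''ᵁ (r ⁻¹ᵁ W)) (h : T ≤ g ⁻¹ᵁ U) (h' : T ≤ g ⁻¹ᵁ U'),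
        AModX.res L h' (th g θ e') = pf r W T hT a • AModX.res L h (th g θ e) := by
    intro U' hU' e' W hWD hW' a ha T hT h h'
    refine AModX.eq_of_locally _ _ fun q hq => ?_
    obtain ⟨f₁, f₂, hff, hqf⟩ := exists_basicOpen_le_affine_inter hU hU' (g q) ⟨h hq, h' hq⟩
    have hD₁' : Y.basicOpen f₁ ≤ U' := hff.le.trans (Y.basicOpen_le f₂)
    have hD₁ : Y.basicOpen f₁ ≤ U := Y.basicOpen_le f₁
    obtain ⟨n, e'', he''⟩ := QCoh.exists_pow_smul_eq_map hE hU f₁ (AModX.res E hD₁' e')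
    replace he'' : AModX.res E hD₁ e'' = AModX.resR hD₁ f₁ ^ n • AModX.res E hD₁' e' := he''
    let W₁ := W ⊓ p ⁻¹ᵁ Y.basicOpen f₁
    let T₁ := T ⊓ g ⁻¹ᵁ Y.basicOpen f₁
    have hT₁ : T₁ ≤ Z.ι ''ᵁ (r ⁻¹ᵁ W₁) := by
      rintro w ⟨hw, hwf⟩
      obtain ⟨z, hz, rfl⟩ := hT hw
      refine ⟨z, ⟨hz, ?_⟩, rfl⟩
      show p (r z) ∈ Y.basicOpen f₁
      rw [show p (r z) = g (Z.ι z) from congrArg (fun ψ : Z.toScheme ⟶ Y => ψ z) hover]
      exact hwf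
    refine ⟨T₁, inf_le_left, ⟨hq, hqf⟩, ?_⟩
    let u : Γ(P, W₁) := AModX.resR (inf_le_right : W₁ ≤ p ⁻¹ᵁ Y.basicOpen f₁) (p.app _ (AModX.resR hD₁ f₁ ^ n))
    -- in `P`
    have hP₁ : AModX.res O1 ((inf_le_left.trans hWD).trans (dOpen_le U hU e) : W₁ ≤ p ⁻¹ᵁ U) (ph φ e'') =
        (u * AModX.resR (inf_le_left : W₁ ≤ W) a) •
          AModX.res O1 ((inf_le_left.trans hWD).trans (dOpen_le U hU e)) (ph φ e) := by
      have e1 : AModX.res O1 (p.preimage_mono hD₁) (ph φ e'') = ph φ (AModX.res E hD₁ e'') :=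
        (AModX.app_res φ hD₁ e'').symm
      have e2 : ph φ (AModX.resR hD₁ f₁ ^ n • AModX.res E hD₁' e') =
          p.app _ (AModX.resR hD₁ f₁ ^ n) • AModX.res O1 (p.preimage_mono hD₁') (ph φ e') :=
        (Scheme.Modules.Hom.app_smul φ _ _).trans
          (congrArg (fun w : Γ(O1, p ⁻¹ᵁ Y.basicOpen f₁) => p.app _ (AModX.resR hD₁ f₁ ^ n) • w)
            (AModX.app_res φ hD₁' e'))
      have e3 := congrArg (AModX.res O1 (inf_le_left : W₁ ≤ W)) ha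
      rw [AModX.res_smul, AModX.res_res, AModX.res_res] at e3
      rw [← AModX.res_res (p.preimage_mono hD₁) (inf_le_right : W₁ ≤ p ⁻¹ᵁ Y.basicOpen f₁), e1, he'', e2,
        AModX.res_smul, AModX.res_res, mul_smul]
      exact congrArg (u • ·) e3
    have hP₂ := congrArg (AModX.res O1 (inf_le_left.trans hWD : W₁ ≤ D)) (taut_res C hO1 hφ U hU e e'')
    rw [AModX.res_smul, AModX.res_res, AModX.res_res] at hP₂
    have hfD : InvX.IsFrame (AModX.res O1 ((inf_le_left.trans hWD).trans (dOpen_le U hU e) : W₁ ≤ p ⁻¹ᵁ U) (ph φ e)) :=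
      AmpleX.isFrame_res_of_le _ ((inf_le_left.trans hWD).trans (le_locus_taut hO1 C.isGrSymAlg.2 U hU e _ (hφ U hU e)))
    have hcf := hfD.coord_unique le_rfl (r := u * AModX.resR inf_le_left a)
      (r' := AModX.resR (inf_le_left.trans hWD) (dFun p chart j U hU e (ratio C U hU e e''))) (by
        rw [AModX.res_self]; exact hP₁.symm.trans hP₂)
    have hpfc := congrArg (pf r W₁ T₁ hT₁) hcf
    have hTD : T₁ ≤ Z.ι ''ᵁ (r ⁻¹ᵁ D) := hT₁.trans (Z.ι.image_mono (r.preimage_mono (inf_le_left.trans hWD)))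
    rw [map_mul, pf_res r inf_le_left (inf_le_left : T₁ ≤ T) hT hT₁ a,
      pf_res r (inf_le_left.trans hWD) (le_refl T₁) hTD hT₁, hpf, hρ', hρ1, AModX.resR_self,
      pf_base r hover (inf_le_right : W₁ ≤ _) T₁ hT₁ (inf_le_right : T₁ ≤ _)] at hpfc
    -- in `X`
    have hTZ : T₁ ≤ Z := hTD.trans (Z.ι_image_le _)
    have hX₁ := congrArg (AModX.res L hTZ) (hco e'')
    rw [AModX.res_smul, AModX.res_res, AModX.res_res] at hX₁
    have hX₂ : AModX.res L (inf_le_right.trans (g.preimage_mono hD₁) : T₁ ≤ g ⁻¹ᵁ U) (th g θ e'') =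
        AModX.resR (inf_le_right : T₁ ≤ g ⁻¹ᵁ Y.basicOpen f₁) (g.app _ (AModX.resR hD₁ f₁ ^ n)) •
          AModX.res L (inf_le_right.trans (g.preimage_mono hD₁') : T₁ ≤ g ⁻¹ᵁ U') (th g θ e') := by
      have e1 : AModX.res L (g.preimage_mono hD₁) (th g θ e'') = th g θ (AModX.res E hD₁ e'') :=
        (AModX.app_res θ hD₁ e'').symm
      have e2 : th g θ (AModX.resR hD₁ f₁ ^ n • AModX.res E hD₁' e') =
          g.app _ (AModX.resR hD₁ f₁ ^ n) • AModX.res L (g.preimage_mono hD₁') (th g θ e') :=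
        (Scheme.Modules.Hom.app_smul θ _ _).trans
          (congrArg (fun w : Γ(L, g ⁻¹ᵁ Y.basicOpen f₁) => g.app _ (AModX.resR hD₁ f₁ ^ n) • w)
            (AModX.app_res θ hD₁' e'))
      rw [← AModX.res_res (g.preimage_mono hD₁) (inf_le_right : T₁ ≤ g ⁻¹ᵁ Y.basicOpen f₁), e1, he'', e2,
        AModX.res_smul, AModX.res_res]
    have hunit : IsUnit (AModX.resR (inf_le_right : T₁ ≤ g ⁻¹ᵁ Y.basicOpen f₁) (g.app _ (AModX.resR hD₁ f₁ ^ n))) :=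
      (((AModX.isUnit_resR hD₁ f₁ le_rfl).pow n).map (g.app _).hom).map _
    obtain ⟨v, hv⟩ := hunit.exists_left_inv
    have hX₃ := congrArg (v • ·) (hX₂.symm.trans (hX₁.trans (congrArg (· • _) hpfc.symm)))
    simp only [← mul_smul] at hX₃
    rw [← mul_assoc, hv, one_smul, one_mul] at hX₃
    rw [AModX.res_res, AModX.res_smul, AModX.res_res]
    exact hX₃
  intro U₁ U₂ hU₁ hU₂ e₁ e₂ W hW hW' a ha T hT h h'
  let W₁ := W ⊓ D
  have hT₁ : T ≤ Z.ι ''ᵁ (r ⁻¹ᵁ W₁) := fun w hw => by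
    obtain ⟨z, hz, rfl⟩ := hT hw
    exact ⟨z, ⟨hz, hrng z⟩, rfl⟩
  have hTU : T ≤ g ⁻¹ᵁ U := hT₁.trans ((Z.ι_image_le _).trans hZ)
  have hfD : InvX.IsFrame (AModX.res O1 ((inf_le_right : W₁ ≤ D).trans (dOpen_le U hU e)) (ph φ e)) :=
    AmpleX.isFrame_res_of_le _ ((inf_le_right : W₁ ≤ D).trans (le_locus_taut hO1 C.isGrSymAlg.2 U hU e _ (hφ U hU e)))
  obtain ⟨b, hb⟩ := hfD.exists_coord le_rfl (AModX.res O1 (inf_le_left.trans hW : W₁ ≤ p ⁻¹ᵁ U₁) (ph φ e₁))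
  rw [AModX.res_self] at hb
  have ha' := congrArg (AModX.res O1 (inf_le_left : W₁ ≤ W)) ha
  rw [AModX.res_smul, AModX.res_res, AModX.res_res, hb, ← mul_smul] at ha'
  rw [K U₂ hU₂ e₂ W₁ inf_le_right (inf_le_left.trans hW') _ ha' T hT₁ hTU h',
    K U₁ hU₁ e₁ W₁ inf_le_right (inf_le_left.trans hW) b hb T hT₁ hTU h, map_mul, mul_smul,
    pf_res r inf_le_left (le_refl T) hT hT₁ a, AModX.resR_self]

end local_

end Groth.Agent.SymX
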