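import Groth.Agent.SymX.Taut

/-!
# The standard affine opens of a projective bundle
-/

set_option linter.style.haveILetI false
set_option linter.unusedSectionVars false
set_option backward.isDefEq.respectTransparency false
set_option backward.isDefEq.respectTransparency.types false

noncomputable section

universe u

open CategoryTheory CategoryTheory.Limits AlgebraicGeometry TopologicalSpace Opposite HomogeneousLocalization
open scoped HomogeneousIdeal

namespace Groth.Agent.SymX

open Groth.Agent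

variable {Y P : Scheme.{u}} {E : Y.Modules} {𝒮 : RelProj.QCGrAlg Y} {p : P ⟶ Y}
  {chart : ∀ (U : Y.Opens) (hU : IsAffineOpen U), (((p ⁻¹ᵁ U : P.Opens) : Scheme.{u}) ≅ Proj (𝒮.deg U hU))}
  {O1 : P.Modules} {lam : ∀ (U : Y.Opens) (hU : IsAffineOpen U),
    O1 ⟶ (Scheme.Modules.pushforward (RelProj.emb p chart U hU)).obj (GrTwist.twist (𝒮.deg U hU) 1)}
  {j : E ⟶ 𝒮.toModule}

/-- A generator as an element of the graded algebra. -/
abbrev gen (j : E ⟶ 𝒮.toModule) {U : Y.Opens} (e : Γ(E, U)) : 𝒮.presheaf.obj (op U) := j.app U e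

/-- The canonical map `E ⟶ p_* O(1)`, valuewise. -/
def IsTaut (lam : ∀ (U : Y.Opens) (hU : IsAffineOpen U),
    O1 ⟶ (Scheme.Modules.pushforward (RelProj.emb p chart U hU)).obj (GrTwist.twist (𝒮.deg U hU) 1))
    (j : E ⟶ 𝒮.toModule) (φ : E ⟶ (Scheme.Modules.pushforward p).obj O1) : Prop :=
  ∀ (U : Y.Opens) (hU : IsAffineOpen U) (e : Γ(E, U))
    (y : ↥(RelProj.emb p chart U hU ⁻¹ᵁ (p ⁻¹ᵁ U))),
    GrTwist.val (V := RelProj.emb p chart U hU ⁻¹ᵁ (p ⁻¹ᵁ U))
        ((lam U hU).app (p ⁻¹ᵁ U) ((φ.app U) e)) y =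
      algebraMap (𝒮.presheaf.obj (op U)) (GrTwist.Loc (𝒮.deg U hU) y.1)
        ((j.app U) e : 𝒮.presheaf.obj (op U))

variable (p chart j) in
/-- The open where a generator does not vanish. -/
def dOpen (U : Y.Opens) (hU : IsAffineOpen U) (e : Γ(E, U)) : P.Opens :=
  RelProj.emb p chart U hU ''ᵁ Proj.basicOpen (𝒮.deg U hU) (gen j e)

lemma dOpen_le (U : Y.Opens) (hU : IsAffineOpen U) (e : Γ(E, U)) : dOpen p chart j U hU e ≤ p ⁻¹ᵁ U :=
  (Scheme.Hom.image_le_opensRange _ _).trans (RelTildeX.opensRange_emb p chart U hU).le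

variable (C : Chartwise E 𝒮 j)

include C in
lemma gen_mem {U : Y.Opens} (hU : IsAffineOpen U) (e : Γ(E, U)) : gen j e ∈ 𝒮.deg U hU 1 :=
  C.isGrSymAlg.2 U hU e

include C in
lemma isAffineOpen_dOpen (U : Y.Opens) (hU : IsAffineOpen U) (e : Γ(E, U)) :
    IsAffineOpen (dOpen p chart j U hU e) :=
  (Proj.isAffineOpen_basicOpen (𝒮.deg U hU) _ (gen_mem C hU e) one_pos).image_of_isOpenImmersion _

variable (p chart j) in
/-- A homogeneous fraction as a function on the affine open of the generator. -/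
def dFun (U : Y.Opens) (hU : IsAffineOpen U) (e : Γ(E, U)) :
    Away (𝒮.deg U hU) (gen j e) →+* Γ(P, dOpen p chart j U hU e) :=
  ((RelProj.emb p chart U hU).appIso (Proj.basicOpen (𝒮.deg U hU) (gen j e))).inv.hom.comp
    (Proj.awayToSection (𝒮.deg U hU) (gen j e)).hom

include C in
lemma dFun_bijective (U : Y.Opens) (hU : IsAffineOpen U) (e : Γ(E, U)) :
    Function.Bijective (dFun p chart j U hU e) := by
  have h1 : IsIso (Proj.awayToSection (𝒮.deg U hU) (gen j e)) := by
    rw [← Proj.basicOpenIsoAway_hom (𝒮.deg U hU) (gen j e) (gen_mem C hU e) one_pos]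
    infer_instance
  exact ((ConcreteCategory.isIso_iff_bijective ((RelProj.emb p chart U hU).appIso _).inv).1 inferInstance).comp
    ((ConcreteCategory.isIso_iff_bijective _).1 h1)

/-- The value of `dFun` in the chart. -/
lemma emb_app_dFun (U : Y.Opens) (hU : IsAffineOpen U) (e : Γ(E, U)) (z : Away (𝒮.deg U hU) (gen j e))
    (y : (RelProj.emb p chart U hU ⁻¹ᵁ dOpen p chart j U hU e : (Proj (𝒮.deg U hU)).Opens))
    (hy : y.1 ∈ Proj.basicOpen (𝒮.deg U hU) (gen j e)) :
    (((RelProj.emb p chart U hU).app (dOpen p chart j U hU e) (dFun p chart j U hU e z)).1 y :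
        GrTwist.A0 (𝒮.deg U hU) y.1).val =
      IsLocalization.map (M := Submonoid.powers (gen j e)) (T := y.1.asHomogeneousIdeal.toIdeal.primeCompl) _
        (RingHom.id _) (Submonoid.powers_le.mpr hy) z.val := by
  have h1 : (RelProj.emb p chart U hU).app (dOpen p chart j U hU e) (dFun p chart j U hU e z) =
      (Proj (𝒮.deg U hU)).presheaf.map
        (eqToHom ((RelProj.emb p chart U hU).preimage_image_eq (Proj.basicOpen (𝒮.deg U hU) (gen j e)))).op
        ((Proj.awayToSection (𝒮.deg U hU) (gen j e)) z) :=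
    congr($((RelProj.emb p chart U hU).appIso_inv_app (Proj.basicOpen (𝒮.deg U hU) (gen j e))).hom
      ((Proj.awayToSection (𝒮.deg U hU) (gen j e)).hom z))
  rw [h1]
  exact ProjectiveSpectrum.Proj.awayToSection_apply (𝒜 := 𝒮.deg U hU) _ z ⟨y.1, hy⟩

/-- A generator of degree one over another. -/
def ratio (U : Y.Opens) (hU : IsAffineOpen U) (e m : Γ(E, U)) : Away (𝒮.deg U hU) (gen j e) :=
  Away.mk (𝒮.deg U hU) (gen_mem C hU e) 1 (gen j m) (by rw [one_smul]; exact gen_mem C hU m)

include C in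
lemma res_p_app (hP : RelProj.IsRelProj 𝒮 p chart) (U : Y.Opens) (hU : IsAffineOpen U) (e : Γ(E, U))
    (r : Γ(Y, U)) :
    AModX.resR (dOpen_le (p := p) (chart := chart) (j := j) U hU e) (p.app U r) =
      dFun p chart j U hU e (fromZeroRingHom (𝒮.deg U hU) _ ((𝒮.strZero U hU).hom r)) := by
  let f := RelProj.emb p chart U hU
  have hinj : Function.Injective (f.app (dOpen p chart j U hU e)) := by
    have := Scheme.Hom.app_eq_appLE (f := f) (U := dOpen p chart j U hU e)
    exact ((ConcreteCategory.isIso_iff_bijective _).1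
      (f.isIso_app _ ((Scheme.Hom.image_le_opensRange _ _)))).1
  refine hinj (Subtype.ext (funext fun y => HomogeneousLocalization.val_injective _ ?_))
  have hy : y.1 ∈ Proj.basicOpen (𝒮.deg U hU) (gen j e) := (f.preimage_image_eq _).le y.2
  refine Eq.trans ?_ (emb_app_dFun U hU e _ y hy).symm
  have h1 : (f.app (dOpen p chart j U hU e) (AModX.resR (dOpen_le (p := p) (chart := chart) (j := j) U hU e) (p.app U r))).1 y =
      (f.app (p ⁻¹ᵁ U) (p.app U r)).1 ⟨y.1, f.preimage_mono (dOpen_le (p := p) (chart := chart) (j := j) U hU e) y.2⟩ :=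
    congrArg (fun z => z.1 y) (congr($(f.naturality (homOfLE (dOpen_le (p := p) (chart := chart) (j := j) U hU e)).op).hom (p.app U r)))
  rw [h1, emb_app_val hP]
  show algebraMap _ _ _ = IsLocalization.map _ (RingHom.id _) _ (Localization.mk _ 1)
  rw [Localization.mk_one_eq_algebraMap, IsLocalization.map_eq]
  rfl

lemma frac_mul_self {A σ : Type u} [CommRing A] [SetLike σ A] [AddSubgroupClass σ A] {𝒜 : ℕ → σ} [GradedRing 𝒜]
    {t m : A} (ht : t ∈ 𝒜 1) (hm : m ∈ 𝒜 (1 • 1)) (y : ProjectiveSpectrum 𝒜) (hy : t ∉ y.asHomogeneousIdeal) :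
    IsLocalization.map (M := Submonoid.powers t) (T := y.asHomogeneousIdeal.toIdeal.primeCompl) (GrTwist.Loc 𝒜 y)
        (RingHom.id _) (Submonoid.powers_le.mpr hy) (Away.mk 𝒜 ht 1 m hm).val *
      algebraMap A (GrTwist.Loc 𝒜 y) t = algebraMap A (GrTwist.Loc 𝒜 y) m := by
  rw [Away.val_mk, Localization.mk_eq_mk', IsLocalization.map_mk']
  simp only [RingHom.id_apply, pow_one]
  exact IsLocalization.mk'_spec _ _ _

include C in
lemma taut_res (hO1 : RelProj.IsRelTwist 𝒮 p chart 1 O1 lam) {φ : E ⟶ (Scheme.Modules.pushforward p).obj O1}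
    (hφ : IsTaut lam j φ) (U : Y.Opens) (hU : IsAffineOpen U) (e m : Γ(E, U)) :
    AModX.res O1 (dOpen_le (p := p) (chart := chart) (j := j) U hU e) (show Γ(O1, p ⁻¹ᵁ U) from φ.app U m) =
      dFun p chart j U hU e (ratio C U hU e m) •
        AModX.res O1 (dOpen_le (p := p) (chart := chart) (j := j) U hU e) (show Γ(O1, p ⁻¹ᵁ U) from φ.app U e) := by
  refine (hO1.bijective U hU _ (dOpen_le (p := p) (chart := chart) (j := j) U hU e)).1 (ProjX.twist_ext fun y => ?_)
  have hy : y.1 ∈ Proj.basicOpen (𝒮.deg U hU) (gen j e) :=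
    ((RelProj.emb p chart U hU).preimage_image_eq _).le y.2
  show ProjX.cval lam U hU _ y = ProjX.cval lam U hU _ y
  rw [ProjX.cval_smul, emb_app_dFun U hU e _ y hy]
  unfold ProjX.cval
  rw [ProjX.val_lam_res, ProjX.val_lam_res]
  have hm := hφ U hU m ⟨y.1, (RelProj.emb p chart U hU).preimage_mono (dOpen_le (j := j) U hU e) y.2⟩
  have he := hφ U hU e ⟨y.1, (RelProj.emb p chart U hU).preimage_mono (dOpen_le (j := j) U hU e) y.2⟩
  refine hm.trans (Eq.trans ?_ (congrArg (_ * ·) he).symm)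
  exact (frac_mul_self (gen_mem C hU e) (show gen j m ∈ 𝒮.deg U hU (1 • 1) by rw [one_smul]; exact gen_mem C hU m) y.1 hy).symm

lemma awayMk_add {A σ : Type u} [CommRing A] [SetLike σ A] [AddSubgroupClass σ A] {𝒜 : ℕ → σ} [GradedRing 𝒜]
    {t : A} {d : ℕ} (ht : t ∈ 𝒜 d) (k : ℕ) (a b : A) (ha : a ∈ 𝒜 (k • d)) (hb : b ∈ 𝒜 (k • d)) :
    Away.mk 𝒜 ht k (a + b) (add_mem ha hb) = Away.mk 𝒜 ht k a ha + Away.mk 𝒜 ht k b hb :=
  HomogeneousLocalization.val_injective _ (by
    rw [HomogeneousLocalization.val_add, Away.val_mk, Away.val_mk, Away.val_mk, Localization.add_mk_self])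

include C in
/-- A homomorphism out of the fractions is determined by scalars and degree one ratios. -/
theorem away_hom_ext (U : Y.Opens) (hU : IsAffineOpen U) (e : Γ(E, U)) {B : Type u} [CommRing B]
    (ρ₁ ρ₂ : Away (𝒮.deg U hU) (gen j e) →+* B)
    (h0 : ∀ r, ρ₁ (fromZeroRingHom (𝒮.deg U hU) _ ((𝒮.strZero U hU).hom r)) =
      ρ₂ (fromZeroRingHom (𝒮.deg U hU) _ ((𝒮.strZero U hU).hom r)))
    (h1 : ∀ m, ρ₁ (ratio C U hU e m) = ρ₂ (ratio C U hU e m)) : ρ₁ = ρ₂ := by
  let a : Y.AffineZariskiSite := ⟨U, hU⟩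
  let φ : 𝒮.presheaf.obj (op U) ≃+* SymmetricAlgebra Γ(Y, U) Γ(E, U) := (C.φ a).commRingCatIsoToRingEquiv
  have key : ∀ (k : ℕ) (x : SymmetricAlgebra Γ(Y, U) Γ(E, U)), x ∈ symDeg Γ(Y, U) Γ(E, U) k →
      ∀ hx' : φ.symm x ∈ 𝒮.deg U hU (k • 1),
        ρ₁ (Away.mk _ (gen_mem C hU e) k (φ.symm x) hx') = ρ₂ (Away.mk _ (gen_mem C hU e) k (φ.symm x) hx') := by
    intro k x hx
    induction hx using Submodule.pow_induction_on_left' with
    | algebraMap r =>
      intro hx'
      have : Away.mk _ (gen_mem C hU e) 0 (φ.symm (algebraMap _ _ r)) hx' =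
          fromZeroRingHom (𝒮.deg U hU) _ ((𝒮.strZero U hU).hom r) := by
        refine HomogeneousLocalization.val_injective _ ?_
        rw [Away.val_mk]
        show _ = Localization.mk ((𝒮.str.app (op U)).hom r) 1
        have hr : φ.symm (algebraMap _ _ r) = (𝒮.str.app (op U)).hom r := by
          rw [RingEquiv.symm_apply_eq]
          exact congr($(C.str a).hom r).symm
        refine congr_arg₂ Localization.mk hr (Subtype.ext (pow_zero _))
      rw [this]
      exact h0 r
    | add x y i hx hy ihx ihy =>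
      intro hx'
      have mx : φ.symm x ∈ 𝒮.deg U hU (i • 1) := by
        rw [smul_eq_mul, mul_one]
        exact (C.deg_iff a i _).2 (by show φ (φ.symm x) ∈ _; rw [φ.apply_symm_apply]; exact hx)
      have my : φ.symm y ∈ 𝒮.deg U hU (i • 1) := by
        rw [smul_eq_mul, mul_one]
        exact (C.deg_iff a i _).2 (by show φ (φ.symm y) ∈ _; rw [φ.apply_symm_apply]; exact hy)
      have := awayMk_add (gen_mem C hU e) i _ _ mx my
      simp only [← map_add] at this
      rw [this, map_add, map_add, ihx mx, ihy my]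
    | mem_mul m hm i x hx ih =>
      obtain ⟨m, rfl⟩ := hm
      intro hx'
      have mx : φ.symm x ∈ 𝒮.deg U hU (i • 1) := by
        rw [smul_eq_mul, mul_one]
        exact (C.deg_iff a i _).2 (by show φ (φ.symm x) ∈ _; rw [φ.apply_symm_apply]; exact hx)
      have hm' : φ.symm (SymmetricAlgebra.ι Γ(Y, U) Γ(E, U) m) = gen j m := by
        rw [RingEquiv.symm_apply_eq]
        exact (C.j_app a m).symm
      have : Away.mk _ (gen_mem C hU e) i.succ (φ.symm (SymmetricAlgebra.ι _ _ m * x)) hx' =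
          ratio C U hU e m * Away.mk _ (gen_mem C hU e) i (φ.symm x) mx := by
        refine HomogeneousLocalization.val_injective _ ?_
        rw [HomogeneousLocalization.val_mul, ratio, Away.val_mk, Away.val_mk, Away.val_mk, Localization.mk_mul]
        refine congr_arg₂ Localization.mk ?_ (Subtype.ext ?_)
        · rw [map_mul, hm']
        · show gen j e ^ (i + 1) = gen j e ^ 1 * gen j e ^ i
          rw [pow_one, pow_succ']
      rw [this, map_mul, map_mul, ih mx, h1]
  refine RingHom.ext fun z => ?_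
  obtain ⟨k, x, hx, rfl⟩ := Away.mk_surjective (𝒮.deg U hU) (gen_mem C hU e) z
  have hk : x ∈ 𝒮.deg U hU k := by rwa [smul_eq_mul, mul_one] at hx
  have := key k (φ x) ((C.deg_iff a k x).1 hk)
  simp only [φ.symm_apply_apply] at this
  exact this hx

include C in
/-- The homomorphism out of the fractions with prescribed scalars and ratios. -/
theorem exists_away_hom (U : Y.Opens) (hU : IsAffineOpen U) (e : Γ(E, U)) {B : Type u} [CommRing B]
    (τ : Γ(Y, U) →+* B) (c : Γ(E, U) →+ B) (hc : ∀ r m, c (r • m) = τ r * c m) (he : c e = 1) :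
    ∃ ρ : Away (𝒮.deg U hU) (gen j e) →+* B,
      (∀ r, ρ (fromZeroRingHom (𝒮.deg U hU) _ ((𝒮.strZero U hU).hom r)) = τ r) ∧
      ∀ m, ρ (ratio C U hU e m) = c m := by
  let a : Y.AffineZariskiSite := ⟨U, hU⟩
  letI := τ.toAlgebra
  let cl : Γ(E, U) →ₗ[Γ(Y, U)] B := { c with map_smul' := fun r m => hc r m }
  let ψ : 𝒮.presheaf.obj (op U) →+* B :=
    (SymmetricAlgebra.lift cl).toRingHom.comp (C.φ a).commRingCatIsoToRingEquiv.toRingHom
  have hψ : ∀ m, ψ (gen j m) = c m := fun m => by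
    show SymmetricAlgebra.lift cl ((C.φ a).hom (j.app U m)) = _
    rw [C.j_app a m]
    exact SymmetricAlgebra.lift_ι_apply cl m
  have hψr : ∀ r, ψ ((𝒮.str.app (op U)).hom r) = τ r := fun r => by
    show SymmetricAlgebra.lift cl ((C.φ a).hom ((𝒮.str.app (op U)).hom r)) = _
    rw [show (C.φ a).hom ((𝒮.str.app (op U)).hom r) =
      algebraMap Γ(Y, U) (SymmetricAlgebra Γ(Y, U) Γ(E, U)) r from congr($(C.str a).hom r)]
    exact AlgHom.commutes _ r
  have hu : IsUnit (ψ (gen j e)) := by rw [hψ, he]; exact isUnit_one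
  let L : Localization.Away (gen j e) →+* B := IsLocalization.Away.lift (gen j e) hu
  have hL : ∀ x, L (algebraMap _ _ x) = ψ x := fun x => IsLocalization.Away.lift_eq _ hu x
  refine ⟨L.comp (algebraMap (Away (𝒮.deg U hU) (gen j e)) (Localization.Away (gen j e))), fun r => ?_, fun m => ?_⟩
  · refine Eq.trans ?_ ((hL _).trans (hψr r))
    exact congrArg L (Localization.mk_one_eq_algebraMap _)
  · show L (ratio C U hU e m).val = _
    rw [ratio, Away.val_mk, Localization.mk_eq_mk']
    have := congrArg L (IsLocalization.mk'_spec (Localization.Away (gen j e)) (gen j m)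
      (⟨gen j e ^ 1, ⟨1, rfl⟩⟩ : Submonoid.powers (gen j e)))
    have h2 : ψ (gen j e ^ 1) = 1 := by rw [pow_one, hψ, he]
    rw [map_mul, hL, hL, h2, hψ, mul_one] at this
    exact this

end Groth.Agent.SymX
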